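import Mathlib

/-! Dual pairs of elementary abelian `2`-groups with a group acting; Fourier lemma. -/

set_option autoImplicit false
set_option linter.unusedSectionVars false

namespace Cfsg.Agent.P10K

open Finset

theorem z2 (t : ZMod 2) : t = 0 ∨ t = 1 := by revert t; decide

theorem z2_ne {t : ZMod 2} : t ≠ 0 ↔ t = 1 := by revert t; decide

theorem z2_add_self (t : ZMod 2) : t + t = 0 := by revert t; decide

/-- The sign character. -/
def chi (t : ZMod 2) : ℤ := if t = 0 then 1 else -1

theorem chi_add (s t : ZMod 2) : chi (s + t) = chi s * chi t := by revert s t; decide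

@[simp] theorem chi_zero : chi 0 = 1 := rfl

@[simp] theorem chi_one : chi 1 = -1 := by decide

section Basic

variable {V : Type*} [AddCommGroup V] [Module (ZMod 2) V]

theorem add_self (v : V) : v + v = 0 := ZModModule.add_self v

theorem add_add_cancel (u v : V) : u + (u + v) = v := by rw [← add_assoc, add_self, zero_add]

theorem add_add_cancel' (u v : V) : u + v + v = u := by rw [add_assoc, add_self, add_zero]

theorem add_eq_zero_iff {u v : V} : u + v = 0 ↔ u = v :=
  ⟨fun h => by rw [← add_add_cancel' u v, h, zero_add], fun h => h ▸ add_self u⟩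

theorem neg_eq (v : V) : -v = v := ZModModule.neg_eq_self v

/-- `U + ⟨a⟩`. -/
def adj (U : AddSubgroup V) (a : V) : AddSubgroup V where
  carrier := {v | v ∈ U ∨ v + a ∈ U}
  zero_mem' := Or.inl U.zero_mem
  neg_mem' := fun {v} hv => by rwa [neg_eq]
  add_mem' := by
    rintro u v (hu | hu) (hv | hv)
    · exact Or.inl (U.add_mem hu hv)
    · exact Or.inr (by rw [add_assoc]; exact U.add_mem hu hv)
    · exact Or.inr (by rw [add_right_comm]; exact U.add_mem hu hv)
    · refine Or.inl ?_
      have := U.add_mem hu hv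
      rwa [add_add_add_comm, add_self, add_zero] at this

theorem mem_adj {U : AddSubgroup V} {a v : V} : v ∈ adj U a ↔ v ∈ U ∨ v + a ∈ U := Iff.rfl

theorem le_adj (U : AddSubgroup V) (a : V) : U ≤ adj U a := fun _ h => Or.inl h

theorem self_mem_adj (U : AddSubgroup V) (a : V) : a ∈ adj U a :=
  Or.inr (by rw [add_self]; exact U.zero_mem)

theorem adj_le {U W : AddSubgroup V} {a : V} (h : U ≤ W) (ha : a ∈ W) : adj U a ≤ W := by
  rintro v (hv | hv)
  · exact h hv
  · rw [← add_add_cancel' v a]; exact W.add_mem (h hv) ha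

theorem mem_adj_bot {a v : V} : v ∈ adj ⊥ a ↔ v = 0 ∨ v = a := by
  rw [mem_adj, AddSubgroup.mem_bot, AddSubgroup.mem_bot, add_eq_zero_iff]

theorem ncard_coe (U : AddSubgroup V) : (U : Set V).ncard = Nat.card U := rfl

theorem ncard_shift (U : AddSubgroup V) (a : V) : {v | v + a ∈ U}.ncard = Nat.card U := by
  have : {v | v + a ∈ U} = (· + a) '' (U : Set V) := by
    ext v
    constructor
    · intro h; exact ⟨v + a, h, add_add_cancel' v a⟩
    · rintro ⟨u, hu, rfl⟩
      change u + a + a ∈ U
      rwa [add_add_cancel']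
  rw [this, Set.ncard_image_of_injective _ (add_left_injective a), ncard_coe]

theorem card_adj [Finite V] {U : AddSubgroup V} {a : V} (ha : a ∉ U) :
    Nat.card (adj U a) = 2 * Nat.card U := by
  have h1 : (adj U a : Set V) = (U : Set V) ∪ {v | v + a ∈ U} := rfl
  rw [← ncard_coe, h1, Set.ncard_union_eq, ncard_shift, ncard_coe, two_mul]
  rw [Set.disjoint_left]
  intro v hv hv'
  apply ha
  rw [← add_add_cancel v a]
  exact U.add_mem hv hv'

theorem card_adj_le [Finite V] (U : AddSubgroup V) (a : V) :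
    Nat.card (adj U a) ≤ 2 * Nat.card U := by
  by_cases ha : a ∈ U
  · have : adj U a = U := le_antisymm (adj_le le_rfl ha) (le_adj U a)
    rw [this]; omega
  · exact (card_adj ha).le

theorem card_adj_bot [Finite V] {a : V} (ha : a ≠ 0) : Nat.card (adj ⊥ a) = 2 := by
  rw [card_adj (by simpa using ha), AddSubgroup.card_bot]

theorem eq_of_le_of_card [Finite V] {U W : AddSubgroup V} (h : U ≤ W)
    (hc : Nat.card W ≤ Nat.card U) : U = W := AddSubgroup.eq_of_le_of_card_ge h hc

/-- A subgroup of index two is maximal. -/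
theorem eq_of_card_two [Finite V] {A B C : AddSubgroup V} (h1 : A ≤ B) (h2 : B ≤ C) (hne : A ≠ B)
    (hc : Nat.card C = 2 * Nat.card A) : B = C := by
  obtain ⟨b, hb, hbA⟩ := SetLike.exists_of_lt (lt_of_le_of_ne h1 hne)
  have h3 : adj A b ≤ B := adj_le h1 hb
  have h4 := AddSubgroup.card_le_of_le h3
  rw [card_adj hbA] at h4
  exact eq_of_le_of_card h2 (by omega)

theorem ncard_diff [Finite V] {A B : AddSubgroup V} :
    {v | v ∈ B ∧ v ∉ A}.ncard + Nat.card (A ⊓ B : AddSubgroup V) = Nat.card B := by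
  have := Set.ncard_inter_add_ncard_sdiff_eq_ncard (B : Set V) (A : Set V)
  rw [add_comm, Set.inter_comm] at this
  exact this

open Classical in
theorem sum_chi [Fintype V] (U : AddSubgroup V) (φ : V →+ ZMod 2) :
    ∑ v, (if v ∈ U then chi (φ v) else 0) =
      if ∀ u ∈ U, φ u = 0 then (Nat.card U : ℤ) else 0 := by
  split_ifs with h
  · rw [Finset.sum_congr rfl (g := fun v => if v ∈ U then (1 : ℤ) else 0)]
    · rw [Finset.sum_boole, ← ncard_coe, Set.ncard_eq_toFinset_card']
      congr 2
      ext; simp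
    · intro v _
      split_ifs with hv
      · rw [h v hv, chi_zero]
      · rfl
  · push Not at h
    obtain ⟨u, hu, hu1⟩ := h
    rw [z2_ne] at hu1
    have h1 := Equiv.sum_comp (Equiv.addRight u) (fun v => if v ∈ U then chi (φ v) else 0)
    have h2 : ∑ v, (if (Equiv.addRight u) v ∈ U then chi (φ ((Equiv.addRight u) v)) else 0) =
        - ∑ v, (if v ∈ U then chi (φ v) else 0) := by
      rw [← Finset.sum_neg_distrib]
      refine Finset.sum_congr rfl fun v _ => ?_
      simp only [Equiv.coe_addRight, U.add_mem_cancel_right hu, map_add, chi_add, hu1, chi_one]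
      split_ifs <;> simp
    simp only [h2] at h1
    omega

theorem dcount {α β : Type*} [Finite α] [Finite β] (s : Set α) (t : Set β) (r : α → β → Prop)
    {m n : ℕ} (hm : ∀ a ∈ s, {b | b ∈ t ∧ r a b}.ncard = m)
    (hn : ∀ b ∈ t, {a | a ∈ s ∧ r a b}.ncard = n) : s.ncard * m = t.ncard * n := by
  classical
  have := Fintype.ofFinite α
  have := Fintype.ofFinite β
  rw [Set.ncard_eq_toFinset_card', Set.ncard_eq_toFinset_card']
  refine Finset.card_mul_eq_card_mul r (fun a ha => ?_) (fun b hb => ?_)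
  · rw [← hm a (by simpa using ha), Set.ncard_eq_toFinset_card']
    congr 1; ext; simp
  · rw [← hn b (by simpa using hb), Set.ncard_eq_toFinset_card']
    congr 1; ext; simp

end Basic

/-- A perfect invariant pairing. -/
structure Pairing (G V V' : Type*) [Group G] [AddCommGroup V] [AddCommGroup V']
    [DistribMulAction G V] [DistribMulAction G V'] where
  b : V →+ V' →+ ZMod 2
  nd : ∀ v, (∀ l, b v l = 0) → v = 0
  nd' : ∀ l, (∀ v, b v l = 0) → l = 0
  inv : ∀ (g : G) v l, b (g • v) (g • l) = b v l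

namespace Pairing

variable {G V V' : Type*} [Group G] [AddCommGroup V] [AddCommGroup V']
  [DistribMulAction G V] [DistribMulAction G V'] [Module (ZMod 2) V] [Module (ZMod 2) V']
  (P : Pairing G V V')

/-- The flipped pairing. -/
def flip : Pairing G V' V where
  b := P.b.flip
  nd := P.nd'
  nd' := P.nd
  inv := fun g l v => P.inv g v l

@[simp] theorem flip_b (l : V') (v : V) : P.flip.b l v = P.b v l := rfl

@[simp] theorem flip_flip : P.flip.flip = P := rfl

theorem inv' (g : G) (v : V) (l : V') : P.b (g • v) l = P.b v (g⁻¹ • l) := by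
  rw [← P.inv g v, smul_inv_smul]

/-- The annihilator. -/
def perp (S : Set V) : AddSubgroup V' where
  carrier := {l | ∀ v ∈ S, P.b v l = 0}
  zero_mem' := fun v _ => map_zero _
  add_mem' := fun {l m} hl hm v hv => by rw [map_add, hl v hv, hm v hv, add_zero]
  neg_mem' := fun {l} hl v hv => by rw [map_neg, hl v hv, neg_zero]

theorem mem_perp {S : Set V} {l : V'} : l ∈ P.perp S ↔ ∀ v ∈ S, P.b v l = 0 := Iff.rfl

theorem mem_perp_one {x : V} {l : V'} : l ∈ P.perp {x} ↔ P.b x l = 0 := by
  simp [mem_perp]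

theorem perp_anti {S T : Set V} (h : S ⊆ T) : P.perp T ≤ P.perp S :=
  fun _ hl v hv => hl v (h hv)

theorem le_perp_perp (S : Set V) : S ⊆ P.flip.perp (P.perp S) := fun v hv _ hl => hl v hv

theorem perp_adj_bot (x : V) : P.perp (adj ⊥ x : AddSubgroup V) = P.perp {x} := by
  ext l
  rw [mem_perp_one, mem_perp]
  refine ⟨fun h => h x (self_mem_adj _ _), fun h v hv => ?_⟩
  rcases mem_adj_bot.1 hv with rfl | rfl
  · simp
  · exact h

open Classical in
theorem sum_perp [Fintype V] (U : AddSubgroup V) (k : V') :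
    ∑ v, (if v ∈ U then chi (P.b v k) else 0) = if k ∈ P.perp U then (Nat.card U : ℤ) else 0 := by
  have h := sum_chi U (P.b.flip k)
  by_cases hk : k ∈ P.perp U
  · rw [if_pos hk]; exact h.trans (if_pos hk)
  · rw [if_neg hk]; exact h.trans (if_neg hk)

open Classical in
theorem sum_top [Fintype V] (k : V') :
    ∑ v, chi (P.b v k) = if k = 0 then (Nat.card V : ℤ) else 0 := by
  have h := P.sum_perp ⊤ k
  have e3 : k ∈ P.perp (⊤ : AddSubgroup V) ↔ k = 0 :=
    ⟨fun h => P.nd' k fun v => h v trivial, fun h => by simp [h]⟩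
  rw [AddSubgroup.card_top] at h
  simp only [e3, AddSubgroup.mem_top, if_true] at h
  exact h

variable [Finite V] [Finite V']

theorem card_mul_perp (U : AddSubgroup V) : Nat.card U * Nat.card (P.perp U) = Nat.card V' := by
  classical
  have := Fintype.ofFinite V
  have := Fintype.ofFinite V'
  have h1 : ∑ v : V, ∑ l : V', (if v ∈ U then chi (P.b v l) else 0) = Nat.card V' := by
    rw [Finset.sum_eq_single 0]
    · simp
    · intro v _ hv
      have h := sum_chi (⊤ : AddSubgroup V') (P.b v)
      rw [if_neg (fun h => hv (P.nd v fun l => h l trivial))] at h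
      by_cases hU : v ∈ U
      · simpa [hU] using h
      · simp [hU]
    · simp
  rw [Finset.sum_comm] at h1
  have h2 : ∀ l : V', ∑ v : V, (if v ∈ U then chi (P.b v l) else 0) =
      (Nat.card U : ℤ) * (if l ∈ P.perp U then chi ((0 : V' →+ ZMod 2) l) else 0) := by
    intro l
    rw [P.sum_perp]
    split_ifs <;> simp
  simp only [h2, ← Finset.mul_sum] at h1
  rw [sum_chi, if_pos (by simp)] at h1
  exact_mod_cast h1

include P in
theorem card_eq : Nat.card V' = Nat.card V := by
  have h1 := P.card_mul_perp ⊤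
  have h2 : P.perp (⊤ : AddSubgroup V) = ⊥ :=
    eq_bot_iff.2 fun l hl => P.nd' l fun v => hl v trivial
  rw [h2, AddSubgroup.card_bot, AddSubgroup.card_top, mul_one] at h1
  exact h1.symm

theorem card_mul_perp' (U : AddSubgroup V) : Nat.card U * Nat.card (P.perp U) = Nat.card V := by
  rw [P.card_mul_perp, P.card_eq]

theorem perp_perp (U : AddSubgroup V) : P.flip.perp (P.perp U) = U := by
  refine (eq_of_le_of_card (P.le_perp_perp U) ?_).symm
  have h1 := P.card_mul_perp' U
  have h2 := P.flip.card_mul_perp (P.perp U)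
  have h3 : 0 < Nat.card (P.perp U) := Nat.card_pos
  rw [← h1, mul_comm] at h2
  exact (Nat.eq_of_mul_eq_mul_right h3 h2).le

theorem exists_of_not_mem {U : AddSubgroup V} {v : V} (hv : v ∉ U) :
    ∃ l ∈ P.perp U, P.b v l = 1 := by
  rw [← P.perp_perp U] at hv
  by_contra h
  push Not at h
  exact hv fun l hl => (z2 _).resolve_right (h l hl)

theorem perp_le_iff {U : AddSubgroup V} {S : AddSubgroup V'} :
    P.perp U ≤ S ↔ P.flip.perp S ≤ U := by
  constructor
  · intro h; rw [← P.perp_perp U]; exact P.flip.perp_anti h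
  · intro h
    have := P.flip.perp_perp S
    rw [flip_flip] at this
    rw [← this]; exact P.perp_anti h

theorem two_mul_card_perp {x : V} (hx : x ≠ 0) : 2 * Nat.card (P.perp {x}) = Nat.card V := by
  rw [← P.card_mul_perp' (adj ⊥ x), card_adj_bot hx, perp_adj_bot]

theorem mem_perp_perp_one {x v : V} : v ∈ P.flip.perp (P.perp {x}) ↔ v = 0 ∨ v = x := by
  rw [← perp_adj_bot, perp_perp, mem_adj_bot]

open Classical in
/-- Fourier transform of an indicator function. -/
noncomputable def ft (O : Set V') (v : V) : ℤ :=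
  ∑ l ∈ O.toFinite.toFinset, chi (P.b v l)

theorem ft_smul {O : Set V'} {g : G} (h : ∀ l, g • l ∈ O ↔ l ∈ O) (v : V) :
    P.ft O (g • v) = P.ft O v := by
  unfold ft
  symm
  refine Finset.sum_bij (fun l _ => g • l) ?_ ?_ ?_ ?_
  · intro l hl; simpa [h] using hl
  · intro l _ m _ e; exact MulAction.injective g e
  · intro l hl; exact ⟨g⁻¹ • l, by simpa [← h (g⁻¹ • l)] using hl, smul_inv_smul g l⟩
  · intro l _; rw [P.inv]

theorem ft_perp {O : Set V'} {v : V} (h : ∀ l ∈ O, P.b v l = 0) : P.ft O v = P.ft O 0 := by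
  unfold ft
  refine Finset.sum_congr rfl fun l hl => ?_
  rw [h l (by simpa using hl)]; simp

theorem ft_per {O : Set V'} {v : V} {m : V'} (h : ∀ l ∈ O, l + m ∈ O) (hm : P.b v m = 1) :
    P.ft O v = 0 := by
  unfold ft
  refine Finset.sum_involution (fun l _ => l + m) ?_ ?_ ?_ ?_
  · intro l _; rw [map_add, chi_add, hm]; simp
  · intro l _ _ e
    have : m = 0 := by simpa using e
    rw [this, map_zero] at hm
    exact zero_ne_one hm
  · intro l hl; simpa using h l (by simpa using hl)
  · intro l _; exact add_add_cancel' l m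

/-- The Fourier lemma. -/
theorem fourier {O : Set V'} {A B : AddSubgroup V} (hAB : A ≤ B)
    (hA : ∀ u ∈ A, P.ft O u = P.ft O 0)
    (hB : ∀ u ∈ B, ∀ v ∈ B, u ∉ A → v ∉ A → P.ft O u = P.ft O v)
    (hC : ∀ u v, u ∉ B → v ∉ B → P.ft O u = P.ft O v) {l m : V'}
    (h1 : l ∈ P.perp A ↔ m ∈ P.perp A) (h2 : l ∈ P.perp B ↔ m ∈ P.perp B) (h3 : l = 0 ↔ m = 0)
    (hl : l ∈ O) : m ∈ O := by
  classical
  have := Fintype.ofFinite V
  obtain ⟨β, hβ⟩ : ∃ β, ∀ u ∈ B, u ∉ A → P.ft O u = β := by
    by_cases h : ∃ v ∈ B, v ∉ A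
    · obtain ⟨v, hv, hv'⟩ := h
      exact ⟨_, fun u hu hu' => hB u hu v hv hu' hv'⟩
    · exact ⟨0, fun u hu hu' => absurd ⟨u, hu, hu'⟩ h⟩
  obtain ⟨γ, hγ⟩ : ∃ γ, ∀ u, u ∉ B → P.ft O u = γ := by
    by_cases h : ∃ v, v ∉ B
    · obtain ⟨v, hv⟩ := h
      exact ⟨_, fun u hu => hC u v hu hv⟩
    · exact ⟨0, fun u hu => absurd ⟨u, hu⟩ h⟩
  have key : ∀ k : V', ∑ v, P.ft O v * chi (P.b v k) =
      (P.ft O 0 - β) * (if k ∈ P.perp A then (Nat.card A : ℤ) else 0) +
        (β - γ) * (if k ∈ P.perp B then (Nat.card B : ℤ) else 0) +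
        γ * (if k = 0 then (Nat.card V : ℤ) else 0) := by
    intro k
    rw [← P.sum_perp, ← P.sum_perp, ← P.sum_top, Finset.mul_sum, Finset.mul_sum, Finset.mul_sum, ← Finset.sum_add_distrib,
      ← Finset.sum_add_distrib]
    refine Finset.sum_congr rfl fun v _ => ?_
    by_cases hvA : v ∈ A
    · simp only [hvA, hAB hvA, if_true, hA v hvA]; ring
    by_cases hvB : v ∈ B
    · simp only [hvA, hvB, if_true, if_false, hβ v hvB hvA]; ring
    · simp only [hvA, hvB, if_false, hγ v hvB]; ring
  have key2 : ∀ k : V', ∑ v, P.ft O v * chi (P.b v k) =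
      if k ∈ O then (Nat.card V : ℤ) else 0 := by
    intro k
    unfold ft
    simp only [Finset.sum_mul, ← chi_add, ← map_add]
    rw [Finset.sum_comm]
    have a : ∀ j : V', ∑ v, chi (P.b v (j + k)) = if k = j then (Nat.card V : ℤ) else 0 := by
      intro j
      rw [P.sum_top]
      simp only [add_eq_zero_iff, eq_comm]
    simp only [a]
    rw [Finset.sum_ite_eq]
    simp
  have e : ∑ v, P.ft O v * chi (P.b v l) = ∑ v, P.ft O v * chi (P.b v m) := by
    rw [key, key]
    simp only [h1, h2, h3]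
  rw [key2, key2, if_pos hl] at e
  by_contra hm
  rw [if_neg hm] at e
  have : 0 < Nat.card V := Nat.card_pos
  omega

end Pairing

end Cfsg.Agent.P10K
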