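import Cfsg.Agent.P10.K0

/-! Doubly transitive linear groups over `F₂`: flags, subgroups of odd index. -/

set_option autoImplicit false
set_option linter.unusedSectionVars false

namespace Cfsg.Agent.P10K

open MulAction

section Index

variable {G X : Type*} [Group G] [Finite G] [MulAction G X]

theorem index_inf_stab (K : Subgroup G) (x : X) {S : Set X}
    (h : ∀ y, y ∈ S ↔ ∃ k ∈ K, k • x = y) :
    (K ⊓ stabilizer G x).index = K.index * S.ncard := by
  rw [← Subgroup.relIndex_mul_index (inf_le_left : K ⊓ stabilizer G x ≤ K),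
    Subgroup.inf_relIndex_left, mul_comm]
  congr 1
  have h1 : S = orbit K x := by
    ext y
    rw [h]
    exact ⟨fun ⟨k, hk, e⟩ => ⟨⟨k, hk⟩, e⟩, fun ⟨k, e⟩ => ⟨k, k.2, e⟩⟩
  rw [h1, ← index_stabilizer]
  rfl

theorem ncard_dvd_card (K : Subgroup G) (x : X) {S : Set X}
    (h : ∀ y, y ∈ S ↔ ∃ k ∈ K, k • x = y) : S.ncard ∣ Nat.card G :=
  (Dvd.intro_left _ (index_inf_stab K x h).symm).trans (Subgroup.index_dvd_card _)

/-- A subgroup of odd index is transitive on orbits of `2`-power length. -/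
theorem trans_of_odd {K H : Subgroup G} (hKH : K ≤ H) (hK : Odd K.index) {x : X} {S : Set X}
    (h : ∀ y, y ∈ S ↔ ∃ k ∈ H, k • x = y) {a : ℕ} (hS : S.ncard ∣ 2 ^ a) {y : X} (hy : y ∈ S) :
    ∃ k ∈ K, k • x = y := by
  set S' : Set X := {y | ∃ k ∈ K, k • x = y}
  have h1 := index_inf_stab K x (S := S') fun _ => Iff.rfl
  have h2 := index_inf_stab H x h
  have h3 : (H ⊓ stabilizer G x).index ∣ (K ⊓ stabilizer G x).index :=
    Subgroup.index_dvd_of_le (inf_le_inf_right _ hKH)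
  rw [h1, h2] at h3
  have h4 : S.ncard ∣ K.index * S'.ncard := (Dvd.intro_left _ rfl).trans h3
  have h5 : S.ncard.Coprime K.index :=
    Nat.Coprime.coprime_dvd_left hS (Nat.Coprime.pow_left a (Nat.coprime_two_left.2 hK))
  have h6 := h5.dvd_of_dvd_mul_left h4
  have hsub : S' ⊆ S := fun y ⟨k, hk, e⟩ => (h y).2 ⟨k, hKH hk, e⟩
  have hfin : S.Finite := (Set.finite_range fun g : G => g • x).subset fun y hy => by
    obtain ⟨k, -, e⟩ := (h y).1 hy
    exact ⟨k, e⟩
  have hpos : 0 < S'.ncard :=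
    (Set.ncard_pos (hfin.subset hsub)).2 ⟨x, 1, K.one_mem, one_smul _ _⟩
  have := Set.eq_of_subset_of_ncard_le hsub (Nat.le_of_dvd hpos h6) hfin
  rw [← this] at hy
  exact hy

end Index

section Tr

variable {G V : Type*} [Group G] [AddCommGroup V] [DistribMulAction G V] [Module (ZMod 2) V]

/-- Linear independence of two vectors. -/
def Ind (x y : V) : Prop := x ≠ 0 ∧ y ≠ 0 ∧ x ≠ y

theorem Ind.symm {x y : V} (h : Ind x y) : Ind y x := ⟨h.2.1, h.1, h.2.2.symm⟩

theorem Ind.add {x y : V} (h : Ind x y) : Ind x (x + y) :=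
  ⟨h.1, fun e => h.2.2 (add_eq_zero_iff.1 e), fun e => h.2.1 (by simpa using e)⟩

theorem ind_add_iff {x y : V} : Ind x (x + y) ↔ Ind x y :=
  ⟨fun h => by simpa [add_add_cancel] using h.add, Ind.add⟩

theorem ind_smul (g : G) {x y : V} : Ind (g • x) (g • y) ↔ Ind x y := by
  simp [Ind, smul_eq_zero_iff_eq]

variable (V) in
/-- Transitivity on nonzero vectors. -/
def Tr1 (K : Subgroup G) : Prop := ∀ v w : V, v ≠ 0 → w ≠ 0 → ∃ g ∈ K, g • v = w

variable (G V) in
/-- Double transitivity on nonzero vectors. -/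
def Tr2 : Prop := ∀ x y x' y' : V, Ind x y → Ind x' y' → ∃ g : G, g • x = x' ∧ g • y = y'

theorem exists_ind [Finite V] (h : 2 < Nat.card V) {x : V} (hx : x ≠ 0) : ∃ y, Ind x y := by
  by_contra hc
  push Not at hc
  have h1 : adj ⊥ x = ⊤ := eq_top_iff.2 fun y _ => mem_adj_bot.2 (by
    by_contra h
    push Not at h
    exact hc y ⟨hx, h.1, Ne.symm h.2⟩)
  have h2 := card_adj_bot hx
  rw [h1, AddSubgroup.card_top] at h2
  omega

theorem Tr2.tr1 [Finite V] (h : Tr2 G V) (hc : 2 < Nat.card V) : Tr1 V (⊤ : Subgroup G) := by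
  intro v w hv hw
  obtain ⟨a, ha⟩ := exists_ind hc hv
  obtain ⟨b, hb⟩ := exists_ind hc hw
  obtain ⟨g, h1, -⟩ := h v a w b ha hb
  exact ⟨g, trivial, h1⟩

variable (G) in
/-- The stabilizer of a point and a line through it. -/
def Sl (x y : V) : Subgroup G where
  carrier := {g | g • x = x ∧ (g • y = y ∨ g • y = x + y)}
  one_mem' := ⟨one_smul _ _, Or.inl (one_smul _ _)⟩
  mul_mem' := by
    rintro a b ⟨ha, ha' | ha'⟩ ⟨hb, hb' | hb'⟩ <;>
      simp [mul_smul, ha, ha', hb, hb', add_add_cancel]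
  inv_mem' := by
    rintro a ⟨ha, ha'⟩
    have h1 : a⁻¹ • x = x := by rw [inv_smul_eq_iff, ha]
    refine ⟨h1, ?_⟩
    rcases ha' with ha' | ha'
    · left; rw [inv_smul_eq_iff, ha']
    · right; rw [inv_smul_eq_iff, smul_add, ha, ha', add_add_cancel]

theorem mem_Sl {x y : V} {g : G} : g ∈ Sl G x y ↔ g • x = x ∧ (g • y = y ∨ g • y = x + y) :=
  Iff.rfl

theorem Sl_add (x y : V) : Sl G x (x + y) = Sl G x y := by
  ext g
  simp only [mem_Sl, smul_add]
  refine and_congr_right fun h => ?_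
  rw [h, add_add_cancel, add_right_inj]
  refine or_congr_right ⟨fun e => ?_, fun e => ?_⟩
  · rw [← add_add_cancel x (g • y), e]
  · rw [e, add_add_cancel]

theorem ncard_ne_zero [Finite V] : {v : V | v ≠ 0}.ncard + 1 = Nat.card V := by
  have := ncard_diff (A := (⊥ : AddSubgroup V)) (B := ⊤)
  simpa using this

theorem ncard_ind [Finite V] {x : V} (hx : x ≠ 0) : {v : V | Ind x v}.ncard + 2 = Nat.card V := by
  have := ncard_diff (A := adj ⊥ x) (B := ⊤)
  rw [inf_top_eq, card_adj_bot hx, AddSubgroup.card_top] at this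
  rw [← this]
  congr 2
  ext v
  simp [mem_adj_bot, Ind, hx, eq_comm]

variable [Finite G] [Finite V]

theorem Tr2.index_stab (h : Tr2 G V) (hc : 2 < Nat.card V) {x : V} (hx : x ≠ 0) :
    (stabilizer G x).index + 1 = Nat.card V := by
  have := index_inf_stab (⊤ : Subgroup G) x (S := {v | v ≠ 0}) fun y =>
    ⟨fun hy => h.tr1 hc x y hx hy, by rintro ⟨k, -, rfl⟩; exact (smul_ne_zero_iff_ne k).2 hx⟩
  rw [top_inf_eq, Subgroup.index_top, one_mul] at this
  rw [this, ncard_ne_zero]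

theorem Tr2.index_stab2 (h : Tr2 G V) {x y : V} (hxy : Ind x y) :
    (stabilizer G x ⊓ stabilizer G y).index = (stabilizer G x).index * (Nat.card V - 2) := by
  have := index_inf_stab (stabilizer G x) y (S := {v | Ind x v}) fun z =>
    ⟨fun hz => by
      obtain ⟨g, h1, h2⟩ := h x y x z hxy hz
      exact ⟨g, h1, h2⟩, by
      rintro ⟨k, hk, rfl⟩
      have := (ind_smul k).2 hxy
      rwa [mem_stabilizer_iff.1 hk] at this⟩
  rw [this, ← ncard_ind hxy.1, Nat.add_sub_cancel]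

/-- A subgroup of odd index fixes at most one nonzero vector. -/
theorem Tr2.eq_of_odd (h : Tr2 G V) (hc : 2 ∣ Nat.card V) {K : Subgroup G} (hK : Odd K.index)
    {x y : V} (hx : x ≠ 0) (hy : y ≠ 0) (h1 : ∀ k ∈ K, k • x = x) (h2 : ∀ k ∈ K, k • y = y) :
    x = y := by
  by_contra hne
  have h3 : (stabilizer G x ⊓ stabilizer G y).index ∣ K.index :=
    Subgroup.index_dvd_of_le fun k hk => ⟨h1 k hk, h2 k hk⟩
  rw [h.index_stab2 ⟨hx, hy, hne⟩] at h3
  exact hK.not_two_dvd_nat (((Nat.dvd_sub hc dvd_rfl).mul_left _).trans h3)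

theorem Tr2.odd_Sl (h : Tr2 G V) (hc : 4 ∣ Nat.card V) {x y : V} (hxy : Ind x y) :
    Odd (Sl G x y).index := by
  obtain ⟨r, hr⟩ := hc
  have hpos : 0 < Nat.card V := Nat.card_pos
  have h1 := h.index_stab (by omega) hxy.1
  have h2 := h.index_stab2 hxy
  have h3 := index_inf_stab (Sl G x y) y (S := {y, x + y}) fun z =>
    ⟨by
      rintro (rfl | rfl)
      · exact ⟨1, Subgroup.one_mem _, one_smul _ _⟩
      · obtain ⟨g, h1, h2⟩ := h x y x (x + y) hxy hxy.add
        exact ⟨g, ⟨h1, Or.inr h2⟩, h2⟩, by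
      rintro ⟨k, hk, rfl⟩
      exact hk.2⟩
  have h4 : Sl G x y ⊓ stabilizer G y = stabilizer G x ⊓ stabilizer G y := by
    ext g
    exact ⟨fun h => ⟨h.1.1, h.2⟩, fun h => ⟨⟨h.1, Or.inl h.2⟩, h.2⟩⟩
  rw [h4, h2, Set.ncard_pair (by simpa using hxy.1)] at h3
  obtain ⟨s, rfl⟩ : ∃ s, r = s + 1 := ⟨r - 1, by omega⟩
  have h5 : (stabilizer G x).index = 4 * s + 3 := by omega
  have h6 : Nat.card V - 2 = (2 * s + 1) * 2 := by omega
  rw [h5, h6, ← mul_assoc] at h3
  rw [← Nat.eq_of_mul_eq_mul_right two_pos h3]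
  exact Odd.mul ⟨2 * s + 1, by ring⟩ ⟨s, rfl⟩

theorem exists_odd_stab (hc : 2 ∣ Nat.card V) {K : Subgroup G} (hK : Odd K.index) :
    ∃ x : V, x ≠ 0 ∧ Odd (K ⊓ stabilizer G x).index := by
  have : Fact (Nat.Prime 2) := ⟨Nat.prime_two⟩
  obtain ⟨S⟩ : Nonempty (Sylow 2 K) := inferInstance
  set R : Subgroup G := (S : Subgroup K).map K.subtype
  have hR : IsPGroup 2 R := S.isPGroup'.map _
  have hi : Odd R.index := by
    rw [Subgroup.index_map_subtype]
    exact Odd.mul (Nat.odd_iff.2 (Nat.two_dvd_ne_zero.1 S.not_dvd_index)) hK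
  obtain ⟨x, hx, hx0⟩ := hR.exists_fixed_point_of_prime_dvd_card_of_fixed_point V hc
    (a := 0) (fun g => smul_zero g)
  refine ⟨x, hx0.symm, Odd.of_dvd_nat hi (Subgroup.index_dvd_of_le fun g hg => ⟨?_, ?_⟩)⟩
  · exact Subgroup.map_subtype_le _ hg
  · exact hx ⟨g, hg⟩

end Tr

namespace Pairing

variable {G V V' : Type*} [Group G] [AddCommGroup V] [AddCommGroup V']
  [DistribMulAction G V] [DistribMulAction G V'] [Module (ZMod 2) V] [Module (ZMod 2) V']
  [Finite G] [Finite V] [Finite V'] (P : Pairing G V V')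

theorem ft_orb (K : Subgroup G) (l : V') {g : G} (hg : g ∈ K) (v : V) :
    P.ft {m | ∃ k ∈ K, k • l = m} (g • v) = P.ft {m | ∃ k ∈ K, k • l = m} v := by
  refine P.ft_smul (fun m => ⟨?_, ?_⟩) v
  · rintro ⟨k, hk, e⟩
    exact ⟨g⁻¹ * k, K.mul_mem (K.inv_mem hg) hk, by rw [mul_smul, e, inv_smul_smul]⟩
  · rintro ⟨k, hk, e⟩
    exact ⟨g * k, K.mul_mem hg hk, by rw [mul_smul, e]⟩

theorem perp_bot : P.perp (⊥ : AddSubgroup V) = ⊤ :=
  eq_top_iff.2 fun l _ v hv => by rw [show v = 0 from hv]; simp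

include P in
theorem tr1_dual {K : Subgroup G} (h : Tr1 V K) : Tr1 V' K := by
  intro l m hl hm
  refine P.fourier (O := {m | ∃ k ∈ K, k • l = m}) (A := ⊥) (B := ⊥) le_rfl
    (fun u hu => by rw [show u = 0 from hu]) (fun u hu _ _ hu' => absurd hu hu') ?_
    (by simp [mem_perp]) (by simp [mem_perp]) (by simp [hl, hm]) ⟨1, K.one_mem, one_smul _ _⟩
  intro u v hu hv
  obtain ⟨g, hg, rfl⟩ := h u v hu hv
  exact (P.ft_orb K l hg u).symm

/-- Transitivity on flags and on antiflags. -/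
theorem flag (h : Tr2 G V) (hc : 2 < Nat.card V) {x x' : V} {l l' : V'} (hx : x ≠ 0)
    (hx' : x' ≠ 0) (hl : l ≠ 0) (hl' : l' ≠ 0) (e : P.b x l = P.b x' l') :
    ∃ g : G, g • x = x' ∧ g • l = l' := by
  obtain ⟨g, -, rfl⟩ := h.tr1 hc x x' hx hx'
  rw [← P.inv g] at e
  obtain ⟨k, hk, e'⟩ := P.fourier (O := {m | ∃ k ∈ stabilizer G (g • x), k • g • l = m})
    (A := ⊥) (B := adj ⊥ (g • x)) bot_le (l := g • l) (m := l')
    (fun u hu => by rw [show u = 0 from hu])
    (fun u hu v hv hu' hv' => by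
      rw [(mem_adj_bot.1 hu).resolve_left hu', (mem_adj_bot.1 hv).resolve_left hv'])
    (fun u v hu hv => by
      rw [mem_adj_bot, not_or] at hu hv
      obtain ⟨k, h1, rfl⟩ := h _ u _ v ⟨hx', hu.1, Ne.symm hu.2⟩ ⟨hx', hv.1, Ne.symm hv.2⟩
      exact (P.ft_orb _ _ h1 u).symm)
    (by simp [mem_perp]) (by rw [perp_adj_bot, mem_perp_one, mem_perp_one, e])
    (by simp [smul_eq_zero_iff_eq, hl, hl']) ⟨1, Subgroup.one_mem _, one_smul _ _⟩
  exact ⟨k * g, by rw [mul_smul, hk], by rw [mul_smul, e']⟩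

include P in
theorem tr2_dual (h : Tr2 G V) (hc : 2 < Nat.card V) : Tr2 G V' := by
  intro l m l' m' h1 h2
  obtain ⟨g, -, rfl⟩ := P.tr1_dual (h.tr1 hc) l l' h1.1 h2.1
  have h3 := (ind_smul g).2 h1
  have hpp : ∀ k : V', k ∈ P.perp (P.flip.perp {g • l}) ↔ k = 0 ∨ k = g • l := fun k =>
    P.flip.mem_perp_perp_one
  obtain ⟨k, hk, e'⟩ := P.fourier (O := {j | ∃ k ∈ stabilizer G (g • l), k • g • m = j})
    (A := ⊥) (B := P.flip.perp {g • l}) bot_le (l := g • m) (m := m')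
    (fun u hu => by rw [show u = 0 from hu])
    (fun u hu v hv hu' hv' => by
      obtain ⟨k, rfl, h1⟩ := P.flag h hc hu' hv' h2.1 h2.1
        ((P.flip.mem_perp_one.1 hu).trans (P.flip.mem_perp_one.1 hv).symm)
      exact (P.ft_orb _ _ h1 u).symm)
    (fun u v hu hv => by
      rw [mem_perp_one, ← Ne, z2_ne] at hu hv
      obtain ⟨k, rfl, h1⟩ := P.flag h hc (x := u) (x' := v) (by rintro rfl; simp at hu)
        (by rintro rfl; simp at hv) h2.1 h2.1 (hu.trans hv.symm)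
      exact (P.ft_orb _ _ h1 u).symm)
    (by simp [mem_perp])
    (by rw [hpp, hpp]; simp only [h3.2.1, h3.2.2.symm, h2.2.1, h2.2.2.symm])
    (by simp only [h3.2.1, h2.2.1]) ⟨1, Subgroup.one_mem _, one_smul _ _⟩
  exact ⟨k * g, by rw [mul_smul, hk], by rw [mul_smul, e']⟩

theorem ncard_hyp (U : AddSubgroup V') {y : V} {m : V'} (hm : m ∈ U) (hy : P.b y m = 1) :
    {l | l ∈ U ∧ P.b y l = 1}.ncard = Nat.card (U ⊓ P.perp {y} : AddSubgroup V') := by
  rw [← ncard_shift _ m]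
  congr 1
  ext l
  simp only [Set.mem_ofPred_eq, AddSubgroup.mem_inf, U.add_mem_cancel_right hm, mem_perp_one,
    map_add, hy, add_eq_zero_iff]

end Pairing

end Cfsg.Agent.P10K
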