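import Cfsg.Agent.P10.K0

/-! Degree of functions to `F₂` through iterated differences. -/

set_option autoImplicit false
set_option linter.unusedSectionVars false

namespace Cfsg.Agent.P10K

/-- All `k`-fold differences vanish. -/
def Deg {A : Type*} [AddCommGroup A] : ℕ → (A → ZMod 2) → Prop
  | 0, f => ∀ v, f v = 0
  | k + 1, f => ∀ a, Deg k fun v => f (v + a) + f v

section

variable {A B : Type*} [AddCommGroup A] [AddCommGroup B]

theorem Deg.of_zero : ∀ (k : ℕ) {f : A → ZMod 2}, (∀ v, f v = 0) → Deg k f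
  | 0, _, h => h
  | k + 1, _, h => fun a => Deg.of_zero k fun v => by rw [h, h, add_zero]

theorem Deg.add : ∀ {k : ℕ} {f g : A → ZMod 2}, Deg k f → Deg k g → Deg k fun v => f v + g v
  | 0, _, _, h1, h2 => fun v => by simp only [h1 v, h2 v, add_zero]
  | k + 1, f, g, h1, h2 => fun a => by
    have := Deg.add (h1 a) (h2 a)
    simp only [add_add_add_comm (f _) (f _)] at this
    exact this

theorem Deg.shift : ∀ {k : ℕ} {f : A → ZMod 2} (c : A), Deg k f → Deg k fun v => f (v + c)
  | 0, _, _, h => fun _ => h _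
  | k + 1, f, c, h => fun a => by
    have := Deg.shift c (h a)
    simp only [add_right_comm _ c a] at this
    exact this

theorem Deg.comp : ∀ {k : ℕ} {f : A → ZMod 2} (φ : B →+ A), Deg k f → Deg k fun v => f (φ v)
  | 0, _, _, h => fun _ => h _
  | k + 1, f, φ, h => fun a => by
    have := Deg.comp φ (h (φ a))
    simp only [← map_add] at this
    exact this

theorem Deg.const (k : ℕ) (c : ZMod 2) : Deg (k + 1) fun _ : A => c :=
  fun _ => Deg.of_zero k fun _ => z2_add_self c

theorem Deg.prod : ∀ (k i j : ℕ) (F : A × B → ZMod 2), i + j ≤ k + 1 →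
    (∀ b, Deg i fun a => F (a, b)) → (∀ a, Deg j fun b => F (a, b)) → Deg k F
  | k, 0, _, _, _, h, _ => Deg.of_zero k fun v => h v.2 v.1
  | k, _ + 1, 0, _, _, _, h => Deg.of_zero k fun v => h v.1 v.2
  | 0, _ + 1, _ + 1, _, h, _, _ => by omega
  | k + 1, i + 1, j + 1, F, h, h1, h2 => fun c => by
    have a1 := Deg.prod k i (j + 1) (fun v => F (v.1 + c.1, v.2 + c.2) + F (v.1, v.2 + c.2))
      (by omega) (fun b => h1 (b + c.2) c.1)
      (fun a => ((h2 (a + c.1)).shift c.2).add ((h2 a).shift c.2))
    have a2 := Deg.prod k (i + 1) j (fun v => F (v.1, v.2 + c.2) + F (v.1, v.2))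
      (by omega) (fun b => (h1 (b + c.2)).add (h1 b)) (fun a => h2 a c.2)
    have a3 := a1.add a2
    have e : ∀ s t u : ZMod 2, s + t + (t + u) = s + u := by decide
    simp only [e] at a3
    exact a3

end

variable {V : Type*} [AddCommGroup V] [Module (ZMod 2) V] [Finite V]

theorem deg_of_periodic : ∀ (k : ℕ) (W : AddSubgroup V) (f : V → ZMod 2),
    (∀ w ∈ W, ∀ v, f (v + w) = f v) → Nat.card V < 2 ^ k * Nat.card W → Deg k f
  | 0, W, _, _, h => by
    have := AddSubgroup.card_le_card_addGroup W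
    omega
  | k + 1, W, f, h, hc => fun a => by
    by_cases ha : a ∈ W
    · exact Deg.of_zero k fun v => by rw [h a ha, z2_add_self]
    refine deg_of_periodic k (adj W a) _ ?_ (by rw [card_adj ha, ← mul_assoc, ← pow_succ]; exact hc)
    rintro w (hw | hw) v
    · simp only [add_right_comm v w a, h w hw]
    · have e1 : f (v + w + a) = f v := by rw [add_assoc, h _ hw]
      have e2 : f (v + w) = f (v + a) := by
        rw [← h _ hw (v + a), add_comm w a, ← add_assoc, add_add_cancel']
      simp only [e1, e2]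
      exact add_comm _ _

open Classical in
theorem card_lt_of_deg : ∀ (k : ℕ) (U : AddSubgroup V),
    Deg k (fun v => if v ∈ U then 1 else 0) → Nat.card V < 2 ^ k * Nat.card U
  | 0, U, h => by simpa [U.zero_mem] using h 0
  | k + 1, U, h => by
    by_cases hU : U = ⊤
    · rw [hU, AddSubgroup.card_top]
      have : 0 < Nat.card V := Nat.card_pos
      have : 1 < 2 ^ (k + 1) := Nat.one_lt_two_pow (by omega)
      nlinarith
    obtain ⟨a, ha⟩ : ∃ a, a ∉ U := by
      by_contra hc
      push Not at hc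
      exact hU (eq_top_iff.2 fun v _ => hc v)
    have h1 := card_lt_of_deg k (adj U a) (by
      convert h a using 2 with v
      rw [mem_adj]
      by_cases h1 : v ∈ U
      · have h2 : v + a ∉ U := fun h2 => ha (by rw [← add_add_cancel v a]; exact U.add_mem h1 h2)
        simp [h1, h2]
      · simp [h1])
    rwa [card_adj ha, ← mul_assoc, ← pow_succ] at h1

/-- The degree bound for a symmetric invariant ternary relation. -/
theorem card_lt_of_rel (Φ : V → V → V → Prop) {k : ℕ}
    (hper : ∀ x y, ∃ W : AddSubgroup V, Nat.card V < 2 ^ (k + 1) * Nat.card W ∧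
      ∀ z, Φ x y z ↔ z ∉ W)
    (h12 : ∀ x y z, Φ x y z ↔ Φ y x z) (h23 : ∀ x y z, Φ x y z ↔ Φ x z y)
    (a b : V →+ V) (h : ∀ v, Φ v (a v) (b v) ↔ v ≠ 0) : Nat.card V < 2 ^ (3 * k + 1) := by
  classical
  set φ : V → V → V → ZMod 2 := fun x y z => if Φ x y z then 1 else 0 with hφ
  have d3 : ∀ x y, Deg (k + 1) fun z => φ x y z := by
    intro x y
    obtain ⟨W, h1, h2⟩ := hper x y
    exact deg_of_periodic _ W _ (fun w hw v => by
      simp only [hφ, h2, W.add_mem_cancel_right hw]) h1
  have d2 : ∀ x z, Deg (k + 1) fun y => φ x y z := fun x z => by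
    simpa only [hφ, h23 x z] using d3 x z
  have d1 : ∀ y z, Deg (k + 1) fun x => φ x y z := fun y z => by
    simpa only [hφ, h12 y] using d2 y z
  have d12 : ∀ z, Deg (2 * k + 1) fun p : V × V => φ p.1 p.2 z := fun z =>
    Deg.prod _ (k + 1) (k + 1) _ (by omega) (fun y => d1 y z) (fun x => d2 x z)
  have d123 : Deg (3 * k + 1) fun p : (V × V) × V => φ p.1.1 p.1.2 p.2 :=
    Deg.prod _ (2 * k + 1) (k + 1) _ (by omega) d12 (fun p => d3 p.1 p.2)
  have d := (d123.comp (((AddMonoidHom.id V).prod a).prod b)).add (Deg.const (3 * k) 1)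
  have := card_lt_of_deg (3 * k + 1) (⊥ : AddSubgroup V) (by
    convert d using 2 with v
    change _ = (if Φ v (a v) (b v) then 1 else 0) + 1
    rw [h, AddSubgroup.mem_bot]
    by_cases hv : v = 0
    · simp [hv]
    · simp [hv, z2_add_self])
  simpa using this

end Cfsg.Agent.P10K
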