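import Cfsg.Agent.P10.K1
import Cfsg.Agent.P10.K2

/-! The subgroups `W(x, y)`. -/

set_option autoImplicit false
set_option linter.unusedSectionVars false

namespace Cfsg.Agent.P10K

open MulAction

theorem ncard_eq_of_smul {G X : Type*} [Group G] [MulAction G X] (g : G) {A B : Set X}
    (h : ∀ z, g • z ∈ B ↔ z ∈ A) : A.ncard = B.ncard := by
  have : B = (g • ·) '' A := by
    ext z
    exact ⟨fun hz => ⟨g⁻¹ • z, by rwa [← h, smul_inv_smul], smul_inv_smul g z⟩,
      by rintro ⟨w, hw, rfl⟩; exact (h w).2 hw⟩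
  rw [this, Set.ncard_image_of_injective _ (MulAction.injective g)]

namespace Pairing

variable {G V V' : Type*} [Group G] [AddCommGroup V] [AddCommGroup V']
  [DistribMulAction G V] [DistribMulAction G V'] [Module (ZMod 2) V] [Module (ZMod 2) V']
  [Finite G] [Finite V] [Finite V'] (P : Pairing G V V')

theorem ne_zero_left {v : V} {l : V'} (h : P.b v l = 1) : v ≠ 0 := by
  rintro rfl; simp at h

theorem ne_zero_right {v : V} {l : V'} (h : P.b v l = 1) : l ≠ 0 := by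
  rintro rfl; simp at h

theorem two_mul_ncard_hyp {l : V'} (hl : l ≠ 0) : 2 * {v | P.b v l = 1}.ncard = Nat.card V := by
  obtain ⟨v, -, hv⟩ := P.flip.exists_of_not_mem (U := ⊥) hl
  have := P.flip.ncard_hyp ⊤ (y := l) (m := v) trivial hv
  simp only [AddSubgroup.mem_top, true_and, top_inf_eq, flip_b] at this
  rw [this, P.flip.two_mul_card_perp hl, P.card_eq]

/-- The standing hypotheses. -/
structure Hyp (P : Pairing G V V') (n : ℕ) : Prop where
  card : Nat.card V = 2 ^ n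
  hn : 5 ≤ n
  tr2 : Tr2 G V

/-- `Sl(x, y)` is transitive on the affine hyperplane `l = 1`. -/
def good (x y : V) (l : V') : Prop :=
  Ind x y ∧ l ≠ 0 ∧ ∀ u v, P.b u l = 1 → P.b v l = 1 → ∃ g ∈ Sl G x y, g • u = v

/-- The largest proper `Sl(x, y)`-invariant subgroup. -/
def W (x y : V) : AddSubgroup V := P.flip.perp {l | P.good x y l}

theorem mem_W {x y z : V} : z ∈ P.W x y ↔ ∀ l, P.good x y l → P.b z l = 0 := Iff.rfl

theorem ind_of_not_mem {x y z : V} (h : z ∉ P.W x y) : Ind x y := by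
  by_contra hc
  exact h fun l hl => absurd hl.1 hc

theorem good_smul (g : G) {x y : V} {l : V'} (h : P.good x y l) :
    P.good (g • x) (g • y) (g • l) := by
  refine ⟨(ind_smul g).2 h.1, (smul_ne_zero_iff_ne g).2 h.2.1, fun u v hu hv => ?_⟩
  obtain ⟨k, hk, e⟩ := h.2.2 (g⁻¹ • u) (g⁻¹ • v) (by rw [P.inv', inv_inv, hu])
    (by rw [P.inv', inv_inv, hv])
  refine ⟨g * k * g⁻¹, ⟨by simp [mul_smul, hk.1], ?_⟩, by simp [mul_smul, e]⟩
  rcases hk.2 with h1 | h1 <;> simp [mul_smul, h1]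

theorem W_smul (g : G) {x y z : V} : g • z ∈ P.W (g • x) (g • y) ↔ z ∈ P.W x y := by
  have key : ∀ (g : G) (x y z : V), g • z ∈ P.W (g • x) (g • y) → z ∈ P.W x y :=
    fun g x y z h l hl => by
      rw [flip_b, ← P.inv g]
      exact h _ (P.good_smul g hl)
  exact ⟨key g x y z, fun h => key g⁻¹ _ _ _ (by simpa using h)⟩

theorem W_add (x y : V) : P.W x (x + y) = P.W x y := by
  ext z
  simp only [mem_W, good, Sl_add, ind_add_iff]

theorem W_Sl {x y z : V} {g : G} (hg : g ∈ Sl G x y) : g • z ∈ P.W x y ↔ z ∈ P.W x y := by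
  rw [← P.W_smul g (z := z), hg.1]
  rcases hg.2 with h | h <;> rw [h]
  rw [W_add]

theorem W_trans {x y z z' : V} (h : z ∉ P.W x y) (h' : z' ∉ P.W x y) :
    ∃ g ∈ Sl G x y, g • z = z' := by
  simp only [mem_W, not_forall, ← Ne.eq_def, z2_ne] at h h'
  obtain ⟨l, hl, e⟩ := h
  obtain ⟨l', hl', e'⟩ := h'
  rcases z2 (P.b z' l) with h1 | h1
  swap
  · exact hl.2.2 _ _ e h1
  rcases z2 (P.b z l') with h2 | h2
  swap
  · exact hl'.2.2 _ _ h2 e'
  obtain ⟨g, hg, e1⟩ := hl.2.2 z (z + z') e (by simp [e, h1])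
  obtain ⟨k, hk, e2⟩ := hl'.2.2 (z + z') z' (by simp [e', h2]) e'
  exact ⟨k * g, Subgroup.mul_mem _ hk hg, by rw [mul_smul, e1, e2]⟩

variable {P} {n : ℕ}

theorem Hyp.le (h : P.Hyp n) : 32 ≤ Nat.card V := by
  rw [h.card]; exact Nat.pow_le_pow_right two_pos h.hn

theorem Hyp.dvd (h : P.Hyp n) : 32 ∣ Nat.card V := by
  rw [h.card]; exact pow_dvd_pow 2 h.hn

theorem Hyp.flip (h : P.Hyp n) : P.flip.Hyp n :=
  ⟨P.card_eq.trans h.card, h.hn, P.tr2_dual h.tr2 (by have := h.le; omega)⟩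

theorem Hyp.flag (h : P.Hyp n) {x x' : V} {l l' : V'} (hx : x ≠ 0)
    (hx' : x' ≠ 0) (hl : l ≠ 0) (hl' : l' ≠ 0) (e : P.b x l = P.b x' l') :
    ∃ g : G, g • x = x' ∧ g • l = l' :=
  P.flag h.tr2 (by have := h.le; omega) hx hx' hl hl' e

theorem Hyp.card_dvd (h : P.Hyp n) (U : AddSubgroup V) : Nat.card U ∣ 2 ^ n :=
  h.card ▸ AddSubgroup.card_addSubgroup_dvd_card U

theorem Hyp.odd_Sl (h : P.Hyp n) {x y : V} (hxy : Ind x y) : Odd (Sl G x y).index :=
  h.tr2.odd_Sl (Dvd.dvd.trans (by norm_num) h.dvd) hxy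

theorem Hyp.left_mem (h : P.Hyp n) (x y : V) : x ∈ P.W x y := by
  intro l hl
  by_contra hc
  rw [flip_b, ← Ne, z2_ne] at hc
  have h1 : {v | P.b v l = 1} ⊆ {x} := fun v hv => by
    obtain ⟨g, hg, rfl⟩ := hl.2.2 x v hc hv
    exact hg.1
  have h2 := Set.ncard_le_ncard h1
  have h3 := P.two_mul_ncard_hyp hl.2.1
  have := h.le
  rw [Set.ncard_singleton] at h2
  omega

theorem Hyp.right_mem (h : P.Hyp n) (x y : V) : y ∈ P.W x y := by
  intro l hl
  by_contra hc
  rw [flip_b, ← Ne, z2_ne] at hc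
  have h1 : {v | P.b v l = 1} ⊆ {y, x + y} := fun v hv => by
    obtain ⟨g, hg, rfl⟩ := hl.2.2 y v hc hv
    exact hg.2
  have h2 := (Set.ncard_le_ncard h1).trans (Set.ncard_insert_le _ _)
  have h3 := P.two_mul_ncard_hyp hl.2.1
  have := h.le
  rw [Set.ncard_singleton] at h2
  omega

/-- A subgroup of odd index fixing `l` is transitive on the affine hyperplane `l = 1`. -/
theorem Hyp.trans_hyp (h : P.Hyp n) {K : Subgroup G} (hK : Odd K.index) {l : V'}
    (hl : K ≤ stabilizer G l) {u v : V} (hu : P.b u l = 1) (hv : P.b v l = 1) :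
    ∃ g ∈ K, g • u = v := by
  have hl0 := P.ne_zero_right hu
  refine trans_of_odd hl hK (S := {v | P.b v l = 1}) (a := n) (fun w => ⟨fun hw => ?_, ?_⟩) ?_ hv
  · obtain ⟨g, h1, h2⟩ := h.flag (P.ne_zero_left hu) (P.ne_zero_left hw) hl0 hl0 (hu.trans hw.symm)
    exact ⟨g, h2, h1⟩
  · rintro ⟨k, hk, rfl⟩
    change P.b _ _ = 1
    rw [← hu, ← P.inv k u, mem_stabilizer_iff.1 hk]
  · rw [← h.card, ← P.two_mul_ncard_hyp hl0]
    exact Dvd.intro_left _ rfl

theorem Hyp.exists_good (h : P.Hyp n) {x y : V} (hxy : Ind x y) : ∃ l, P.good x y l := by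
  obtain ⟨l, hl, hK⟩ := exists_odd_stab (V := V') (Dvd.dvd.trans (by norm_num) h.flip.dvd)
    (h.odd_Sl hxy)
  refine ⟨l, hxy, hl, fun u v hu hv => ?_⟩
  obtain ⟨g, hg, e⟩ := h.trans_hyp hK inf_le_right hu hv
  exact ⟨g, hg.1, e⟩

theorem Hyp.exists_not_mem (h : P.Hyp n) {x y : V} (hxy : Ind x y) : ∃ z, z ∉ P.W x y := by
  obtain ⟨l, hl⟩ := h.exists_good hxy
  by_contra hc
  push Not at hc
  exact hl.2.1 (P.nd' l fun v => hc v l hl)

theorem Hyp.card_W (h : P.Hyp n) {x y x' y' : V} (h1 : Ind x y) (h2 : Ind x' y') :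
    Nat.card (P.W x y) = Nat.card (P.W x' y') := by
  obtain ⟨g, rfl, rfl⟩ := h.tr2 x y x' y' h1 h2
  exact ncard_eq_of_smul g fun z => P.W_smul g

theorem two_mul_card_le {U : AddSubgroup V} {z : V} (hz : z ∉ U) :
    2 * Nat.card U ≤ Nat.card V := by
  rw [← card_adj hz]; exact AddSubgroup.card_le_card_addGroup _

/-- Symmetry in the last two variables. -/
theorem Hyp.swap23 (h : P.Hyp n) {x y z : V} (hz : z ∉ P.W x y) : y ∉ P.W x z := by
  classical
  have := Fintype.ofFinite V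
  have hxy := P.ind_of_not_mem hz
  have hind : ∀ a b, b ∉ P.W x a → Ind x b := fun a b hb =>
    ⟨hxy.1, fun e => hb (e ▸ AddSubgroup.zero_mem _), fun e => hb (e ▸ h.left_mem x a)⟩
  obtain ⟨a, b, h1, h2⟩ : ∃ a b, b ∉ P.W x a ∧ a ∉ P.W x b := by
    by_contra hc
    push Not at hc
    set I : Set V := {v | Ind x v}
    set Ω : Set (V × V) := {p | p.2 ∉ P.W x p.1}
    have a1 := dcount I Ω (fun a p => p.1 = a) (m := Nat.card V - Nat.card (P.W x y)) (n := 1)
      (fun a ha => by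
        have e : {p | p ∈ Ω ∧ p.1 = a} = Prod.mk a '' {v | v ∈ (⊤ : AddSubgroup V) ∧ v ∉ P.W x a} := by
          ext ⟨c, d⟩
          simp only [Set.mem_ofPred_eq, Ω, Set.mem_image, Prod.mk.injEq, AddSubgroup.mem_top,
            true_and]
          exact ⟨by rintro ⟨h1, rfl⟩; exact ⟨d, h1, rfl, rfl⟩,
            by rintro ⟨_, h1, rfl, rfl⟩; exact ⟨h1, rfl⟩⟩
        have e2 := ncard_diff (A := P.W x a) (B := ⊤)
        rw [inf_top_eq, AddSubgroup.card_top, h.card_W ha hxy] at e2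
        rw [e, Set.ncard_image_of_injective _ (Prod.mk_right_injective a)]
        omega)
      (fun p hp => by
        have e : {a | a ∈ I ∧ p.1 = a} = {p.1} := by
          ext a
          exact ⟨fun h => h.2.symm, by rintro rfl; exact ⟨P.ind_of_not_mem hp, rfl⟩⟩
        rw [e, Set.ncard_singleton])
    have a2 : Ω ∪ Prod.swap '' Ω ⊆ I ×ˢ I := by
      rintro p (hp | ⟨q, hq, rfl⟩)
      · exact ⟨P.ind_of_not_mem hp, hind _ _ hp⟩
      · exact ⟨hind _ _ hq, P.ind_of_not_mem hq⟩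
    have a3 := Set.ncard_le_ncard a2
    rw [Set.ncard_union_eq (Set.disjoint_left.2 (by
      rintro p hp ⟨q, hq, rfl⟩
      exact hp (hc _ _ hq))), Set.ncard_image_of_injective _ Prod.swap_injective,
      Set.ncard_prod] at a3
    have a4 : I.ncard + 2 = Nat.card V := ncard_ind hxy.1
    have a5 := two_mul_card_le hz
    have a6 := h.le
    obtain ⟨r, hr⟩ : ∃ r, Nat.card V = r + Nat.card (P.W x y) := ⟨Nat.card V - Nat.card (P.W x y), by omega⟩
    rw [hr, Nat.add_sub_cancel, mul_one] at a1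
    rw [← a1] at a3
    have : I.ncard * (I.ncard + 2) ≤ I.ncard * (2 * r) := Nat.mul_le_mul_left _ (by omega)
    have : 0 < I.ncard := by omega
    nlinarith
  obtain ⟨g, g1, rfl⟩ := h.tr2 x a x y (P.ind_of_not_mem h1) hxy
  rw [← P.W_smul g, g1] at h1 h2
  obtain ⟨k, hk, rfl⟩ := P.W_trans h1 hz
  rw [← P.W_smul k, hk.1] at h2
  rcases hk.2 with e | e <;> rw [e] at h2
  · exact h2
  · rwa [AddSubgroup.add_mem_cancel_left _ (h.left_mem x _)] at h2

end Pairing

end Cfsg.Agent.P10K
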