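import Cfsg.Agent.P10.K3

/-! Symmetry of `W`, the subgroups `M(x, y)` and `T(x, l)`. -/

set_option autoImplicit false
set_option linter.unusedSectionVars false

namespace Cfsg.Agent.P10K

open MulAction

theorem ncard_sub_zero {V : Type*} [AddCommGroup V] [Module (ZMod 2) V] [Finite V]
    (U : AddSubgroup V) : {v | v ∈ U ∧ v ≠ 0}.ncard + 1 = Nat.card U := by
  have := ncard_diff (A := (⊥ : AddSubgroup V)) (B := U)
  rw [bot_inf_eq, AddSubgroup.card_bot] at this
  exact this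

theorem ncard_sub_line {V : Type*} [AddCommGroup V] [Module (ZMod 2) V] [Finite V]
    {U : AddSubgroup V} {x : V} (hx : x ≠ 0) (hU : x ∈ U) :
    {v | v ∈ U ∧ Ind x v}.ncard + 2 = Nat.card U := by
  have := ncard_diff (A := adj ⊥ x) (B := U)
  rw [inf_eq_left.2 (adj_le bot_le hU), card_adj_bot hx] at this
  rw [← this]
  congr 2
  ext v
  simp [mem_adj_bot, Ind, hx, eq_comm]

namespace Pairing

variable {G V V' : Type*} [Group G] [AddCommGroup V] [AddCommGroup V']
  [DistribMulAction G V] [DistribMulAction G V'] [Module (ZMod 2) V] [Module (ZMod 2) V']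
  [Finite G] [Finite V] [Finite V'] (P : Pairing G V V')

theorem perp_smul (g : G) {A B : Set V} (h : ∀ z, g • z ∈ B ↔ z ∈ A) {l : V'} :
    g • l ∈ P.perp B ↔ l ∈ P.perp A := by
  refine ⟨fun hl v hv => ?_, fun hl v hv => ?_⟩
  · rw [← P.inv g]; exact hl _ ((h v).2 hv)
  · rw [← smul_inv_smul g v, P.inv]
    exact hl _ ((h _).1 (by rwa [smul_inv_smul]))

/-- The annihilator of `W(x, y)`. -/
def M (x y : V) : AddSubgroup V' := P.perp (P.W x y)

theorem M_smul (g : G) {x y : V} {l : V'} : g • l ∈ P.M (g • x) (g • y) ↔ l ∈ P.M x y :=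
  P.perp_smul g fun _ => P.W_smul g

theorem M_add (x y : V) : P.M x (x + y) = P.M x y := by rw [M, W_add, M]

theorem M_Sl {x y : V} {l : V'} {g : G} (hg : g ∈ Sl G x y) : g • l ∈ P.M x y ↔ l ∈ P.M x y :=
  P.perp_smul g fun _ => P.W_Sl hg

theorem perp_M (x y : V) : P.flip.perp (P.M x y) = P.W x y := P.perp_perp _

theorem card_W_mul (x y : V) : Nat.card (P.W x y) * Nat.card (P.M x y) = Nat.card V :=
  P.card_mul_perp' _

theorem ind_of_mem_M {x y : V} {l : V'} (hl : l ≠ 0) (h : l ∈ P.M x y) : Ind x y := by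
  by_contra hc
  exact hl (P.nd' l fun v => h v (by_contra fun hv => hc (P.ind_of_not_mem hv)))

theorem M_trans {x y : V} {l l' : V'} (h : l ∈ P.M x y) (h' : l' ∈ P.M x y) (h0 : l ≠ 0)
    (h0' : l' ≠ 0) : ∃ g ∈ Sl G x y, g • l = l' :=
  P.fourier (O := {m | ∃ k ∈ Sl G x y, k • l = m}) (A := P.W x y) (B := P.W x y) le_rfl
    (fun u hu => P.ft_perp (by rintro _ ⟨k, hk, rfl⟩; exact (P.M_Sl hk).2 h u hu))
    (fun u hu _ _ hu' => absurd hu hu')
    (fun u v hu hv => by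
      obtain ⟨g, hg, rfl⟩ := P.W_trans hu hv
      exact (P.ft_orb _ _ hg u).symm)
    (iff_of_true h h') (iff_of_true h h') (iff_of_false h0 h0') ⟨1, Subgroup.one_mem _, one_smul _ _⟩

/-- A point on a hyperplane. -/
def Flag (x : V) (l : V') : Prop := x ≠ 0 ∧ l ≠ 0 ∧ P.b x l = 0

theorem Flag.flip {P : Pairing G V V'} {x : V} {l : V'} (h : P.Flag x l) : P.flip.Flag l x :=
  ⟨h.2.1, h.1, h.2.2⟩

theorem two_mul_ncard_flag {x : V} (hx : x ≠ 0) :
    2 * {l | P.Flag x l}.ncard + 2 = Nat.card V := by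
  have h1 := ncard_sub_zero (P.perp {x})
  have h2 := P.two_mul_card_perp hx
  have h3 : {l | P.Flag x l} = {v | v ∈ P.perp {x} ∧ v ≠ 0} := by
    ext l; simp [Flag, hx, mem_perp_one, and_comm]
  rw [h3]; omega

variable {P} {n : ℕ}

theorem Hyp.flag_of_mem (h : P.Hyp n) {x y : V} {l : V'} (hl : l ≠ 0) (hm : l ∈ P.M x y) :
    P.Flag x l := ⟨(P.ind_of_mem_M hl hm).1, hl, hm x (h.left_mem x y)⟩

theorem Hyp.card_M (h : P.Hyp n) {x y x' y' : V} (h1 : Ind x y) (h2 : Ind x' y') :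
    Nat.card (P.M x y) = Nat.card (P.M x' y') := by
  obtain ⟨g, rfl, rfl⟩ := h.tr2 x y x' y' h1 h2
  exact ncard_eq_of_smul g fun z => P.M_smul g

theorem Hyp.flag' (h : P.Hyp n) {x x' : V} {l l' : V'} (h1 : P.Flag x l) (h2 : P.Flag x' l') :
    ∃ g : G, g • x = x' ∧ g • l = l' :=
  h.flag h1.1 h2.1 h1.2.1 h2.2.1 (h1.2.2.trans h2.2.2.symm)

theorem Hyp.odd_flag (h : P.Hyp n) {x : V} {l : V'} (hf : P.Flag x l) :
    Odd (stabilizer G x ⊓ stabilizer G l).index := by
  have h1 := index_inf_stab (stabilizer G x) l (S := {l | P.Flag x l}) fun m =>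
    ⟨fun hm => h.flag' hf hm, by
      rintro ⟨k, hk, rfl⟩
      refine ⟨hf.1, (smul_ne_zero_iff_ne k).2 hf.2.1, ?_⟩
      rw [← hf.2.2, ← P.inv k x l, mem_stabilizer_iff.1 hk]⟩
  have h2 := P.two_mul_ncard_flag hf.1
  have h3 := h.tr2.index_stab (by have := h.le; omega) hf.1
  obtain ⟨r, hr⟩ := h.dvd
  rw [h1]
  exact Odd.mul (Nat.odd_iff.2 (by omega)) (Nat.odd_iff.2 (by omega))

theorem Hyp.W_symm (h : P.Hyp n) (x y : V) : P.W x y = P.W y x := by
  by_contra hne
  have hxy : Ind x y := by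
    by_contra hc
    apply hne
    ext z
    exact iff_of_true (by_contra fun hz => hc (P.ind_of_not_mem hz))
      (by_contra fun hz => hc (P.ind_of_not_mem hz).symm)
  have hall : ∀ a b, Ind a b → P.W a b ≠ P.W b a := fun a b hab e => hne (by
    obtain ⟨g, rfl, rfl⟩ := h.tr2 x y a b hxy hab
    ext z
    rw [← P.W_smul g, e, P.W_smul])
  have hM : ∀ a b, Ind a b → Nat.card (P.M a b) = 2 := by
    intro a b hab
    rw [h.card_M hab hxy]
    obtain ⟨z0, h1, h2⟩ : ∃ z, z ∈ P.W y x ∧ z ∉ P.W x y := by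
      by_contra hc
      push Not at hc
      exact hne (eq_of_le_of_card hc (h.card_W hxy hxy.symm).le).symm
    have a1 : (Set.univ : Set V) ⊆ {v | v ∈ P.W x y ∧ v ≠ 0} ∪ P.W y x ∪ P.W (x + y) x := by
      intro z _
      by_cases hz : z ∈ P.W x y
      · by_cases h0 : z = 0
        · exact Or.inr (h0 ▸ AddSubgroup.zero_mem _)
        · exact Or.inl (Or.inl ⟨hz, h0⟩)
      obtain ⟨g, hg, rfl⟩ := P.W_trans h2 hz
      rw [← P.W_smul g, hg.1] at h1
      rcases hg.2 with e | e <;> rw [e] at h1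
      · exact Or.inl (Or.inr h1)
      · exact Or.inr h1
    have a2 := (Set.ncard_le_ncard a1).trans ((Set.ncard_union_le _ _).trans
      (Nat.add_le_add_right (Set.ncard_union_le _ _) _))
    rw [Set.ncard_univ, ncard_coe, ncard_coe, h.card_W hxy.symm hxy,
      h.card_W hxy.add.symm hxy] at a2
    have a3 := ncard_sub_zero (P.W x y)
    have a4 := two_mul_card_le h2
    have a5 := P.card_W_mul x y
    have a6 : 0 < Nat.card (P.W x y) := Nat.card_pos
    have a7 : Nat.card (P.M x y) < 3 := by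
      by_contra hc
      have := Nat.mul_le_mul_left (Nat.card (P.W x y)) (not_lt.1 hc)
      omega
    have a8 : 2 ≤ Nat.card (P.M x y) := by
      by_contra hc
      have := Nat.mul_le_mul_left (Nat.card (P.W x y)) (show Nat.card (P.M x y) ≤ 1 by omega)
      omega
    omega
  have hM1 : ∀ a b l, l ≠ 0 → l ∈ P.M a b → P.M a b = adj ⊥ l := fun a b l h0 hl =>
    (eq_of_le_of_card (adj_le bot_le hl)
      (by rw [hM a b (P.ind_of_mem_M h0 hl), card_adj_bot h0])).symm
  have hex : ∀ a b, Ind a b → ∃ l, l ≠ 0 ∧ l ∈ P.M a b := fun a b hab => by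
    obtain ⟨z, hz⟩ := h.exists_not_mem hab
    obtain ⟨l, h1, h2⟩ := P.exists_of_not_mem hz
    exact ⟨l, P.ne_zero_right h2, h1⟩
  obtain ⟨l0, hl0, hl1⟩ := hex y x hxy.symm
  have hf : P.Flag x l0 := ⟨hxy.1, hl0, hl1 x (h.right_mem y x)⟩
  have a1 := dcount {a | Ind x a} {l | P.Flag x l} (fun a l => l ∈ P.M a x) (m := 1)
    (n := {a | Ind x a ∧ l0 ∈ P.M a x}.ncard)
    (fun a ha => by
      have e := ncard_sub_zero (P.M a x)
      rw [hM a x (Ind.symm ha)] at e
      rw [← Nat.add_right_cancel (show _ + 1 = 1 + 1 from e)]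
      congr 1
      ext l
      exact ⟨fun hl => ⟨hl.2, hl.1.2.1⟩,
        fun hl => ⟨⟨hxy.1, hl.2, hl.1 x (h.right_mem a x)⟩, hl.1⟩⟩)
    (fun l hl => by
      obtain ⟨g, g1, rfl⟩ := h.flag' hf hl
      refine (ncard_eq_of_smul g fun a => ?_).symm
      change Ind x (g • a) ∧ _ ↔ Ind x a ∧ _
      rw [← P.M_smul g (l := l0), g1, ← ind_smul g (y := a), g1])
  have a2 := ncard_ind hxy.1
  have a3 := P.two_mul_ncard_flag hxy.1
  have a4 := h.le
  have a5 : {a | Ind x a ∧ l0 ∈ P.M a x}.ncard = 2 :=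
    Nat.eq_of_mul_eq_mul_left (show 0 < {l | P.Flag x l}.ncard by omega) (by omega)
  obtain ⟨a, a', hne', e⟩ := Set.ncard_eq_two.1 a5
  have ha : Ind x a ∧ l0 ∈ P.M a x := by
    change a ∈ {a | Ind x a ∧ l0 ∈ P.M a x}; rw [e]; simp
  have hK := h.odd_flag hf
  have hmem : ∀ k ∈ stabilizer G x ⊓ stabilizer G l0, ∀ c ∈ ({a, a'} : Set V),
      k • c ∈ ({a, a'} : Set V) := by
    intro k hk c hc
    rw [← e] at hc ⊢
    have b1 := (ind_smul k).2 hc.1
    have b2 := (P.M_smul k).2 hc.2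
    rw [mem_stabilizer_iff.1 hk.1] at b1 b2
    rw [mem_stabilizer_iff.1 hk.2] at b2
    exact ⟨b1, b2⟩
  have hsum : a + a' = x := h.tr2.eq_of_odd (Dvd.dvd.trans (by norm_num) h.dvd) hK
    (fun e => hne' (add_eq_zero_iff.1 e)) hxy.1 (fun k hk => by
      have b3 : k • a ≠ k • a' := (MulAction.injective k).ne hne'
      rw [smul_add]
      rcases hmem k hk a (by simp) with b1 | b1 <;> rcases hmem k hk a' (by simp) with b2 | b2
      · exact absurd (b1.trans b2.symm) b3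
      · rw [b1, b2]
      · rw [b1, b2, add_comm]
      · exact absurd (b1.trans b2.symm) b3) (fun k hk => hk.1)
  obtain ⟨l1, h1, h2⟩ := hex x a ha.1
  have hl : l1 = l0 := h.flip.tr2.eq_of_odd (Dvd.dvd.trans (by norm_num) h.flip.dvd) hK h1 hl0
    (fun k hk => by
      have b1 : k ∈ Sl G x a := ⟨hk.1, by
        rcases hmem k hk a (by simp) with b | b
        · exact Or.inl b
        · right; rw [b, ← hsum, add_comm a, add_add_cancel']⟩
      have b2 := (P.M_Sl b1).2 h2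
      rw [hM1 _ _ _ h1 h2, mem_adj_bot] at b2
      exact b2.resolve_left ((smul_ne_zero_iff_ne k).2 h1)) (fun k hk => hk.2)
  apply hall x a ha.1
  rw [← P.perp_M, ← P.perp_M, hM1 _ _ _ h1 h2, hM1 _ _ _ hl0 ha.2, hl]

theorem Hyp.M_symm (h : P.Hyp n) (x y : V) : P.M x y = P.M y x := by
  rw [M, h.W_symm, M]

/-- The degree bound. -/
theorem Hyp.le_cube (h : P.Hyp n) {A : Subgroup G} (hA : Tr1 V A)
    (hc : ∀ a ∈ A, ∀ b ∈ A, a * b = b * a) {x y : V} (hxy : Ind x y) :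
    Nat.card V ≤ Nat.card (P.M x y) ^ 3 := by
  obtain ⟨c, -, e⟩ := (Nat.dvd_prime_pow Nat.prime_two).1 (h.flip.card_dvd (P.M x y))
  obtain ⟨z, hz⟩ := h.exists_not_mem hxy
  have hz0 : z ≠ 0 := fun e => hz (e ▸ AddSubgroup.zero_mem _)
  obtain ⟨a, ha, rfl⟩ := hA x y hxy.1 hxy.2.1
  obtain ⟨b, hb, rfl⟩ := hA x z hxy.1 hz0
  have := card_lt_of_rel (fun x y z => z ∉ P.W x y) (k := c)
    (fun u v => ⟨P.W u v, by
      have b0 : 0 < Nat.card V := Nat.card_pos
      by_cases huv : Ind u v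
      · have b1 := P.card_W_mul u v
        rw [h.card_M huv hxy, e] at b1
        rw [pow_succ, mul_assoc, mul_comm, mul_assoc, b1]
        omega
      · rw [show P.W u v = ⊤ from eq_top_iff.2 fun w _ =>
          by_contra fun hw => huv (P.ind_of_not_mem hw), AddSubgroup.card_top]
        have : 1 < 2 ^ (c + 1) := Nat.one_lt_two_pow (by omega)
        nlinarith, fun _ => Iff.rfl⟩)
    (fun u v w => by rw [h.W_symm]) (fun u v w => ⟨h.swap23, h.swap23⟩)
    (DistribSMul.toAddMonoidHom V a) (DistribSMul.toAddMonoidHom V b) (fun v => by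
      refine ⟨fun hv => (P.ind_of_not_mem hv).1, fun hv => ?_⟩
      obtain ⟨g, hg, rfl⟩ := hA x v hxy.1 hv
      change b • g • x ∉ P.W (g • x) (a • g • x)
      rwa [← mul_smul, ← mul_smul, hc b hb g hg, hc a ha g hg, mul_smul, mul_smul, P.W_smul])
  rw [h.card] at this ⊢
  rw [e, ← pow_mul]
  exact Nat.pow_le_pow_right two_pos (by
    have := (Nat.pow_lt_pow_iff_right one_lt_two).1 this
    omega)

end Pairing

end Cfsg.Agent.P10K
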