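import Cfsg.Agent.P10.K4

/-! The subgroups `T(x, l)` and `N(x, l)`. -/

set_option autoImplicit false
set_option linter.unusedSectionVars false

namespace Cfsg.Agent.P10K

open MulAction

namespace Pairing

variable {G V V' : Type*} [Group G] [AddCommGroup V] [AddCommGroup V']
  [DistribMulAction G V] [DistribMulAction G V'] [Module (ZMod 2) V] [Module (ZMod 2) V']
  [Finite G] [Finite V] [Finite V'] (P : Pairing G V V')

/-- The points `y` with `W(x, y)` in the hyperplane `l`, and the line `x`. -/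
def T0 (x : V) (l : V') : Set V := {y | y = 0 ∨ y = x ∨ l ∈ P.M x y}

/-- The subgroup generated by `T0`. -/
def T (x : V) (l : V') : AddSubgroup V := P.flip.perp (P.perp (P.T0 x l))

/-- The annihilator of the dual `T`. -/
def N (x : V) (l : V') : AddSubgroup V := P.flip.perp (P.flip.T l x)

theorem perp_T (x : V) (l : V') : P.perp (P.T x l) = P.perp (P.T0 x l) :=
  P.flip.perp_perp _

theorem perp_N (x : V) (l : V') : P.perp (P.N x l) = P.flip.T l x := P.flip.perp_perp _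

theorem flip_N (x : V) (l : V') : P.flip.N l x = P.perp (P.T x l) := rfl

theorem T0_smul (g : G) {x y : V} {l : V'} : g • y ∈ P.T0 (g • x) (g • l) ↔ y ∈ P.T0 x l := by
  simp only [T0, Set.mem_ofPred_eq, smul_eq_zero_iff_eq, smul_left_cancel_iff, M_smul]

theorem T_smul (g : G) {x y : V} {l : V'} : g • y ∈ P.T (g • x) (g • l) ↔ y ∈ P.T x l :=
  P.flip.perp_smul g fun _ => P.perp_smul g fun _ => P.T0_smul g

theorem N_smul (g : G) {x y : V} {l : V'} : g • y ∈ P.N (g • x) (g • l) ↔ y ∈ P.N x l :=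
  P.flip.perp_smul g fun _ => P.flip.T_smul g

theorem left_mem_T (x : V) (l : V') : x ∈ P.T x l := P.le_perp_perp _ (Or.inr (Or.inl rfl))

theorem mem_T_of_M {x y : V} {l : V'} (h : l ∈ P.M x y) : y ∈ P.T x l :=
  P.le_perp_perp _ (Or.inr (Or.inr h))

theorem N_le (x : V) (l : V') {v : V} (h : v ∈ P.N x l) : P.b v l = 0 :=
  h l (P.flip.left_mem_T l x)

variable {P} {n : ℕ}

theorem Hyp.trans_M (h : P.Hyp n) {x y y' : V} {l : V'} (hl : l ≠ 0) (h1 : l ∈ P.M x y)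
    (h2 : l ∈ P.M x y') : ∃ g : G, g • x = x ∧ g • l = l ∧ (g • y = y' ∨ g • y = x + y') := by
  obtain ⟨g, g1, rfl⟩ := h.tr2 x y x y' (P.ind_of_mem_M hl h1) (P.ind_of_mem_M hl h2)
  rw [← P.M_smul g, g1] at h1
  obtain ⟨k, hk, e⟩ := P.M_trans h1 h2 ((smul_ne_zero_iff_ne g).2 hl) hl
  exact ⟨k * g, by rw [mul_smul, g1, hk.1], by rw [mul_smul, e], by
    rw [mul_smul]; exact hk.2⟩

theorem Hyp.trans_X (h : P.Hyp n) {x y : V} (hx : x ≠ 0) {m m' : V'} (h1 : P.b x m = 0)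
    (h2 : P.b y m = 1) (h1' : P.b x m' = 0) (h2' : P.b y m' = 1) :
    ∃ g : G, g • x = x ∧ g • y = y ∧ g • m = m' := by
  have hf : P.Flag x m' := ⟨hx, P.ne_zero_right h2', h1'⟩
  obtain ⟨g, g1, rfl⟩ := h.flag' ⟨hx, P.ne_zero_right h2, h1⟩ hf
  obtain ⟨k, hk, e⟩ := h.trans_hyp (h.odd_flag hf) inf_le_right (u := g • y)
    (by rw [P.inv, h2]) h2'
  exact ⟨k * g, by rw [mul_smul, g1, hk.1], by rw [mul_smul, e], by rw [mul_smul, hk.2]⟩

theorem Hyp.trans_X' (h : P.Hyp n) {x y : V} {l : V'} (hl : l ≠ 0) (hm : l ∈ P.M x y) {m m' : V'}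
    (h1 : P.b x m = 0) (h2 : P.b y m = 1) (h1' : P.b x m' = 0) (h2' : P.b y m' = 1) :
    ∃ g : G, g • x = x ∧ g • l = l ∧ g • m = m' := by
  have hxy := P.ind_of_mem_M hl hm
  have a1 := index_inf_stab (Sl G x y) l (S := {v | v ∈ P.M x y ∧ v ≠ 0}) fun v =>
    ⟨fun hv => P.M_trans hm hv.1 hl hv.2, by
      rintro ⟨k, hk, rfl⟩
      exact ⟨(P.M_Sl hk).2 hm, (smul_ne_zero_iff_ne k).2 hl⟩⟩
  have a2 := ncard_sub_zero (P.M x y)
  have a3 : 2 ∣ Nat.card (P.M x y) := by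
    rw [← card_adj_bot hl]; exact AddSubgroup.card_dvd_of_le (adj_le bot_le hm)
  have a4 : Odd (Sl G x y ⊓ stabilizer G l).index := by
    rw [a1]; exact (h.odd_Sl hxy).mul (Nat.odd_iff.2 (by omega))
  obtain ⟨g, hg, e⟩ := trans_of_odd inf_le_left a4 (x := m)
    (S := {k | k ∈ P.perp {x} ∧ P.b y k = 1}) (a := n) (fun k => ⟨fun hk => by
      obtain ⟨g, g1, g2, g3⟩ := h.trans_X hxy.1 h1 h2 (P.mem_perp_one.1 hk.1) hk.2
      exact ⟨g, ⟨g1, Or.inl g2⟩, g3⟩, by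
      rintro ⟨g, hg, rfl⟩
      have b1 : P.b x (g • m) = 0 := by rw [← h1, ← P.inv g x m, hg.1]
      have b2 := P.inv g y m
      refine ⟨P.mem_perp_one.2 b1, ?_⟩
      rcases hg.2 with e | e <;> rw [e, h2] at b2
      · exact b2
      · simpa [b1] using b2⟩)
    (by rw [P.ncard_hyp _ (P.mem_perp_one.2 h1) h2]; exact h.flip.card_dvd _)
    (y := m') ⟨P.mem_perp_one.2 h1', h2'⟩
  exact ⟨g, hg.1.1, hg.2, e⟩

theorem Hyp.trans_T (h : P.Hyp n) {x : V} {l : V'} (hl : l ≠ 0) {m m' : V'}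
    (h1 : P.b x m = 0) (h2 : m ∉ P.perp (P.T x l)) (h1' : P.b x m' = 0)
    (h2' : m' ∉ P.perp (P.T x l)) : ∃ g : G, g • x = x ∧ g • l = l ∧ g • m = m' := by
  have key : ∀ k, P.b x k = 0 → k ∉ P.perp (P.T x l) → ∃ y, l ∈ P.M x y ∧ P.b y k = 1 := by
    intro k k1 k2
    rw [perp_T, mem_perp] at k2
    push Not at k2
    obtain ⟨y, rfl | rfl | hy, e⟩ := k2
    · simp at e
    · exact absurd k1 e
    · exact ⟨y, hy, z2_ne.1 e⟩
  obtain ⟨y, hy, e⟩ := key m h1 h2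
  obtain ⟨y', hy', e'⟩ := key m' h1' h2'
  obtain ⟨g, g1, g2, g3⟩ := h.trans_M hl hy hy'
  have b1 : P.b x (g • m) = 0 := by rw [← h1, ← P.inv g x m, g1]
  have b2 := P.inv g y m
  obtain ⟨k, k1, k2, k3⟩ := h.trans_X' hl hy' b1 (by
    rcases g3 with e3 | e3 <;> rw [e3, e] at b2
    · exact b2
    · simpa [b1] using b2) h1' e'
  exact ⟨k * g, by rw [mul_smul, g1, k1], by rw [mul_smul, g2, k2], by rw [mul_smul, k3]⟩

theorem Hyp.exists_M (h : P.Hyp n) {x : V} {l : V'} (hf : P.Flag x l) : ∃ y, l ∈ P.M x y := by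
  obtain ⟨y, hy⟩ := exists_ind (by have := h.le; omega) hf.1
  obtain ⟨z, hz⟩ := h.exists_not_mem hy
  obtain ⟨k, k1, k2⟩ := P.exists_of_not_mem hz
  obtain ⟨g, g1, rfl⟩ := h.flag' (h.flag_of_mem (P.ne_zero_right k2) k1) hf
  refine ⟨g • y, ?_⟩
  have := (P.M_smul g).2 k1
  rwa [g1] at this

theorem Hyp.mem_M_of_T (h : P.Hyp n) {x y : V} {l : V'} (hf : P.Flag x l) (hy : y ∈ P.T x l)
    (hxy : Ind x y) : l ∈ P.M x y := by
  obtain ⟨y0, hy0⟩ := h.exists_M hf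
  have h0 := P.ind_of_mem_M hf.2.1 hy0
  refine P.flip.fourier (O := {y | l ∈ P.M x y}) (A := P.perp (P.T x l)) (B := P.perp {x})
    (P.perp_anti (Set.singleton_subset_iff.2 (P.left_mem_T x l)))
    (fun u hu => P.flip.ft_perp fun v hv => hu v (P.mem_T_of_M hv))
    (fun u hu v hv hu' hv' => ?_) (fun u v hu hv => ?_) (l := y0) ?_ ?_
    (iff_of_false h0.2.1 hxy.2.1) hy0
  · obtain ⟨g, g1, g2, rfl⟩ := h.trans_T hf.2.1 (P.mem_perp_one.1 hu) hu' (P.mem_perp_one.1 hv) hv'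
    refine (P.flip.ft_smul (fun w => ?_) u).symm
    change l ∈ P.M x (g • w) ↔ l ∈ P.M x w
    rw [← P.M_smul g (y := w), g1, g2]
  · rw [mem_perp_one, ← Ne, z2_ne] at hu hv
    have hper : ∀ w ∈ {y | l ∈ P.M x y}, w + x ∈ {y | l ∈ P.M x y} := fun w hw => by
      change l ∈ P.M x (w + x)
      rwa [add_comm, M_add]
    rw [P.flip.ft_per hper hu, P.flip.ft_per hper hv]
  · rw [perp_perp]; exact iff_of_true (P.mem_T_of_M hy0) hy
  · rw [mem_perp_perp_one, mem_perp_perp_one]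
    exact iff_of_false (not_or.2 ⟨h0.2.1, h0.2.2.symm⟩) (not_or.2 ⟨hxy.2.1, hxy.2.2.symm⟩)

theorem Hyp.T_le (h : P.Hyp n) {x y : V} {l : V'} (hf : P.Flag x l) (hy : y ∈ P.T x l) :
    P.b y l = 0 := by
  by_cases hxy : Ind x y
  · exact h.mem_M_of_T hf hy hxy y (h.right_mem x y)
  · by_cases h0 : y = 0
    · simp [h0]
    · rw [← show x = y by by_contra e; exact hxy ⟨hf.1, h0, e⟩]; exact hf.2.2

theorem Hyp.card_T (h : P.Hyp n) {x a b : V} {l : V'} (hf : P.Flag x l) (hab : Ind a b) :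
    Nat.card (P.T x l) = 2 * Nat.card (P.M a b) := by
  have a1 := dcount {y | Ind x y} {k | P.Flag x k} (fun y k => k ∈ P.M x y)
    (m := Nat.card (P.M a b) - 1) (n := {y | y ∈ P.T x l ∧ Ind x y}.ncard)
    (fun y hy => by
      have e := ncard_sub_zero (P.M x y)
      rw [← h.card_M hy hab, ← e, Nat.add_sub_cancel]
      congr 1
      ext k
      exact ⟨fun hk => ⟨hk.2, hk.1.2.1⟩, fun hk => ⟨h.flag_of_mem hk.2 hk.1, hk.1⟩⟩)
    (fun k hk => by
      obtain ⟨g, g1, rfl⟩ := h.flag' hf hk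
      refine (ncard_eq_of_smul g fun y => ?_).symm
      change Ind x (g • y) ∧ g • l ∈ P.M x (g • y) ↔ _ ∧ Ind x y
      have b1 : Ind x (g • y) ↔ Ind x y := by rw [← ind_smul g (y := y), g1]
      have b2 : g • l ∈ P.M x (g • y) ↔ l ∈ P.M x y := by rw [← P.M_smul g (l := l), g1]
      rw [b1, b2]
      exact ⟨fun c => ⟨P.mem_T_of_M c.2, c.1⟩, fun c => ⟨c.2, h.mem_M_of_T hf c.1 c.2⟩⟩)
  have a2 := ncard_ind hf.1
  have a3 := P.two_mul_ncard_flag hf.1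
  have a4 := h.le
  have a5 := ncard_sub_line hf.1 (P.left_mem_T x l)
  have a6 : 0 < Nat.card (P.M a b) := Nat.card_pos
  have a7 : {y | Ind x y}.ncard = {k | P.Flag x k}.ncard * 2 := by omega
  rw [a7, mul_assoc] at a1
  have := Nat.eq_of_mul_eq_mul_left (show 0 < {k | P.Flag x k}.ncard by omega) a1
  omega

theorem Hyp.trans_N (h : P.Hyp n) {x : V} {l : V'} (hx : x ≠ 0) {u v : V}
    (h1 : P.b u l = 0) (h2 : u ∉ P.N x l) (h1' : P.b v l = 0) (h2' : v ∉ P.N x l) :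
    ∃ g : G, g • x = x ∧ g • l = l ∧ g • u = v := by
  obtain ⟨g, g1, g2, g3⟩ := h.flip.trans_T hx h1 h2 h1' h2'
  exact ⟨g, g2, g1, g3⟩

theorem Hyp.T_le_N (h : P.Hyp n) (hG : ¬ 2 ^ n - 4 ∣ Nat.card G) {x : V} {l : V'}
    (hf : P.Flag x l) : P.T x l ≤ P.N x l := by
  intro y hy
  by_contra hc
  have a1 : ∀ v, P.b v l = 0 → v ∉ P.N x l → v ∈ P.T x l := fun v h1 h2 => by
    obtain ⟨g, g1, g2, rfl⟩ := h.trans_N hf.1 (h.T_le hf hy) hc h1 h2
    have := (P.T_smul g).2 hy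
    rwa [g1, g2] at this
  have a2 : P.T x l = P.flip.perp {l} := by
    ext v
    rw [mem_perp_one]
    refine ⟨h.T_le hf, fun hv => ?_⟩
    by_cases hN : v ∈ P.N x l
    · rw [← add_add_cancel y v]
      refine AddSubgroup.add_mem _ hy (a1 _ ?_ ?_)
      · rw [map_add, AddMonoidHom.add_apply, h.T_le hf hy, zero_add]; exact hv
      · rwa [AddSubgroup.add_mem_cancel_right _ hN]
    · exact a1 v hv hN
  obtain ⟨a, ha⟩ := exists_ind (by have := h.le; omega) hf.1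
  have a3 := h.card_T hf ha
  have a4 := P.flip.two_mul_card_perp hf.2.1
  have a5 := P.card_W_mul x a
  rw [← a2, a3, P.card_eq, ← a5, ← mul_assoc] at a4
  have a6 := Nat.eq_of_mul_eq_mul_right Nat.card_pos a4
  obtain ⟨z, hz⟩ := h.exists_not_mem ha
  have a7 := ncard_dvd_card (Sl G x a) z (S := {v | v ∈ (⊤ : AddSubgroup V) ∧ v ∉ P.W x a})
    fun v => ⟨fun hv => P.W_trans hz hv.2, by
      rintro ⟨k, hk, rfl⟩
      exact ⟨trivial, by rwa [P.W_Sl hk]⟩⟩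
  have a8 := ncard_diff (A := P.W x a) (B := ⊤)
  rw [inf_top_eq, AddSubgroup.card_top, h.card, ← a6] at a8
  apply hG
  rw [← a8]
  exact a7

end Pairing

end Cfsg.Agent.P10K
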