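import Cfsg.Agent.P10.K5

/-! The counting argument and the final contradiction. -/

set_option autoImplicit false
set_option linter.unusedSectionVars false

namespace Cfsg.Agent.P10K

open MulAction

theorem arith1 {n m m' ν w j A B C D E : ℕ} (hm : m ∣ 2 ^ n) (hm' : m' ∣ 2 ^ n) (hν : ν ∣ 2 ^ n)
    (h4 : 4 ≤ m) (hle : m ≤ m') (hw : w * m = 2 * m' * ν) (hj : 0 < j) (hjν : j ≤ ν)
    (hA : A + 2 = 2 * m) (hB : B + j = w) (hC : C + ν = m' * ν) (hD : D + 2 = E) (hE : 2 ∣ E)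
    (h : A * B = C * D) : j = ν ∧ m = m' ∧ w = 2 * ν ∧ 0 < D := by
  obtain ⟨c, -, hc⟩ := (Nat.dvd_prime_pow Nat.prime_two).1 hm
  obtain ⟨c', -, hc'⟩ := (Nat.dvd_prime_pow Nat.prime_two).1 hm'
  obtain ⟨d, hd⟩ : m ∣ m' := by
    rw [hc, hc'] at hle ⊢
    exact pow_dvd_pow 2 ((Nat.pow_le_pow_iff_right one_lt_two).1 hle)
  have h2 : 2 ∣ m := by
    rw [hc] at h4 ⊢
    exact dvd_pow_self 2 (by rintro rfl; omega)
  have hw' : w = 2 * d * ν := Nat.eq_of_mul_eq_mul_right (show 0 < m by omega) (by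
    rw [hw, hd]; ring)
  obtain ⟨a, rfl⟩ : ∃ a, m = a + 1 := ⟨m - 1, by omega⟩
  obtain ⟨a', rfl⟩ : ∃ a', m' = a' + 1 := ⟨m' - 1, by omega⟩
  obtain ⟨e, rfl⟩ : ∃ e, D = 2 * e := ⟨D / 2, by omega⟩
  obtain rfl : A = 2 * a := by omega
  obtain rfl : C = a' * ν := by nlinarith
  have h3 : a * B = ν * (a' * e) := by nlinarith
  have h5 : ν.Coprime a := Nat.Coprime.coprime_dvd_left hν
    (Nat.Coprime.pow_left n (Nat.coprime_two_left.2 (Nat.odd_iff.2 (by omega))))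
  have h6 : ν ∣ B := h5.dvd_of_dvd_mul_left (h3 ▸ Dvd.intro _ rfl)
  have h7 : ν ∣ j := (Nat.dvd_add_right h6).1 (by rw [hB, hw']; exact Dvd.intro_left _ rfl)
  obtain rfl : j = ν := le_antisymm hjν (Nat.le_of_dvd hj h7)
  obtain ⟨d', rfl⟩ : ∃ d', d = d' + 1 := ⟨d - 1, by
    rcases d with _ | d
    · omega
    · simp⟩
  obtain rfl : B = j * (2 * d' + 1) := by nlinarith
  have h8 : a * (2 * d' + 1) = a' * e := Nat.eq_of_mul_eq_mul_left hj (by rw [← h3]; ring)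
  have h9 : a' = a * d' + a + d' := by nlinarith
  have he : e = 1 := by
    rcases e with _ | _ | e
    · simp at h8; omega
    · rfl
    · subst h9; nlinarith
  subst he
  have hd0 : d' = 0 := by
    by_contra hc
    have : 1 ≤ d' := by omega
    nlinarith
  subst hd0
  exact ⟨rfl, by omega, by omega, by omega⟩

namespace Pairing

variable {G V V' : Type*} [Group G] [AddCommGroup V] [AddCommGroup V']
  [DistribMulAction G V] [DistribMulAction G V'] [Module (ZMod 2) V] [Module (ZMod 2) V']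
  [Finite G] [Finite V] [Finite V'] {P : Pairing G V V'} {n : ℕ}

theorem Hyp.mem_W_comm (h : P.Hyp n) {x y z : V} : z ∈ P.W x y ↔ y ∈ P.W x z :=
  not_iff_not.1 ⟨h.swap23, h.swap23⟩

theorem Hyp.step (h : P.Hyp n) {m m' : ℕ} (hm : ∀ x y, Ind x y → Nat.card (P.M x y) = m)
    (hm' : ∀ k l, Ind k l → Nat.card (P.flip.M k l) = m') (h4 : 4 ≤ m) (hle : m ≤ m')
    {x : V} {l : V'} (hf : P.Flag x l) :
    m = m' ∧ (∀ y, l ∈ P.M x y → P.N x l ≤ P.W x y ∧ Nat.card (P.W x y) = 2 * Nat.card (P.N x l)) ∧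
      ∀ z, P.b z l = 0 → z ∉ P.N x l → ∃ y, l ∈ P.M x y ∧ z ∈ P.W x y := by
  obtain ⟨y0, hy0⟩ := h.exists_M hf
  have i0 := P.ind_of_mem_M hf.2.1 hy0
  obtain ⟨k0, hk0⟩ := exists_ind (by have := h.flip.le; omega) hf.2.1
  have c1 := h.card_T hf i0
  have c2 := h.flip.card_T hf.flip hk0
  have c3 : Nat.card (P.flip.T l x) * Nat.card (P.N x l) = Nat.card V := P.flip.card_mul_perp _
  have c4 := P.flip.two_mul_card_perp hf.2.1
  rw [hm _ _ i0] at c1
  rw [hm' _ _ hk0] at c2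
  rw [c2] at c3
  rw [P.card_eq] at c4
  have c5 := ncard_diff (A := P.N x l) (B := P.flip.perp {l})
  rw [inf_eq_left.2 fun v hv => P.flip.mem_perp_one.2 (P.N_le x l hv),
    show Nat.card (P.flip.perp {l}) = m' * Nat.card (P.N x l) by linarith] at c5
  have key : ∀ y z, l ∈ P.M x y → P.b z l = 0 → z ∉ P.N x l → Nat.card (P.N x l ⊓ P.W x y : AddSubgroup V) =
      Nat.card (P.N x l) ∧ m = m' ∧ Nat.card (P.W x y) = 2 * Nat.card (P.N x l) ∧
      0 < {v | v ∈ P.T x l ⊓ P.W x z ∧ Ind x v}.ncard := by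
    intro y z hy hz hzN
    have iy := P.ind_of_mem_M hf.2.1 hy
    have a1 := dcount {v | v ∈ P.T x l ∧ Ind x v} {v | v ∈ P.flip.perp {l} ∧ v ∉ P.N x l}
      (fun a b => b ∈ P.W x a) (m := {v | v ∈ P.W x y ∧ v ∉ P.N x l}.ncard)
      (n := {v | v ∈ P.T x l ⊓ P.W x z ∧ Ind x v}.ncard)
      (fun a ha => by
        have ha' := h.mem_M_of_T hf ha.1 ha.2
        obtain ⟨g, g1, g2, g3⟩ := h.trans_M hf.2.1 hy ha'
        refine (ncard_eq_of_smul g fun v => ?_).symm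
        change (_ ∧ g • v ∉ P.N x l) ∧ g • v ∈ P.W x a ↔ v ∈ P.W x y ∧ v ∉ P.N x l
        have b1 : g • v ∈ P.N x l ↔ v ∈ P.N x l := by rw [← P.N_smul g (y := v), g1, g2]
        have b2 : g • v ∈ P.W x a ↔ v ∈ P.W x y := by
          rw [← P.W_smul g (z := v), g1]
          rcases g3 with e | e <;> rw [e]
          rw [W_add]
        rw [b1, ← b2]
        exact ⟨fun c => ⟨c.2, c.1.2⟩, fun c => ⟨⟨P.flip.mem_perp_one.2 (ha' _ c.1), c.2⟩, c.1⟩⟩)
      (fun b hb => by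
        obtain ⟨g, g1, g2, rfl⟩ := h.trans_N hf.1 hz hzN (P.flip.mem_perp_one.1 hb.1) hb.2
        refine (ncard_eq_of_smul g fun v => ?_).symm
        change (g • v ∈ P.T x l ∧ Ind x (g • v)) ∧ g • z ∈ P.W x (g • v) ↔
          (v ∈ P.T x l ∧ v ∈ P.W x z) ∧ Ind x v
        have b1 : g • v ∈ P.T x l ↔ v ∈ P.T x l := by rw [← P.T_smul g (y := v), g1, g2]
        have b2 : Ind x (g • v) ↔ Ind x v := by rw [← ind_smul g (y := v), g1]
        have b3 : g • z ∈ P.W x (g • v) ↔ v ∈ P.W x z := by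
          rw [← h.mem_W_comm (z := z), ← P.W_smul g (z := z), g1]
        rw [b1, b2, b3]
        tauto)
    have hx : x ∈ P.T x l ⊓ P.W x z := ⟨P.left_mem_T x l, h.left_mem x z⟩
    refine arith1 (n := n) (hm _ _ i0 ▸ h.flip.card_dvd _) (hm' _ _ hk0 ▸ h.card_dvd _)
      (h.card_dvd _) h4 hle (by rw [c3, ← hm _ _ iy, P.card_W_mul]) Nat.card_pos
      (AddSubgroup.card_le_of_le inf_le_left) (c1 ▸ ncard_sub_line hf.1 (P.left_mem_T x l))
      ncard_diff c5 (ncard_sub_line hf.1 hx) ?_ a1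
    rw [← card_adj_bot hf.1]
    exact AddSubgroup.card_dvd_of_le (adj_le bot_le hx)
  obtain ⟨z0, hz0, hz1⟩ : {v | v ∈ P.flip.perp {l} ∧ v ∉ P.N x l}.Nonempty := by
    rw [← Set.ncard_pos]
    have : 0 < Nat.card (P.N x l) := Nat.card_pos
    have := Nat.mul_le_mul_right (Nat.card (P.N x l)) (h4.trans hle)
    omega
  rw [mem_perp_one] at hz0
  refine ⟨(key y0 z0 hy0 hz0 hz1).2.1, fun y hy => ?_, fun z hz hzN => ?_⟩
  · obtain ⟨b1, -, b2, -⟩ := key y z0 hy hz0 hz1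
    exact ⟨inf_eq_left.1 (eq_of_le_of_card inf_le_left b1.ge), b2⟩
  · obtain ⟨v, hv1, hv2⟩ := (Set.ncard_pos (Set.toFinite _)).1 (key y0 z hy0 hz hzN).2.2.2
    exact ⟨v, h.mem_M_of_T hf hv1.1 hv2, h.mem_W_comm.1 hv1.2⟩

/-- The one-sided facts in the symmetric situation. -/
structure Facts (P : Pairing G V V') (n m : ℕ) : Prop extends P.Hyp n where
  cM : ∀ x y, Ind x y → Nat.card (P.M x y) = m
  TN : ∀ x l, P.Flag x l → P.T x l ≤ P.N x l
  NW : ∀ x y l, l ≠ 0 → l ∈ P.M x y → P.N x l ≤ P.W x y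
  cW : ∀ x y l, l ≠ 0 → l ∈ P.M x y → Nat.card (P.W x y) = 2 * Nat.card (P.N x l)
  cover : ∀ x l z, P.Flag x l → P.b z l = 0 → z ∉ P.N x l → ∃ y, l ∈ P.M x y ∧ z ∈ P.W x y

variable {m : ℕ}

theorem Facts.cT (h : P.Facts n m) {x : V} {l : V'} (hf : P.Flag x l) :
    Nat.card (P.T x l) = 2 * m := by
  obtain ⟨y, hy⟩ := exists_ind (by have := h.le; omega) hf.1
  rw [h.card_T hf hy, h.cM _ _ hy]

theorem Facts.M_le (h : P.Facts n m) {x y : V} {l : V'} (h0 : l ≠ 0) (hl : l ∈ P.M x y) :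
    P.M x y ≤ P.flip.T l x := by
  rw [← perp_N]; exact P.perp_anti (h.NW x y l h0 hl)

theorem Facts.inj (h : P.Facts n m) {x : V} {k l : V'} (hl : P.Flag x l) (hk : P.Flag x k)
    (e : P.T x k = P.T x l) : k = l := by
  have a1 : ∀ y, l ∈ P.M x y → k ∈ P.M x y := fun y hy =>
    h.mem_M_of_T hk (e ▸ P.mem_T_of_M hy) (P.ind_of_mem_M hl.2.1 hy)
  have a2 : k ∈ P.perp (P.flip.perp {l}) := fun z hz => by
    by_cases hN : z ∈ P.N x l
    · obtain ⟨y, hy⟩ := h.exists_M hl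
      exact a1 y hy z (h.NW x y l hl.2.1 hy hN)
    · obtain ⟨y, hy, hz'⟩ := h.cover x l z hl (P.flip.mem_perp_one.1 hz) hN
      exact a1 y hy z hz'
  exact (P.flip.mem_perp_perp_one.1 a2).resolve_left hk.2.1

theorem Facts.T_eq (h : P.Facts n m) (h' : P.flip.Facts n m) (h8 : 4 < m) {x y : V} {l : V'}
    (hf : P.Flag x l) (hy : y ∈ P.T x l) (h0 : y ≠ 0) : P.T y l = P.T x l := by
  have hf' : P.Flag y l := ⟨h0, hf.2.1, h.T_le hf hy⟩
  refine (eq_of_le_of_card (fun z hz => ?_) (by rw [h.cT hf, h.cT hf'])).symm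
  set U := adj (adj (adj ⊥ x) y) z
  have u1 : Nat.card U ≤ 8 := by
    have b1 : Nat.card U ≤ _ := card_adj_le (adj (adj ⊥ x) y) z
    have b2 := card_adj_le (adj ⊥ x) y
    rw [card_adj_bot hf.1] at b2
    omega
  obtain ⟨t, ht, htU⟩ : ∃ t ∈ P.T x l, t ∉ U := by
    by_contra hc
    push Not at hc
    have := AddSubgroup.card_le_of_le (show P.T x l ≤ U from hc)
    rw [h.cT hf] at this
    omega
  obtain ⟨ν, h1, h2⟩ := P.exists_of_not_mem htU
  have hx : x ∈ U := le_adj _ _ (le_adj _ _ (self_mem_adj _ _))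
  have hνN : ν ∉ P.flip.N l x := fun c => zero_ne_one ((c t ht).symm.trans h2)
  obtain ⟨k, hk, hν⟩ := h'.cover l x ν hf.flip (h1 x hx) hνN
  have a1 : adj (P.flip.N l x) ν = P.flip.W l k :=
    eq_of_le_of_card (adj_le (h'.NW l k x hf.1 hk) hν)
      (by rw [card_adj hνN, h'.cW l k x hf.1 hk])
  have a2 : ∀ v ∈ P.T x l, v ∈ U → v ∈ P.flip.M l k := fun v hv hvU κ hκ => by
    change κ ∈ P.flip.W l k at hκ
    rw [← a1] at hκ
    rcases hκ with c | c
    · exact c v hv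
    · have : P.b v (κ + ν) = 0 := c v hv
      rwa [map_add, h1 v hvU, add_zero] at this
  exact h'.M_le h0 (a2 y hy (le_adj _ _ (self_mem_adj _ _))) (a2 z hz (self_mem_adj _ _))

theorem Facts.dvd_flag (h : P.Facts n m) (h' : P.flip.Facts n m) (h8 : 4 < m) {l : V'}
    (hl : l ≠ 0) : 2 * m - 1 ∣ {x | P.flip.Flag l x}.ncard := by
  classical
  set S := (Set.toFinite {x | P.flip.Flag l x}).toFinset with hS
  rw [Set.ncard_eq_toFinset_card, ← hS, Finset.card_eq_sum_card_image (fun x => P.T x l)]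
  refine Finset.dvd_sum fun U hU => ?_
  obtain ⟨x, hx, rfl⟩ := Finset.mem_image.1 hU
  have hf : P.Flag x l := Flag.flip (P := P.flip) (by simpa [hS] using hx)
  have a1 := ncard_sub_zero (P.T x l)
  rw [h.cT hf] at a1
  rw [← a1, Nat.add_sub_cancel, ← Set.ncard_coe_finset]
  apply dvd_of_eq
  congr 1
  ext y
  simp only [hS, Finset.coe_filter, Set.Finite.mem_toFinset, Set.mem_ofPred_eq]
  exact ⟨fun c => ⟨⟨hl, c.2, h.T_le hf c.1⟩, h.T_eq h' h8 hf c.1 c.2⟩,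
    fun c => ⟨c.2 ▸ P.left_mem_T y l, c.1.2.1⟩⟩

theorem arith2 {m κ f : ℕ} (h8 : 4 < m) (h2 : 2 ≤ κ) (hκ : 4 * κ ≤ m)
    (hf : 2 * f + 2 = 2 * m * (κ * (2 * m))) (hd : 2 * m - 1 ∣ f) : κ = 2 := by
  obtain ⟨r, hr⟩ : ∃ r, 2 * m = r + 1 := ⟨2 * m - 1, by omega⟩
  obtain ⟨d, rfl⟩ : ∃ d, κ = d + 2 := ⟨κ - 2, by omega⟩
  rw [hr, Nat.add_sub_cancel] at hd
  rw [hr] at hf
  have h1 : 2 * f = r * ((r + 2) * (d + 2)) + d := by nlinarith
  have h3 : r ∣ d := (Nat.dvd_add_right (Dvd.intro _ rfl)).1 (h1 ▸ hd.mul_left 2)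
  rw [Nat.eq_zero_of_dvd_of_lt h3 (by omega)]

theorem Facts.false (h : P.Facts n m) (h' : P.flip.Facts n m) (hn : Odd n)
    (h3 : Nat.card V ≤ m ^ 3) : False := by
  obtain ⟨x, hx⟩ : ∃ x : V, x ≠ 0 := by
    have := h.le
    have : Nontrivial V := Finite.one_lt_card_iff_nontrivial.1 (by omega)
    exact exists_ne 0
  obtain ⟨y, hxy⟩ := exists_ind (by have := h.le; omega) hx
  obtain ⟨w, hw⟩ := h.exists_not_mem hxy
  obtain ⟨l, hl, hl0⟩ := P.exists_of_not_mem hw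
  replace hl0 := P.ne_zero_right hl0
  change l ∈ P.M x y at hl
  have hf := h.flag_of_mem hl0 hl
  have cN : ∀ a k, P.Flag a k → 2 * m * Nat.card (P.N a k) = Nat.card V := fun a k hak => by
    rw [← h'.cT hak.flip]; exact P.flip.card_mul_perp _
  obtain ⟨κ, hκ⟩ := AddSubgroup.card_dvd_of_le (h.TN x l hf)
  have c1 := cN x l hf
  rw [hκ, h.cT hf, mul_comm _ κ] at c1
  have hpos : 0 < Nat.card V := Nat.card_pos
  have hm : 0 < m := by
    rcases m with _ | m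
    · simp at h3; omega
    · omega
  have c2 : 4 * κ ≤ m := Nat.le_of_mul_le_mul_left (c := m * m) (by nlinarith) (by positivity)
  have c3 : 2 ≤ κ := by
    rcases κ with _ | _ | κ
    · omega
    · exfalso
      rw [h.card, zero_add, one_mul] at c1
      have e := congrArg (fun a => a.factorization 2) c1
      simp only [Nat.factorization_mul (show 2 * m ≠ 0 by omega) (show 2 * m ≠ 0 by omega),
        Nat.factorization_pow, Finsupp.add_apply, Finsupp.smul_apply,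
        Nat.Prime.factorization_self Nat.prime_two, smul_eq_mul, mul_one] at e
      obtain ⟨r, hr⟩ := hn
      omega
    · omega
  have h8 : 4 < m := by omega
  have c4 := P.flip.two_mul_ncard_flag hl0
  rw [P.card_eq, ← c1] at c4
  obtain rfl := arith2 h8 c3 c2 c4 (h.dvd_flag h' h8 hl0)
  obtain ⟨k, hk, hkl⟩ : ∃ k ∈ P.M x y, k ∉ adj ⊥ l := by
    by_contra hc
    push Not at hc
    have := AddSubgroup.card_le_of_le (show P.M x y ≤ adj ⊥ l from hc)
    rw [h.cM _ _ hxy, card_adj_bot hl0] at this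
    omega
  rw [mem_adj_bot, not_or] at hkl
  have key : ∀ a c, l ∈ P.M a c → k ∈ P.M a c → P.T a l ⊔ P.T a k = P.N a l := by
    intro a c h1 h2
    have f1 := h.flag_of_mem hl0 h1
    have f2 := h.flag_of_mem hkl.1 h2
    have e1 : P.N a k = P.N a l := by
      rw [N, N, h'.T_eq h h8 f1.flip (h.M_le hl0 h1 h2) hkl.1]
    refine eq_of_card_two le_sup_left (sup_le (h.TN a l f1) (e1 ▸ h.TN a k f2)) (fun e => ?_) ?_
    · refine hkl.2 (h.inj f1 f2 (eq_of_le_of_card (e ▸ le_sup_right) ?_))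
      rw [h.cT f1, h.cT f2]
    · have := cN a l f1
      rw [← c1] at this
      rw [h.cT f1]
      exact Nat.eq_of_mul_eq_mul_left (by omega) this
  have e1 := key x y hl hk
  have e2 := key y x (h.M_symm x y ▸ hl) (h.M_symm x y ▸ hk)
  rw [h.T_eq h' h8 hf (P.mem_T_of_M hl) hxy.2.1,
    h.T_eq h' h8 (h.flag_of_mem hkl.1 hk) (P.mem_T_of_M hk) hxy.2.1, e1] at e2
  refine hxy.2.2 (h'.inj (h.flag_of_mem hl0 (h.M_symm x y ▸ hl)).flip hf.flip ?_)
  rw [← perp_N, ← perp_N, e2]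

theorem Hyp.dvd_aux (h : P.Hyp n) (hn : Odd n) {m m' : ℕ}
    (hm : ∀ x y, Ind x y → Nat.card (P.M x y) = m)
    (hm' : ∀ k l, Ind k l → Nat.card (P.flip.M k l) = m') (h3 : Nat.card V ≤ m ^ 3)
    (hle : m ≤ m') : 2 ^ n - 4 ∣ Nat.card G := by
  by_contra hG
  have h4 : 4 ≤ m := by
    by_contra hc
    have := Nat.pow_le_pow_left (show m ≤ 3 by omega) 3
    have := h.le
    omega
  obtain ⟨x, hx⟩ : ∃ x : V, x ≠ 0 := by
    have := h.le
    have : Nontrivial V := Finite.one_lt_card_iff_nontrivial.1 (by omega)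
    exact exists_ne 0
  obtain ⟨y, hxy⟩ := exists_ind (by have := h.le; omega) hx
  obtain ⟨w, hw⟩ := h.exists_not_mem hxy
  obtain ⟨l, hl, hl0⟩ := P.exists_of_not_mem hw
  obtain rfl := (h.step hm hm' h4 hle (h.flag_of_mem (P.ne_zero_right hl0) hl)).1
  refine Facts.false (P := P) (m := m) ⟨h, hm, fun _ _ => h.T_le_N hG, fun a c k h1 h2 => ?_,
    fun a c k h1 h2 => ?_, fun a k z h1 => (h.step hm hm' h4 hle h1).2.2 z⟩
    ⟨h.flip, hm', fun _ _ => h.flip.T_le_N hG, fun a c k h1 h2 => ?_,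
    fun a c k h1 h2 => ?_, fun a k z h1 => (h.flip.step hm' hm h4 hle h1).2.2 z⟩ hn h3
  · exact ((h.step hm hm' h4 hle (h.flag_of_mem h1 h2)).2.1 c h2).1
  · exact ((h.step hm hm' h4 hle (h.flag_of_mem h1 h2)).2.1 c h2).2
  · exact ((h.flip.step hm' hm h4 hle (h.flip.flag_of_mem h1 h2)).2.1 c h2).1
  · exact ((h.flip.step hm' hm h4 hle (h.flip.flag_of_mem h1 h2)).2.1 c h2).2

/-- A doubly transitive group in odd dimension with an abelian transitive subgroup has order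
divisible by `2 ^ n - 4`. -/
theorem Hyp.sub_four_dvd (h : P.Hyp n) (hn : Odd n) {A : Subgroup G} (hA : Tr1 V A)
    (hc : ∀ a ∈ A, ∀ b ∈ A, a * b = b * a) : 2 ^ n - 4 ∣ Nat.card G := by
  obtain ⟨x, hx⟩ : ∃ x : V, x ≠ 0 := by
    have := h.le
    have : Nontrivial V := Finite.one_lt_card_iff_nontrivial.1 (by omega)
    exact exists_ne 0
  obtain ⟨y, hxy⟩ := exists_ind (by have := h.le; omega) hx
  obtain ⟨k, hk⟩ : ∃ x : V', x ≠ 0 := by
    have := h.flip.le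
    have : Nontrivial V' := Finite.one_lt_card_iff_nontrivial.1 (by omega)
    exact exists_ne 0
  obtain ⟨l, hkl⟩ := exists_ind (by have := h.flip.le; omega) hk
  rcases le_total (Nat.card (P.M x y)) (Nat.card (P.flip.M k l)) with hle | hle
  · exact h.dvd_aux hn (fun _ _ c => h.card_M c hxy) (fun _ _ c => h.flip.card_M c hkl)
      (h.le_cube hA hc hxy) hle
  · exact h.flip.dvd_aux hn (fun _ _ c => h.flip.card_M c hkl) (fun _ _ c => h.card_M c hxy)
      (h.flip.le_cube (P.tr1_dual hA) hc hkl) hle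

end Pairing

end Cfsg.Agent.P10K
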