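import Cfsg.Agent.S4230

/-! Zsigmondy primes for base two and odd exponent. -/

set_option autoImplicit false

namespace Cfsg.Agent.P10K

open Polynomial

theorem eval_cyc_mul_pow {s : ℕ} (hs : s.Prime) (e : ℕ) (x : ℝ) : ∀ i : ℕ,
    (cyclotomic (e * s * s ^ i) ℝ).eval x = (cyclotomic (e * s) ℝ).eval (x ^ s ^ i) := by
  intro i
  induction i generalizing x with
  | zero => simp
  | succ i ih =>
    rw [pow_succ, ← mul_assoc, ← cyclotomic_expand_eq_cyclotomic hs
      ((Dvd.intro_left e rfl).mul_right _), expand_eval, ih, ← pow_mul, mul_comm s (s ^ i)]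

theorem two_pow_ge {s : ℕ} (hs : 4 ≤ s) : 2 * s + 4 ≤ 2 ^ s := by
  induction s, hs using Nat.le_induction with
  | base => norm_num
  | succ k _ ih => rw [pow_succ]; omega

theorem neg_one_ne : (-1 : ZMod 3) ≠ 1 := by decide

theorem zsigmondy {m : ℕ} (hm : Odd m) (h1 : 1 < m) :
    ∃ s : ℕ, s.Prime ∧ orderOf (2 : ZMod s) = m := by
  by_contra hc
  push Not at hc
  set N := (cyclotomic m ℤ).eval ((2 : ℕ) : ℤ) with hN
  have hN1 : 1 < N.natAbs := sub_one_lt_natAbs_cyclotomic_eval (q := 2) h1 (by norm_num)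
  have hdvd : N ∣ 2 ^ m - 1 := by
    simpa [hN] using eval_dvd (x := ((2 : ℕ) : ℤ)) (cyclotomic.dvd_X_pow_sub_one m ℤ)
  have key : ∀ s : ℕ, s.Prime → s ∣ N.natAbs → s ≠ 2 ∧
      ∃ j, m = orderOf (2 : ZMod s) * s * s ^ j ∧ orderOf (2 : ZMod s) ∣ s - 1 := by
    intro s hs h
    rw [← Int.natCast_dvd] at h
    have h2 : s ≠ 2 := by
      rintro rfl
      have := h.trans hdvd
      have h3 : ((2 : ℕ) : ℤ) ∣ 2 ^ m := dvd_pow_self 2 (by omega)
      omega
    have h3 : ¬ s ∣ 2 := fun h => h2 ((Nat.prime_dvd_prime_iff_eq hs Nat.prime_two).1 h)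
    obtain ⟨j, hj⟩ := (S4230.result s 2 m hs h2 h3).1 h
    have := Fact.mk hs
    refine ⟨h2, ?_⟩
    rcases j with _ | j
    · exact absurd (by simpa using hj.symm) (hc s hs)
    · refine ⟨j, by rw [mul_assoc, ← pow_succ']; exact hj, ZMod.orderOf_dvd_card_sub_one ?_⟩
      have : ((2 : ℕ) : ZMod s) ≠ 0 := by rwa [Ne, ZMod.natCast_eq_zero_iff]
      simpa using this
  have hlt : ∀ s t : ℕ, s.Prime → t.Prime → s ∣ N.natAbs → t ∣ N.natAbs → ¬ s < t := by
    intro s t hs ht h h' hlt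
    obtain ⟨-, j, e1, e2⟩ := key s hs h
    obtain ⟨-, k, e3, -⟩ := key t ht h'
    have a1 : t ∣ orderOf (2 : ZMod s) * (s * s ^ j) := by
      rw [← mul_assoc, ← e1, e3]; exact (Dvd.intro_left _ rfl).mul_right _
    rcases (Nat.Prime.dvd_mul ht).1 a1 with a2 | a2
    · have := Nat.le_of_dvd (by have := hs.two_le; omega) (a2.trans e2)
      omega
    · rw [← pow_succ'] at a2
      have := (Nat.prime_dvd_prime_iff_eq ht hs).1 (ht.dvd_of_dvd_pow a2)
      omega
  obtain ⟨s, hs, hsN⟩ := Nat.exists_prime_and_dvd hN1.ne'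
  have := Fact.mk hs
  obtain ⟨h2, j, e1, e2⟩ := key s hs hsN
  set e := orderOf (2 : ZMod s) with he
  have hs2 := hs.two_le
  have hpow : N.natAbs = s ^ N.natAbs.primeFactorsList.length :=
    Nat.eq_prime_pow_of_unique_prime_dvd (by omega) fun {t} ht h =>
      le_antisymm (not_lt.1 (hlt s t hs ht hsN h)) (not_lt.1 (hlt t s ht hs h hsN))
  have hsq : ¬ s ^ 2 ∣ N.natAbs := by
    intro h
    rw [← Int.natCast_dvd] at h
    have hd : e * s ^ j ∈ m.properDivisors := by
      rw [Nat.mem_properDivisors]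
      refine ⟨⟨s, by rw [e1]; ring⟩, ?_⟩
      have : 0 < e * s ^ j := Nat.pos_of_ne_zero fun h => by
        rw [mul_right_comm, h] at e1; omega
      rw [e1, mul_right_comm]
      nlinarith
    have a1 := eval_dvd (x := ((2 : ℕ) : ℤ))
      (X_pow_sub_one_mul_cyclotomic_dvd_X_pow_sub_one_of_dvd ℤ hd)
    simp only [eval_mul, eval_sub, eval_pow, eval_X, eval_one, ← hN] at a1
    set x : ℤ := ((2 : ℕ) : ℤ) ^ (e * s ^ j) with hx
    have a2 : ((2 : ℕ) : ℤ) ^ m - 1 = (x - 1) * ∑ i ∈ Finset.range s, x ^ i * 1 ^ (s - 1 - i) := by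
      rw [mul_comm, geom_sum₂_mul, hx, ← pow_mul, mul_right_comm, ← e1, one_pow]
    have a3 : x - 1 ≠ 0 := by
      have : 1 < x := one_lt_pow₀ (by norm_num) fun h => by
        rw [mul_right_comm, h] at e1; omega
      omega
    rw [a2, mul_dvd_mul_iff_left a3] at a1
    have a4 : (s : ℤ) ∣ x - 1 := by
      rw [← ZMod.intCast_zmod_eq_zero_iff_dvd]
      simp [hx, pow_mul, he, pow_orderOf_eq_one]
    have a5 := emultiplicity_geom_sum₂_eq_one (Nat.prime_iff_prime_int.1 hs)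
      (hs.odd_of_ne_two h2) a4 (fun h => by
        have := (dvd_sub h a4)
        rw [sub_sub_cancel] at this
        exact hs.not_dvd_one (by exact_mod_cast this))
    have a6 := le_emultiplicity_of_pow_dvd (Nat.cast_pow (α := ℤ) s 2 ▸ h.trans a1)
    rw [a5] at a6
    exact absurd a6 (by decide)
  have hNs : N.natAbs = s := by
    generalize N.natAbs.primeFactorsList.length = a at hpow
    rcases a with _ | _ | a
    · rw [pow_zero] at hpow; omega
    · simpa using hpow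
    · exact absurd (hpow ▸ pow_dvd_pow s (by omega)) hsq
  have he0 : 0 < e := Nat.pos_of_ne_zero fun h => by rw [h] at e1; omega
  have hse : ¬ s ∣ e := fun h => by
    have := Nat.le_of_dvd (by omega) (h.trans e2)
    omega
  have hs5 : 5 ≤ s := by
    refine hs.five_le_of_ne_two_of_ne_three h2 ?_
    rintro rfl
    have a1 : (2 : ZMod 3) ^ m = 1 := orderOf_dvd_iff_pow_eq_one.1 ⟨3 * 3 ^ j, by rw [e1]; ring⟩
    rw [show (2 : ZMod 3) = -1 from rfl, hm.neg_one_pow] at a1
    exact neg_one_ne a1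
  set b : ℝ := 2 ^ s ^ j with hb
  have hb2 : 2 ≤ b := le_self_pow₀ (by norm_num) (by positivity)
  have r1 : (cyclotomic (e * s) ℝ).eval b ≤ s := by
    rw [← eval_cyc_mul_pow hs, ← e1, ← hNs]
    have := cyclotomic.eval_apply ((2 : ℕ) : ℤ) m (algebraMap ℤ ℝ)
    simp only [Nat.cast_ofNat, eq_intCast, Int.cast_ofNat, algebraMap_int_eq] at this
    rw [this, Nat.cast_natAbs, Int.cast_abs]
    exact le_abs_self _
  have r2 := congrArg (eval b) (cyclotomic_expand_eq_cyclotomic_mul hs hse ℝ)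
  rw [expand_eval, eval_mul] at r2
  have hbs : (s : ℝ) * (b + 1) < b ^ s - 1 := by
    obtain ⟨t, rfl⟩ : ∃ t, s = t + 1 := ⟨s - 1, by omega⟩
    have a1 : (2 * t + 4 : ℝ) ≤ 2 ^ t := by exact_mod_cast two_pow_ge (s := t) (by omega)
    have a2 : (2 : ℝ) ^ t ≤ b ^ t := pow_le_pow_left₀ (by norm_num) hb2 t
    have a3 : (0 : ℝ) ≤ t := by positivity
    push_cast
    rw [pow_succ]
    nlinarith
  have r3 := sub_one_pow_totient_le_cyclotomic_eval (q := b ^ s) (by nlinarith) e
  have r4 := cyclotomic_eval_le_add_one_pow_totient (q := b) (by linarith) e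
  have r5 := cyclotomic_nonneg e (show (1 : ℝ) ≤ b by linarith)
  have hφ : 0 < e.totient := Nat.totient_pos.2 he0
  have r6 : ((s : ℝ) * (b + 1)) ^ e.totient < (b ^ s - 1) ^ e.totient :=
    pow_lt_pow_left₀ hbs (by positivity) hφ.ne'
  have r7 : (s : ℝ) ≤ s ^ e.totient := le_self_pow₀ (by exact_mod_cast hs.one_le) hφ.ne'
  rw [mul_pow] at r6
  have r8 : (s : ℝ) * (b + 1) ^ e.totient ≤ s ^ e.totient * (b + 1) ^ e.totient :=
    mul_le_mul_of_nonneg_right r7 (by positivity)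
  have r9 := mul_le_mul r1 r4 r5 (by positivity)
  linarith

end Cfsg.Agent.P10K
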