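import Cfsg.Agent.P10.K7
import Cfsg.Agent.P10.K6

/-! Perin's argument: existence of a transvection. -/

set_option autoImplicit false
set_option linter.unusedSectionVars false

namespace Cfsg.Agent.P10K

open MulAction

variable {G V : Type*} [Group G] [AddCommGroup V] [DistribMulAction G V] [Module (ZMod 2) V]

variable (V) in
/-- Fixed vectors of a subgroup. -/
def fixS (R : Subgroup G) : AddSubgroup V where
  carrier := {v | ∀ r ∈ R, r • v = v}
  zero_mem' := fun r _ => smul_zero r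
  add_mem' := fun {a b} ha hb r hr => by rw [smul_add, ha r hr, hb r hr]
  neg_mem' := fun {a} ha r hr => by rw [smul_neg, ha r hr]

variable (V) in
/-- Fixed vectors of an element. -/
def fix (g : G) : AddSubgroup V where
  carrier := {v | g • v = v}
  zero_mem' := smul_zero g
  add_mem' := fun {a b} ha hb => by
    change g • (a + b) = a + b
    rw [smul_add, show g • a = a from ha, show g • b = b from hb]
  neg_mem' := fun {a} ha => by
    change g • (-a) = -a
    rw [smul_neg, show g • a = a from ha]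

theorem mem_fix {g : G} {v : V} : v ∈ fix V g ↔ g • v = v := Iff.rfl

theorem fixS_zpowers (g : G) : fixS V (Subgroup.zpowers g) = fix V g := by
  ext v
  exact ⟨fun h => h g (Subgroup.mem_zpowers g),
    fun h r hr => (Subgroup.zpowers_le.2 (show g ∈ stabilizer G v from h)) hr⟩

variable [Finite V]

theorem card_modEq_fixS {s : ℕ} [Fact s.Prime] {R : Subgroup G} (hR : IsPGroup s R)
    (U : AddSubgroup V) (hU : ∀ r ∈ R, ∀ v ∈ U, r • v ∈ U) :
    Nat.card U ≡ Nat.card (U ⊓ fixS V R : AddSubgroup V) [MOD s] := by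
  let X : SubMulAction R V := ⟨U, fun r v hv => hU r r.2 v hv⟩
  have h := hR.card_modEq_card_fixedPoints X
  have e : Nat.card (fixedPoints R X) = Nat.card (U ⊓ fixS V R : AddSubgroup V) :=
    Nat.card_congr
      { toFun := fun v => ⟨v.1.1, v.1.2, fun r hr => congrArg Subtype.val (v.2 ⟨r, hr⟩)⟩
        invFun := fun v => ⟨⟨v.1, v.2.1⟩, fun r => Subtype.ext (v.2.2 r r.2)⟩
        left_inv := fun _ => rfl
        right_inv := fun _ => rfl }
  rw [e] at h
  exact h

theorem card_modEq_fix [Finite G] {s : ℕ} [Fact s.Prime] {g : G}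
    (hR : IsPGroup s (Subgroup.zpowers g)) (U : AddSubgroup V) (hU : ∀ v ∈ U, g • v ∈ U) :
    Nat.card U ≡ Nat.card (U ⊓ fix V g : AddSubgroup V) [MOD s] := by
  rw [← fixS_zpowers]
  refine card_modEq_fixS hR U fun r hr => ?_
  obtain ⟨i, rfl⟩ := (mem_powers_iff_mem_zpowers.2 hr)
  induction i with
  | zero => simp
  | succ i ih =>
    intro v hv
    simp only [pow_succ, mul_smul]
    exact ih (Subgroup.pow_mem _ (Subgroup.mem_zpowers g) i) _ (hU v hv)

theorem card_le_sq {t : G} (ht : t * t = 1) (U : AddSubgroup V) (hU : ∀ v ∈ U, t • v ∈ U) :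
    Nat.card U ≤ Nat.card (U ⊓ fix V t : AddSubgroup V) ^ 2 := by
  let φ : U →+ V := (DistribSMul.toAddMonoidHom V t + AddMonoidHom.id V).comp U.subtype
  have hφ : ∀ u : U, φ u = t • (u : V) + u := fun _ => rfl
  rw [← φ.ker.card_mul_index, AddSubgroup.index_ker, sq]
  refine Nat.mul_le_mul ?_ (AddSubgroup.card_le_of_le ?_)
  · refine Nat.card_le_card_of_injective (fun u => ⟨u.1.1, u.1.2, add_eq_zero_iff.1 u.2⟩) ?_
    intro a b e
    have e' := congrArg Subtype.val e
    exact Subtype.ext (Subtype.ext e')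
  · rintro _ ⟨u, rfl⟩
    refine ⟨U.add_mem (hU _ u.2) u.2, ?_⟩
    change t • φ u = φ u
    rw [hφ, smul_add, ← mul_smul, ht, one_smul, add_comm]

theorem card_mul_le {A B C : AddSubgroup V} (hA : A ≤ C) (hB : B ≤ C)
    (h : ∀ v ∈ A, v ∈ B → v = 0) : Nat.card A * Nat.card B ≤ Nat.card C := by
  rw [← Nat.card_prod]
  refine Nat.card_le_card_of_injective
    (fun p => (⟨p.1 + p.2, C.add_mem (hA p.1.2) (hB p.2.2)⟩ : C)) ?_
  rintro ⟨a, b⟩ ⟨a', b'⟩ e
  have e1 : (a : V) + b = a' + b' := congrArg Subtype.val e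
  have e2 : (a : V) + a' = b + b' := by
    rw [← add_eq_zero_iff, add_add_add_comm, e1, add_self]
  have e3 := h _ (A.add_mem a.2 a'.2) (e2 ▸ B.add_mem b.2 b'.2)
  exact Prod.ext (Subtype.ext (add_eq_zero_iff.1 e3)) (Subtype.ext (add_eq_zero_iff.1 (e2 ▸ e3)))

theorem exists_pow_card {n : ℕ} (hV : Nat.card V = 2 ^ n) (U : AddSubgroup V) :
    ∃ k, Nat.card U = 2 ^ k := by
  obtain ⟨k, -, e⟩ := (Nat.dvd_prime_pow Nat.prime_two).1
    (hV ▸ AddSubgroup.card_addSubgroup_dvd_card U)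
  exact ⟨k, e⟩

theorem dvd_of_modEq {s m a b : ℕ} (hm : 0 < m) (hs : orderOf (2 : ZMod s) = m) (hab : b ≤ a)
    (h : 2 ^ a ≡ 2 ^ b [MOD s]) : m ∣ a - b := by
  rw [← ZMod.natCast_eq_natCast_iff] at h
  push_cast at h
  have hfin : IsOfFinOrder (2 : ZMod s) := orderOf_pos_iff.1 (hs ▸ hm)
  rw [hfin.pow_eq_pow_iff_modEq, hs] at h
  exact (Nat.modEq_iff_dvd' hab).1 h.symm

theorem card_lt_of_ne_top {U : AddSubgroup V} {z : V} (hz : z ∉ U) : Nat.card U < Nat.card V := by
  have h1 := Pairing.two_mul_card_le hz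
  have : 0 < Nat.card U := Nat.card_pos
  omega

variable [Finite G]

theorem perin {m : ℕ} (hV : Nat.card V = 2 ^ (m + 2)) (hm : Odd m) (h3 : 3 ≤ m)
    (hf : ∀ g : G, (∀ v : V, g • v = v) → g = 1) (h2 : Tr2 G V) (hG : 2 ^ m - 1 ∣ Nat.card G) :
    ∃ t : G, 2 * Nat.card (fix V t) = Nat.card V := by
  obtain ⟨s, hs, hord⟩ := zsigmondy hm (by omega)
  have := Fact.mk hs
  have hmod := fun a b => dvd_of_modEq (a := a) (b := b) (by omega) hord
  have hsG : s ∣ Nat.card G := by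
    refine Dvd.dvd.trans ?_ hG
    rw [← ZMod.natCast_eq_zero_iff, Nat.cast_sub Nat.one_le_two_pow]
    simp [← hord, pow_orderOf_eq_one]
  have hlt : ∀ {g : G} {k : ℕ} {U : AddSubgroup V}, g ≠ 1 → U ≤ fix V g → Nat.card U = 2 ^ k →
      k < m + 2 := by
    intro g k U hg hU hk
    obtain ⟨v, hv⟩ : ∃ v : V, g • v ≠ v := by
      by_contra hc
      push Not at hc
      exact hg (hf g hc)
    have := card_lt_of_ne_top (U := U) (fun h => hv (hU h))
    rwa [hk, hV, Nat.pow_lt_pow_iff_right one_lt_two] at this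
  have fix4 : ∀ R : Subgroup G, IsPGroup s R → R ≠ ⊥ → Nat.card (fixS V R) = 2 ^ 2 := by
    intro R hR hne
    obtain ⟨⟨r, hr⟩, hr1⟩ := Subgroup.ne_bot_iff_exists_ne_one.1 hne
    obtain ⟨k, hk⟩ := exists_pow_card hV (fixS V R)
    have a1 := card_modEq_fixS hR (⊤ : AddSubgroup V) fun _ _ _ _ => trivial
    have a2 := hlt (U := fixS V R) (fun e => hr1 (Subtype.ext e)) (fun v hv => hv r hr) hk
    rw [top_inf_eq, AddSubgroup.card_top, hV, hk] at a1
    obtain ⟨c, hc⟩ := hmod _ _ a2.le a1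
    rw [hk]
    rcases c with _ | _ | c
    · omega
    · congr 1; omega
    · rw [mul_add, mul_add] at hc; omega
  obtain ⟨R⟩ : Nonempty (Sylow s G) := inferInstance
  have hR := R.ne_bot_of_dvd_card hsG
  have hzp : ∀ r ∈ (R : Subgroup G), IsPGroup s (Subgroup.zpowers r) := fun r hr =>
    R.isPGroup'.to_le (Subgroup.zpowers_le.2 hr)
  have fix4' : ∀ r ∈ (R : Subgroup G), r ≠ 1 → Nat.card (fix V r) = 2 ^ 2 := fun r hr h1 => by
    rw [← fixS_zpowers]; exact fix4 _ (hzp r hr) (by simpa using h1)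
  obtain ⟨x, y, hx, hy, hxy⟩ : ∃ x y, x ∈ fixS V (R : Subgroup G) ∧ y ∈ fixS V (R : Subgroup G) ∧
      Ind x y := by
    have c := fix4 _ R.isPGroup' hR
    obtain ⟨x, hx, hx0⟩ : {v | v ∈ fixS V (R : Subgroup G) ∧ v ≠ 0}.Nonempty := by
      have := ncard_sub_zero (fixS V (R : Subgroup G))
      rw [← Set.ncard_pos]; omega
    obtain ⟨y, hy⟩ : {v | v ∈ fixS V (R : Subgroup G) ∧ Ind x v}.Nonempty := by
      have := ncard_sub_line hx0 hx
      rw [← Set.ncard_pos]; omega
    exact ⟨x, y, hx, hy.1, hy.2⟩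
  obtain ⟨k, hk, k1, k2⟩ : ∃ k ∈ Subgroup.normalizer (R : Set G), k • x = y ∧ k • y = x := by
    obtain ⟨g, g1, g2⟩ := h2 x y y x hxy hxy.symm
    have l1 : (R : Subgroup G) ≤ stabilizer G x ⊓ stabilizer G y := fun r hr => ⟨hx r hr, hy r hr⟩
    have l2 : ((g • R : Sylow s G) : Subgroup G) ≤ stabilizer G x ⊓ stabilizer G y := by
      rintro _ ⟨r, hr, rfl⟩
      refine ⟨?_, ?_⟩
      · change (g * r * g⁻¹) • x = x
        rw [← g2, mul_smul, inv_smul_smul, mul_smul, hy r hr]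
      · change (g * r * g⁻¹) • y = y
        rw [← g1, mul_smul, inv_smul_smul, mul_smul, hx r hr]
    obtain ⟨h, e⟩ := exists_smul_eq (stabilizer G x ⊓ stabilizer G y : Subgroup G)
      ((g • R).subtype l2) (R.subtype l1)
    rw [Sylow.smul_subtype] at e
    have e' : ((h : G) * g) • R = R := by rw [mul_smul]; exact Sylow.subtype_injective e
    exact ⟨h * g, Sylow.smul_eq_iff_mem_normalizer.1 e', by rw [mul_smul, g1, h.2.2],
      by rw [mul_smul, g2, h.2.1]⟩
  obtain ⟨t, ht, t2, t1⟩ : ∃ t ∈ Subgroup.normalizer (R : Set G), t * t = 1 ∧ t ≠ 1 := by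
    rcases Nat.even_or_odd' (orderOf k) with ⟨a, ha | ha⟩
    · have hpos := orderOf_pos k
      refine ⟨k ^ a, Subgroup.pow_mem _ hk a, by rw [← pow_add, ← two_mul, ← ha, pow_orderOf_eq_one],
        pow_ne_one_of_lt_orderOf (by omega) (by omega)⟩
    · exfalso
      have b1 : (k ^ 2) ^ a ∈ stabilizer G y :=
        Subgroup.pow_mem _ (by rw [mem_stabilizer_iff, sq, mul_smul, k2, k1]) a
      have b2 := pow_orderOf_eq_one k
      rw [ha, pow_succ, pow_mul] at b2
      apply hxy.2.2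
      rw [← one_smul G x, ← b2, mul_smul, k1, b1]
  have ti : t⁻¹ = t := inv_eq_of_mul_eq_one_right t2
  obtain ⟨⟨r, hr⟩, hr1⟩ := Subgroup.ne_bot_iff_exists_ne_one.1 hR
  replace hr1 : r ≠ 1 := fun e => hr1 (Subtype.ext e)
  have hr' : t * r * t⁻¹ ∈ (R : Subgroup G) := (Subgroup.mem_normalizer_iff.1 ht r).1 hr
  by_cases hc : t * r = r * t
  · refine ⟨t, ?_⟩
    obtain ⟨a, ha⟩ := exists_pow_card hV (fix V t)
    obtain ⟨j, hj⟩ := exists_pow_card hV (fix V t ⊓ fix V r)
    have a1 := card_modEq_fix (hzp r hr) (fix V t) fun v hv => by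
      rw [mem_fix, ← mul_smul, hc, mul_smul, mem_fix.1 hv]
    have a2 := card_le_sq t2 (⊤ : AddSubgroup V) fun _ _ => trivial
    have a3 := hlt t1 le_rfl ha
    have a4 := AddSubgroup.card_le_of_le (inf_le_right : fix V t ⊓ fix V r ≤ _)
    have a5 : 2 ≤ Nat.card (fix V t ⊓ fix V r : AddSubgroup V) := by
      obtain ⟨w, hw0, hw⟩ : ∃ w : V, w ≠ 0 ∧ w ∈ fix V t ⊓ fix V r := by
        by_cases e : t • x = x
        · exact ⟨x, hxy.1, e, hx r hr⟩
        · refine ⟨t • x + x, fun e' => e (add_eq_zero_iff.1 e'), ?_, ?_⟩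
          · change t • (t • x + x) = t • x + x
            rw [smul_add, ← mul_smul, t2, one_smul, add_comm]
          · change r • (t • x + x) = t • x + x
            rw [smul_add, ← mul_smul, ← hc, mul_smul, hx r hr]
      rw [← card_adj_bot hw0]
      exact AddSubgroup.card_le_of_le (adj_le bot_le hw)
    rw [top_inf_eq, AddSubgroup.card_top, hV, ha, ← pow_mul,
      Nat.pow_le_pow_iff_right one_lt_two] at a2
    rw [hj, fix4' r hr hr1, Nat.pow_le_pow_iff_right one_lt_two] at a4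
    have a6 : j ≠ 0 := by rintro rfl; omega
    rw [ha, hj] at a1
    have a7 := Nat.le_of_dvd (by omega) (hmod _ _ (by omega) a1)
    rw [ha, hV, show a = m + 1 by omega]; ring
  exfalso
  set σ := r⁻¹ * (t * r * t⁻¹) with hσ
  have s1 : σ ∈ (R : Subgroup G) := Subgroup.mul_mem _ (Subgroup.inv_mem _ hr) hr'
  have s2 : σ ≠ 1 := fun e => hc (by
    rw [hσ, inv_mul_eq_one, eq_mul_inv_iff_mul_eq] at e; exact e.symm)
  have s3 : t * σ * (t * σ) = 1 := by
    rw [hσ, ti]
    calc _ = t * r⁻¹ * t * r * (t * t) * r⁻¹ * t * r * t := by group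
      _ = t * r⁻¹ * (t * t) * r * t := by
        rw [t2, mul_one, mul_inv_cancel_right, mul_one, mul_assoc (t * r⁻¹), t2, mul_one]
      _ = 1 := by rw [t2, mul_one, inv_mul_cancel_right, t2]
  let φ : V →+ V := DistribSMul.toAddMonoidHom V σ + AddMonoidHom.id V
  have hφ : ∀ u : V, φ u = σ • u + u := fun _ => rfl
  have c1 : Nat.card φ.range = 2 ^ m := by
    have b1 := φ.ker.card_mul_index
    have b2 : φ.ker = fix V σ := by
      ext v; rw [AddMonoidHom.mem_ker, hφ, add_eq_zero_iff, mem_fix]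
    rw [AddSubgroup.index_ker, b2, fix4' σ s1 s2, hV, pow_add, mul_comm] at b1
    exact Nat.eq_of_mul_eq_mul_right (by norm_num) b1
  have i1 : ∀ v ∈ φ.range, σ • v ∈ φ.range := by
    rintro _ ⟨u, rfl⟩
    exact ⟨σ • u, by rw [hφ, hφ, smul_add]⟩
  have i2 : ∀ v ∈ φ.range, t • v ∈ φ.range := by
    rintro _ ⟨u, rfl⟩
    refine ⟨t • σ • u, ?_⟩
    have : σ * t * σ = t := by
      apply mul_left_cancel (a := t)
      rw [t2, ← s3]; group
    rw [hφ, hφ, smul_add, ← mul_smul, ← mul_smul, this, add_comm]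
  obtain ⟨j, hj⟩ := exists_pow_card hV (φ.range ⊓ fix V σ)
  have a1 := card_modEq_fix (hzp σ s1) φ.range i1
  have a4 := AddSubgroup.card_le_of_le (inf_le_right : φ.range ⊓ fix V σ ≤ _)
  rw [hj, fix4' σ s1 s2, Nat.pow_le_pow_iff_right one_lt_two] at a4
  rw [c1, hj] at a1
  have a7 := Nat.le_of_dvd (by omega) (hmod _ _ (by omega) a1)
  rw [show j = 0 by omega, pow_zero, AddSubgroup.card_eq_one] at hj
  obtain ⟨a, ha⟩ := exists_pow_card hV (φ.range ⊓ fix V t)
  obtain ⟨b, hb⟩ := exists_pow_card hV (φ.range ⊓ fix V (t * σ))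
  have b1 := card_le_sq t2 φ.range i2
  have b2 := card_le_sq s3 φ.range fun v hv => by rw [mul_smul]; exact i2 _ (i1 v hv)
  have b3 := card_mul_le (A := φ.range ⊓ fix V t) (B := φ.range ⊓ fix V (t * σ)) inf_le_left
    inf_le_left fun v h1 h2 => by
      rw [← AddSubgroup.mem_bot, ← hj]
      refine ⟨h1.1, MulAction.injective t ?_⟩
      change t • σ • v = t • v
      rw [← mul_smul, mem_fix.1 h2.2, mem_fix.1 h1.2]
  rw [c1, ha, ← pow_mul, Nat.pow_le_pow_iff_right one_lt_two] at b1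
  rw [c1, hb, ← pow_mul, Nat.pow_le_pow_iff_right one_lt_two] at b2
  rw [c1, ha, hb, ← pow_add, Nat.pow_le_pow_iff_right one_lt_two] at b3
  obtain ⟨q, hq⟩ := hm
  omega

end Cfsg.Agent.P10K
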