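import Cfsg.Agent.P10.K8
import Cfsg.Agent.H1.RepFree
import Cfsg.Agent.H8.PrimeDegree
import Cfsg.Agent.H5.CycloMod

/-! Transitive linear groups over `F₂` of Mersenne prime degree. -/

set_option autoImplicit false
set_option linter.unusedSectionVars false

namespace Cfsg.Agent.P10K

open MulAction

namespace Pairing

variable {G V V' : Type*} [Group G] [AddCommGroup V] [AddCommGroup V']
  [DistribMulAction G V] [DistribMulAction G V'] [Module (ZMod 2) V] [Module (ZMod 2) V']
  [Finite G] [Finite V] [Finite V'] (P : Pairing G V V')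

theorem exists_tv (h : Tr2 G V) (hc : 2 < Nat.card V) {t : G}
    (ht : 2 * Nat.card (fix V t) = Nat.card V) {a : V} {l : V'} (hf : P.Flag a l) :
    ∃ g : G, (∀ v, P.b v l = 0 → g • v = v) ∧ ∀ v, P.b v l = 1 → g • v = v + a := by
  obtain ⟨w, hw⟩ : ∃ w, w ∉ fix V t := by
    by_contra hc'
    push Not at hc'
    rw [show fix V t = ⊤ from eq_top_iff.2 fun v _ => hc' v, AddSubgroup.card_top] at ht
    omega
  obtain ⟨k, hk, hk1⟩ := P.exists_of_not_mem hw
  have hk0 := P.ne_zero_right hk1
  have e : fix V t = P.flip.perp {k} := eq_of_le_of_card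
    (fun v hv => P.flip.mem_perp_one.2 (hk v hv)) (by
      have := P.flip.two_mul_card_perp hk0
      rw [P.card_eq] at this
      omega)
  have a0 : ∀ v, P.b v k = 0 → t • v = v := fun v hv => by
    rw [← mem_fix, e, mem_perp_one]; exact hv
  have a1 : ∀ v, P.b v k = 1 → t • v = v + (t • w + w) := fun v hv => by
    have := a0 (v + w) (by rw [map_add, AddMonoidHom.add_apply, hv, hk1, z2_add_self])
    rw [smul_add] at this
    rw [← add_add_cancel' (t • v) (t • w), this, add_assoc, add_comm w]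
  have a2 : t • w + w ≠ 0 := fun c => hw (add_eq_zero_iff.1 c)
  have a3 : P.b (t • w + w) k = 0 := by
    by_contra c
    have := a1 _ (z2_ne.1 c)
    rw [add_self] at this
    exact (smul_ne_zero_iff_ne t).2 a2 this
  obtain ⟨g, rfl, rfl⟩ := P.flag h hc a2 hf.1 hk0 hf.2.1 (a3.trans hf.2.2.symm)
  refine ⟨g * t * g⁻¹, fun v hv => ?_, fun v hv => ?_⟩
  · rw [mul_smul, mul_smul, a0 _ (by rw [P.inv', inv_inv, hv]), smul_inv_smul]
  · rw [mul_smul, mul_smul, a1 _ (by rw [P.inv', inv_inv, hv]), smul_add, smul_inv_smul]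

include P in
theorem all_of_tv (h : Tr2 G V) (hc : 2 < Nat.card V) {t : G}
    (ht : 2 * Nat.card (fix V t) = Nat.card V) : ∀ (k : ℕ) (e : V →+ V), Function.Injective e →
    Nat.card V ≤ Nat.card (e.eqLocus (AddMonoidHom.id V)) + k → ∃ g : G, ∀ v, g • v = e v := by
  intro k
  induction k with
  | zero =>
    intro e _ h1
    have h2 := eq_of_le_of_card (le_top : e.eqLocus (AddMonoidHom.id V) ≤ ⊤)
      (by rw [AddSubgroup.card_top]; exact h1)
    refine ⟨1, fun v => ?_⟩
    have : v ∈ e.eqLocus (AddMonoidHom.id V) := h2 ▸ trivial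
    rw [one_smul]; exact Eq.symm this
  | succ k ih =>
    intro e he h1
    set U := e.eqLocus (AddMonoidHom.id V)
    by_cases hU : ∀ v, v ∈ U
    · exact ⟨1, fun v => by rw [one_smul]; exact Eq.symm (hU v)⟩
    push Not at hU
    obtain ⟨v, hv⟩ := hU
    have hw : e v ∉ U := fun c => hv (he c)
    obtain ⟨l, hl, l1, l2⟩ : ∃ l ∈ P.perp U, P.b v l = 1 ∧ P.b (e v) l = 1 := by
      obtain ⟨l, hl, l1⟩ := P.exists_of_not_mem hv
      obtain ⟨l', hl', l2⟩ := P.exists_of_not_mem hw
      rcases z2 (P.b (e v) l) with c1 | c1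
      swap
      · exact ⟨l, hl, l1, c1⟩
      rcases z2 (P.b v l') with c2 | c2
      swap
      · exact ⟨l', hl', c2, l2⟩
      exact ⟨l + l', AddSubgroup.add_mem _ hl hl', by simp [l1, c2], by simp [l2, c1]⟩
    obtain ⟨g, g0, g1⟩ := P.exists_tv h hc ht (a := e v + v) (l := l)
      ⟨fun c => hv (add_eq_zero_iff.1 c), P.ne_zero_right l1, by
        rw [map_add, AddMonoidHom.add_apply, l1, l2, z2_add_self]⟩
    have a1 : adj U v ≤ ((DistribSMul.toAddMonoidHom V g).comp e).eqLocus (AddMonoidHom.id V) := by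
      refine adj_le (fun u hu => ?_) ?_
      · change g • e u = u
        rw [show e u = u from hu, g0 u (hl u hu)]
      · change g • e v = v
        rw [g1 _ l2, add_add_cancel]
    have a2 := AddSubgroup.card_le_of_le a1
    have a3 : 0 < Nat.card U := Nat.card_pos
    rw [card_adj hv] at a2
    obtain ⟨g', hg'⟩ := ih ((DistribSMul.toAddMonoidHom V g).comp e)
      ((MulAction.injective g).comp he) (by omega)
    exact ⟨g⁻¹ * g', fun u => by rw [mul_smul, hg', inv_smul_eq_iff]; rfl⟩

end Pairing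

variable {G V : Type*} [Group G] [AddCommGroup V] [DistribMulAction G V] [Module (ZMod 2) V]

variable (G V) in
/-- The contragredient action. -/
@[reducible] def dualAct : DistribMulAction G (V →+ ZMod 2) where
  smul g l := l.comp (DistribSMul.toAddMonoidHom V g⁻¹)
  one_smul l := by ext v; change l ((1 : G)⁻¹ • v) = l v; simp
  mul_smul g h l := by ext v; change l ((g * h)⁻¹ • v) = l (h⁻¹ • g⁻¹ • v); rw [mul_inv_rev, mul_smul]
  smul_zero g := rfl
  smul_add g l k := rfl

variable (G V) in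
/-- The standard pairing. -/
def stdPairing : @Pairing G V (V →+ ZMod 2) _ _ _ _ (dualAct G V) :=
  letI := dualAct G V
  { b := AddMonoidHom.eval
    nd := fun v h => (Module.forall_dual_apply_eq_zero_iff (ZMod 2) v).1 fun l =>
      h l.toAddMonoidHom
    nd' := fun l h => AddMonoidHom.ext h
    inv := fun g v l => by
      change l (g⁻¹ • g • v) = l v
      rw [inv_smul_smul] }

variable [Finite G] [Finite V]

theorem card_of_comm (hf : ∀ g : G, (∀ v : V, g • v = v) → g = 1) {C : Subgroup G} (hC : Tr1 V C)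
    (hc : ∀ a ∈ C, ∀ b ∈ C, a * b = b * a) {x : V} (hx : x ≠ 0) : Nat.card C + 1 = Nat.card V := by
  have h1 := index_inf_stab C x (S := {v | v ≠ 0}) fun y =>
    ⟨fun hy => hC x y hx hy, by rintro ⟨k, -, rfl⟩; exact (smul_ne_zero_iff_ne k).2 hx⟩
  have h2 : C ⊓ stabilizer G x = ⊥ := eq_bot_iff.2 fun g hg => hf g fun v => by
    by_cases hv : v = 0
    · rw [hv, smul_zero]
    obtain ⟨k, hk, rfl⟩ := hC x v hx hv
    rw [← mul_smul, hc g hg.1 k hk, mul_smul, hg.2]
  rw [h2, Subgroup.index_bot, ← C.index_mul_card] at h1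
  rw [Nat.eq_of_mul_eq_mul_left (Nat.pos_of_ne_zero C.index_ne_zero_of_finite) h1, ncard_ne_zero]

theorem card_stab_dvd {n : ℕ} (hV : Nat.card V = 2 ^ n) (hp : (2 ^ n - 1).Prime)
    (hf : ∀ g : G, (∀ v : V, g • v = v) → g = 1) {C : Subgroup G} [C.Normal] (hC : Tr1 V C)
    (hc : ∀ a ∈ C, ∀ b ∈ C, a * b = b * a) {x : V} (hx : x ≠ 0) :
    Nat.card (stabilizer G x) ∣ n := by
  have h1 := card_of_comm hf hC hc hx
  have h2 : Nat.card C = 2 ^ n - 1 := by omega
  have h3 : (Nat.card C).Coprime 2 := by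
    rw [Nat.coprime_two_right, Nat.odd_iff]
    have : 2 ∣ 2 ^ n := dvd_pow_self 2 (by rintro rfl; exact Nat.not_prime_zero hp)
    omega
  have : SMulCommClass G (ZMod 2) V :=
    ⟨fun g c v => ZMod.map_smul (DistribSMul.toAddMonoidHom V g) c v⟩
  let ρ : G →* Module.End (ZMod 2) V := DistribMulAction.toModuleEnd (ZMod 2) V
  have key := H1.finrank_eq_of_free_wt (H1.baseChangeRep (AlgebraicClosure (ZMod 2)) ρ) C
    (fun a ha b hb => by
      change _ * _ = _ * _
      rw [← map_mul, ← map_mul, hc a ha b hb])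
    (H1.cast_ne_zero_of_coprime Nat.prime_two h3) (stabilizer G x) (fun r hr hr1 => by
      have a1 : ⁅C, Subgroup.zpowers r⁆ ≤ C := Subgroup.commutator_le_left _ _
      rcases (Nat.dvd_prime hp).1 (h2 ▸ Subgroup.card_dvd_of_le a1) with a2 | a2
      · exfalso
        rw [Subgroup.card_eq_one, Subgroup.commutator_eq_bot_iff_le_centralizer] at a2
        refine hr1 (hf r fun v => ?_)
        by_cases hv : v = 0
        · rw [hv, smul_zero]
        obtain ⟨k, hk, rfl⟩ := hC x v hx hv
        rw [← mul_smul, a2 hk r (Subgroup.mem_zpowers r), mul_smul, hr]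
      · exact (Subgroup.eq_of_le_of_card_ge a1 (by omega)).ge)
    (fun v hv => by
      have a1 := H9.baseChange_eq_zero_on_fix (AlgebraicClosure (ZMod 2)) ρ C
        (H1.cast_ne_zero_of_coprime Nat.prime_two h3) 1 (fun w hw => ?_) v hv
      · rwa [map_one] at a1
      · by_contra c
        obtain ⟨y, hy⟩ := exists_ind (by have := hp.two_le; omega) c
        obtain ⟨k, hk, e⟩ := hC w y c hy.2.1
        exact hy.2.2 ((hw k hk).symm.trans e))
  rw [Module.finrank_baseChange] at key
  have h4 := Module.natCard_eq_pow_finrank (K := ZMod 2) (V := V)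
  rw [hV, Nat.card_zmod] at h4
  rw [Nat.pow_right_injective le_rfl h4, key]
  exact Dvd.intro _ rfl

theorem main {n : ℕ} (hV : Nat.card V = 2 ^ n) (hp : (2 ^ n - 1).Prime)
    (hf : ∀ g : G, (∀ v : V, g • v = v) → g = 1) (h1 : Tr1 V (⊤ : Subgroup G)) :
    (IsCyclic G ∧ Nat.card G = 2 ^ n - 1) ∨
      (Nat.card G = n * (2 ^ n - 1) ∧ ∃ C : Subgroup G, C.Normal ∧ IsCyclic C ∧
        Nat.card C = 2 ^ n - 1) ∨
      ∀ e : V →+ V, Function.Injective e → ∃ g : G, ∀ v, g • v = e v := by
  have := Fact.mk hp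
  have hn : n.Prime := Nat.Prime.of_mersenne hp
  have hc : 2 < Nat.card V := by have := hp.two_le; omega
  obtain ⟨x, hx⟩ : ∃ x : V, x ≠ 0 := by
    have : Nontrivial V := Finite.one_lt_card_iff_nontrivial.1 (by omega)
    exact exists_ne 0
  have hS : {v : V | v ≠ 0}.ncard = 2 ^ n - 1 := by have := ncard_ne_zero (V := V); omega
  have hi := index_inf_stab (⊤ : Subgroup G) x (S := {v | v ≠ 0}) fun y =>
    ⟨fun hy => h1 x y hx hy, by rintro ⟨k, -, rfl⟩; exact (smul_ne_zero_iff_ne k).2 hx⟩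
  rw [top_inf_eq, Subgroup.index_top, one_mul, hS] at hi
  obtain ⟨t, ht⟩ := exists_prime_orderOf_dvd_card' (G := G) (2 ^ n - 1)
    (hi ▸ Subgroup.index_dvd_card _)
  let Ω : SubMulAction G V := ⟨{v | v ≠ 0}, fun g v hv => (smul_ne_zero_iff_ne g).2 hv⟩
  have hΩ : Nat.card Ω = 2 ^ n - 1 := hS
  have hf' : ∀ g : G, (∀ v : Ω, g • v = v) → g = 1 := fun g hg => hf g fun v => by
    by_cases hv : v = 0
    · rw [hv, smul_zero]
    · exact congrArg Subtype.val (hg ⟨v, hv⟩)
  have : FaithfulSMul G Ω := faithfulSMul_iff.2 hf'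
  rcases H8.two_trans_or_derivedSeries hΩ ht with h2 | h2
  · right; right
    have h3 : Tr2 G V := fun a b c d hab hcd => by
      rw [is_two_pretransitive_iff] at h2
      obtain ⟨g, g1, g2⟩ := @h2 ⟨a, hab.1⟩ ⟨b, hab.2.1⟩
        ⟨c, hcd.1⟩ ⟨d, hcd.2.1⟩ (fun e => hab.2.2 (congrArg Subtype.val e))
        (fun e => hcd.2.2 (congrArg Subtype.val e))
      exact ⟨g, congrArg Subtype.val g1, congrArg Subtype.val g2⟩
    let _ := dualAct G V
    have : Finite (V →+ ZMod 2) := DFunLike.finite _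
    obtain ⟨u, hu⟩ : ∃ u : G, 2 * Nat.card (fix V u) = Nat.card V := by
      by_cases h5 : 5 ≤ n
      · have hodd := hn.odd_of_ne_two (by omega)
        have a1 : Tr1 V (Subgroup.zpowers t) := fun v w hv hw => by
          obtain ⟨i, hi⟩ := H8.exists_pow_smul_eq_of_prime hΩ ht (by
            by_contra c
            push Not at c
            rw [hf' t c, orderOf_one] at ht
            exact hp.ne_one ht.symm) ⟨v, hv⟩ ⟨w, hw⟩
          exact ⟨t ^ i, Subgroup.pow_mem _ (Subgroup.mem_zpowers t) i, congrArg Subtype.val hi⟩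
        have a2 := Pairing.Hyp.sub_four_dvd (P := stdPairing G V) ⟨hV, h5, h3⟩ hodd a1 (by
          rintro _ ⟨i, rfl⟩ _ ⟨j, rfl⟩
          exact zpow_mul_comm t i j)
        obtain ⟨m, rfl⟩ : ∃ m, n = m + 2 := ⟨n - 2, by omega⟩
        refine perin hV (by obtain ⟨r, hr⟩ := hodd; exact ⟨r - 1, by omega⟩) (by omega) hf h3
          (Dvd.dvd.trans ⟨4, ?_⟩ a2)
        rw [pow_add]; omega
      · obtain ⟨y, hy⟩ := exists_ind hc hx
        have a1 := Subgroup.index_dvd_card (stabilizer G x ⊓ stabilizer G y)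
        rw [h3.index_stab2 hy, hV] at a1
        obtain ⟨u, hu⟩ := exists_prime_orderOf_dvd_card' (G := G) 2
          (((Nat.dvd_sub (dvd_pow_self 2 hn.ne_zero) dvd_rfl).mul_left _).trans a1)
        obtain ⟨k, hk⟩ := exists_pow_card hV (fix V u)
        have a2 := card_le_sq (t := u) (by rw [← sq, ← hu, pow_orderOf_eq_one])
          (⊤ : AddSubgroup V) fun _ _ => trivial
        obtain ⟨v, hv⟩ : ∃ v : V, u • v ≠ v := by
          by_contra c
          push Not at c
          rw [hf u c, orderOf_one] at hu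
          omega
        have a3 := card_lt_of_ne_top (U := fix V u) hv
        rw [top_inf_eq, AddSubgroup.card_top, hV, hk, ← pow_mul,
          Nat.pow_le_pow_iff_right one_lt_two] at a2
        rw [hV, hk, Nat.pow_lt_pow_iff_right one_lt_two] at a3
        have a4 : n ≠ 4 := by rintro rfl; exact absurd hn (by decide)
        have := hn.two_le
        exact ⟨u, by rw [hk, hV, show n = k + 1 by omega]; ring⟩
    exact fun e he => (stdPairing G V).all_of_tv h3 hc hu _ e he (Nat.le_add_left _ _)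
  obtain ⟨C, hN, hC, hcomm⟩ : ∃ C : Subgroup G, C.Normal ∧ Tr1 V C ∧
      ∀ a ∈ C, ∀ b ∈ C, a * b = b * a := by
    by_cases hD : commutator G = ⊥
    · refine ⟨⊤, inferInstance, h1, fun a _ b _ => ?_⟩
      rw [_root_.commutator_def, Subgroup.commutator_eq_bot_iff_le_centralizer] at hD
      exact hD (Subgroup.mem_top b) a trivial
    refine ⟨commutator G, inferInstance, ?_, fun a ha b hb => ?_⟩
    · have a1 : ∀ v : V, v ≠ 0 → ∃ g ∈ commutator G, g • x = v := by
        intro v hv
        rcases (Nat.dvd_prime hp).1 (hi ▸ Subgroup.index_dvd_of_le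
          (le_sup_right : _ ≤ commutator G ⊔ stabilizer G x)) with a2 | a2
        · obtain ⟨g, -, rfl⟩ := h1 x v hx hv
          obtain ⟨a, ha, b, hb, rfl⟩ := Subgroup.mem_sup_of_normal_left.1
            (show g ∈ commutator G ⊔ stabilizer G x by rw [Subgroup.index_eq_one.1 a2]; trivial)
          exact ⟨a, ha, by rw [mul_smul, hb]⟩
        · exfalso
          have a3 : stabilizer G x = commutator G ⊔ stabilizer G x :=
            Subgroup.eq_of_le_of_card_ge le_sup_right (by
              have b1 := (stabilizer G x).card_mul_index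
              have b2 := (commutator G ⊔ stabilizer G x).card_mul_index
              rw [a2, ← b1, hi] at b2
              exact (Nat.eq_of_mul_eq_mul_right hp.pos b2).le)
          refine hD (eq_bot_iff.2 fun g hg => hf g fun w => ?_)
          by_cases hw : w = 0
          · rw [hw, smul_zero]
          obtain ⟨k, -, rfl⟩ := h1 x w hx hw
          have a4 : k⁻¹ * g * k ∈ stabilizer G x := by
            rw [a3]; exact Subgroup.mem_sup_left (Subgroup.Normal.conj_mem' inferInstance g hg k)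
          rwa [mem_stabilizer_iff, mul_smul, mul_smul, inv_smul_eq_iff] at a4
      intro v w hv hw
      obtain ⟨a, ha, rfl⟩ := a1 v hv
      obtain ⟨b, hb, rfl⟩ := a1 w hw
      exact ⟨b * a⁻¹, Subgroup.mul_mem _ hb (Subgroup.inv_mem _ ha), by rw [mul_smul, inv_smul_smul]⟩
    · rw [derivedSeries_succ, derivedSeries_one, Subgroup.commutator_eq_bot_iff_le_centralizer] at h2
      exact h2 hb a ha
  have a1 := card_of_comm hf hC hcomm hx
  have a2 : Nat.card C = 2 ^ n - 1 := by omega
  have a3 := (stabilizer G x).card_mul_index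
  rw [hi] at a3
  rcases (Nat.dvd_prime hn).1 (card_stab_dvd hV hp hf hC hcomm hx) with a4 | a4 <;> rw [a4] at a3
  · rw [one_mul] at a3
    exact Or.inl ⟨isCyclic_of_prime_card a3.symm, a3.symm⟩
  · exact Or.inr (Or.inl ⟨a3.symm, C, hN, isCyclic_of_prime_card a2, a2⟩)

theorem s4179 {V : Type*} [AddCommGroup V] [Module (ZMod 2) V] [Finite V] (n : ℕ)
    (hn : Module.finrank (ZMod 2) V = n)
    (hprime : (2 ^ n - 1).Prime) (H : Subgroup (V ≃ₗ[ZMod 2] V)) :
    (∀ v w : V, v ≠ 0 → w ≠ 0 → ∃ h ∈ H, h v = w) ↔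
      ((IsCyclic ↥H ∧ Nat.card ↥H = 2 ^ n - 1) ∨
       (Nat.card ↥H = n * (2 ^ n - 1) ∧ ∃ C : Subgroup (V ≃ₗ[ZMod 2] V), C ≤ H ∧ (C.subgroupOf H).Normal ∧
          IsCyclic ↥C ∧ Nat.card ↥C = 2 ^ n - 1) ∨
       H = ⊤) := by
  have hV : Nat.card V = 2 ^ n := by
    rw [Module.natCard_eq_pow_finrank (K := ZMod 2), Nat.card_zmod, hn]
  have : Finite (V ≃ₗ[ZMod 2] V) := DFunLike.finite _
  have := Fact.mk hprime
  constructor
  · intro h
    rcases main (G := H) hV hprime (fun g hg => Subtype.ext (LinearEquiv.ext hg))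
      (fun v w hv hw => by
        obtain ⟨g, hg, e⟩ := h v w hv hw
        exact ⟨⟨g, hg⟩, trivial, e⟩) with h1 | ⟨h1, C, hN, h2, h3⟩ | h1
    · exact Or.inl h1
    · refine Or.inr (Or.inl ⟨h1, C.map H.subtype, Subgroup.map_subtype_le _, ?_, ?_, ?_⟩)
      · rwa [Subgroup.subgroupOf, Subgroup.comap_map_eq_self_of_injective H.subtype_injective]
      · exact isCyclic_of_prime_card ((Subgroup.card_map_of_injective H.subtype_injective).trans h3)
      · exact (Subgroup.card_map_of_injective H.subtype_injective).trans h3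
    · refine Or.inr (Or.inr (eq_top_iff.2 fun e _ => ?_))
      obtain ⟨g, hg⟩ := h1 e.toLinearMap.toAddMonoidHom e.injective
      rw [← show (g : V ≃ₗ[ZMod 2] V) = e from LinearEquiv.ext hg]
      exact g.2
  · have key : 2 ^ n - 1 ∣ Nat.card H → ∀ v w : V, v ≠ 0 → w ≠ 0 → ∃ h ∈ H, h v = w := by
      intro hd v w hv hw
      obtain ⟨t, ht⟩ := exists_prime_orderOf_dvd_card' (G := H) _ hd
      let Ω : SubMulAction H V := ⟨{v | v ≠ 0}, fun g v hv => (smul_ne_zero_iff_ne g).2 hv⟩
      have hΩ : Nat.card Ω = 2 ^ n - 1 := by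
        have := ncard_ne_zero (V := V)
        change {v : V | v ≠ 0}.ncard = _
        omega
      obtain ⟨i, hi⟩ := H8.exists_pow_smul_eq_of_prime hΩ ht (by
        by_contra c
        push Not at c
        have : t = 1 := Subtype.ext (LinearEquiv.ext fun u => by
          by_cases hu : u = 0
          · simp [hu]
          · exact congrArg Subtype.val (c ⟨u, hu⟩))
        rw [this, orderOf_one] at ht
        exact hprime.ne_one ht.symm) ⟨v, hv⟩ ⟨w, hw⟩
      exact ⟨(t ^ i : H), (t ^ i).2, congrArg Subtype.val hi⟩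
    rintro (h | h | rfl)
    · exact key (h.2 ▸ dvd_rfl)
    · exact key (h.1 ▸ Dvd.intro_left _ rfl)
    · intro v w hv hw
      obtain ⟨e, he⟩ := H5.exists_linearEquiv_apply_eq (K := ZMod 2) hv hw
      exact ⟨e, trivial, he⟩

end Cfsg.Agent.P10K
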