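/-
Nonsolvable groups with one class of `q²` involutions.
-/
import Cfsg.Agent.P7.L2A

set_option autoImplicit false

namespace Cfsg.Agent.P10.Q

open Subgroup Matrix Cfsg Cfsg.Agent

theorem orderOf_two_iff {G : Type*} [Group G] {x : G} : orderOf x = 2 ↔ x ≠ 1 ∧ x * x = 1 :=
  ⟨fun h => ⟨fun e => by simp [e] at h, by rw [← sq, ← h, pow_orderOf_eq_one]⟩,
    fun h => orderOf_eq_prime (by rw [sq, h.2]) h.1⟩

theorem sdp_invol {N H : Type*} [CommGroup N] [Finite N] [Group H] (φ : H →* MulAut N)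
    (ho : Odd (Nat.card N)) {z : H} (z1 : z ≠ 1) (zz : z * z = 1) (hz : ∀ n, φ z n = n⁻¹)
    (hu : ∀ h : H, h * h = 1 → h = 1 ∨ h = z) :
    Nat.card {x : N ⋊[φ] H // orderOf x = 2} = Nat.card N ∧ ∀ x y : N ⋊[φ] H, orderOf x = 2 →
      orderOf y = 2 → ∃ g, g * x * g⁻¹ = y := by
  have sq := (powCoprime (Nat.coprime_two_right.2 ho)).bijective
  have key : ∀ x : N ⋊[φ] H, orderOf x = 2 ↔ x.right = z := fun x => by
    rw [orderOf_two_iff]
    refine ⟨fun h => (hu _ (congrArg (·.right) h.2)).resolve_left fun e => h.1 ?_, fun e =>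
      ⟨fun e' => z1 (by rw [← e, e']; rfl), by ext <;> simp [e, hz, zz]⟩⟩
    have := congrArg (·.left) h.2
    ext
    · exact sq.1 (by simpa [e, pow_two] using this)
    · exact e
  refine ⟨Nat.card_congr ⟨fun x => x.1.left, fun n => ⟨⟨n, z⟩, (key _).2 rfl⟩, fun x =>
    Subtype.ext (by ext; exacts [rfl, ((key _).1 x.2).symm]), fun _ => rfl⟩, fun x y hx hy => ?_⟩
  obtain ⟨w, hw⟩ := sq.2 (y.left * x.left⁻¹)
  refine ⟨SemidirectProduct.inl w, ?_⟩
  rw [key] at hx hy
  ext
  · simp only [powCoprime_apply, pow_two] at hw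
    simp [hx, hz, mul_right_comm w, hw]
  · simp [hx, hy]

theorem exists_counter {p m : ℕ} (hp : p.Prime) (p2 : p ≠ 2) (hm : m ≠ 0) (h3 : p ^ m ≠ 3) :
    ∃ (G : Type) (_ : Group G) (_ : Finite G), Nat.card {x : G // orderOf x = 2} = p ^ (m + m) ∧
      (∀ x y : G, orderOf x = 2 → orderOf y = 2 → ∃ g, g * x * g⁻¹ = y) ∧
      ¬ Group.IsSolvable G := by
  haveI := Fact.mk hp
  let F := GaloisField p m
  have hc : Nat.card F = p ^ m := GaloisField.card p m hm
  have ho : Odd (p ^ m) := (hp.odd_of_ne_two p2).pow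
  have h2 : (2 : F) ≠ 0 := fun e => p2 ((Nat.prime_dvd_prime_iff_eq hp Nat.prime_two).1
    ((CharP.cast_eq_zero_iff F p 2).1 (by exact_mod_cast e)))
  have n1 : (-1 : F) ≠ 1 := fun e => h2 (by linear_combination -e)
  let φ : SpecialLinearGroup (Fin 2) F →* MulAut (Multiplicative (Fin 2 → F)) :=
    { toFun := fun A => AddEquiv.toMultiplicative (SpecialLinearGroup.toLin' A).toAddEquiv
      map_one' := by ext; simp
      map_mul' := fun A B => by ext; simp }
  have cN : Nat.card (Multiplicative (Fin 2 → F)) = p ^ (m + m) := by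
    rw [Nat.card_congr Multiplicative.toAdd, Nat.card_fun, hc, Nat.card_eq_fintype_card, Fintype.card_fin,
      pow_add, pow_two]
  obtain ⟨a, a0, a1⟩ : ∃ a : F, a ≠ 0 ∧ a ^ 2 ≠ 1 := by
    by_contra! h
    have : Nat.card F ≤ 3 := by
      rw [← Set.ncard_univ]
      refine (Set.ncard_le_ncard (t := {0, 1, -1}) fun a _ => ?_).trans
        ((Set.ncard_insert_le ..).trans (Nat.succ_le_succ ((Set.ncard_insert_le ..).trans (by simp))))
      by_cases e : a = 0
      exacts [.inl e, .inr (sq_eq_one_iff.1 (h a e))]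
    have := Nat.one_lt_pow hm hp.one_lt
    obtain ⟨k, hk⟩ := ho
    omega
  obtain ⟨h4, h5⟩ := sdp_invol φ (cN ▸ pow_add p m m ▸ ho.mul ho) (z := -1)
    (fun e => n1 (by simpa using congrArg (fun A : SpecialLinearGroup (Fin 2) F => A 0 0) e))
    (by simp) (fun n => by ext; simp [φ, SpecialLinearGroup.toLin'_apply]) fun h hh => by
      obtain ⟨r, h1, h2⟩ := Matrix.SpecialLinearGroup.mem_center_iff.1 (P7.mem_center_of_sq h2 hh)
      refine (sq_eq_one_iff.1 (by simpa using h1 : r ^ 2 = 1)).imp (fun e => ?_) fun e => ?_ <;>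
        exact Subtype.ext (by simp [← h2, e, ← diagonal_neg])
  haveI : Finite (Multiplicative (Fin 2 → F) ⋊[φ] SpecialLinearGroup (Fin 2) F) :=
    Finite.of_equiv _ SemidirectProduct.equivProd.symm
  refine ⟨_, _, this, h4.trans cN, h5, fun hs => ?_⟩
  haveI : Group.IsPerfect (SpecialLinearGroup (Fin 2) F) := ⟨SL2.commutator_eq_top a0 a1⟩
  haveI : Nontrivial (SpecialLinearGroup (Fin 2) F) := ⟨-1, 1, fun e =>
    n1 (by simpa using congrArg (fun A : SpecialLinearGroup (Fin 2) F => A 0 0) e)⟩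
  exact Group.IsPerfect.not_isSolvable (G := SpecialLinearGroup (Fin 2) F)
    (Group.isSolvable_of_isSolvable_injective (f := SemidirectProduct.inr (φ := φ))
      SemidirectProduct.inr_injective)

end Cfsg.Agent.P10.Q
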