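/-
Groups without four-groups and with a prime power number of involutions.
-/
import Cfsg.Agent.P6.SE
import Cfsg.Agent.H6.Kazarin
import Cfsg.Agent.H1.EAMod
import Cfsg.Agent.P5.Max0
import Cfsg.Agent.P5.Hyp

set_option autoImplicit false

namespace Cfsg.Agent.P10.Q

open Subgroup Cfsg Cfsg.Agent Cfsg.Agent.FT
open scoped IsMulCommutative

universe u

variable {G : Type u} [Group G] [Finite G]

theorem even_dim {p : ℕ} (hp : p.Prime) (p2 : p ≠ 2) {N : Subgroup G} [N.Normal]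
    (hN : IsElementaryAbelian p N) {t : G} (ht : t ∈ commutator G)
    (hi : ∀ n ∈ N, t * n * t⁻¹ = n⁻¹) : ∃ d, Even d ∧ 𝐨(N) = p ^ d := by
  haveI := hN.1
  haveI := Fact.mk hp
  have h := H1.pow_eq_one_of_isElementaryAbelian hN
  let f := (LinearMap.det.comp (H1.autRep h (MulAut.conjNormal : G →* MulAut N))).toHomUnits
  have h1 : f t = 1 := Abelianization.commutator_subset_ker f ht
  have h2 : H1.autRep h (MulAut.conjNormal : G →* MulAut N) t = (-1 : ZMod p) • LinearMap.id :=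
    LinearMap.ext fun v => by
      obtain ⟨v, rfl⟩ := (H1.eaOf h).surjective v
      rw [H1.autRep_apply, show MulAut.conjNormal t v = v⁻¹ from Subtype.ext (hi v v.2)]
      simp
  refine ⟨Module.finrank (ZMod p) (H1.EA N h), ?_, by
    rw [← H1.card_EA h, Module.natCard_eq_pow_finrank (K := ZMod p), Nat.card_zmod]⟩
  haveI : Fact (2 < p) := ⟨lt_of_le_of_ne hp.two_le p2.symm⟩
  refine (neg_one_pow_eq_one_iff_even (R := ZMod p) ZMod.neg_one_ne_one).1 ?_
  simpa [f, h2, -neg_smul] using congrArg Units.val h1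

theorem cent_map {p : ℕ} (hp : p.Prime) (p2 : p ≠ 2) {N : Subgroup G} [N.Normal]
    (hN : IsPGroup p N) {t : G} (tt : t * t = 1) :
    𝐂[(t : G ⧸ N)] = 𝐂[t].map (QuotientGroup.mk' N) := by
  haveI := Fact.mk hp
  obtain ⟨n, hn⟩ := IsPGroup.iff_card.1 hN
  have := H1.centralizer_map_of_coprime_ker (QuotientGroup.mk'_surjective N) (A := zpowers t) (by
    rw [QuotientGroup.ker_mk', hn, Nat.card_zpowers]
    exact (((Nat.coprime_primes Nat.prime_two hp).2 p2.symm).pow_right n).coprime_dvd_left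
      (orderOf_dvd_of_pow_eq_one (by rwa [sq]))) (.inl inferInstance)
  rwa [MonoidHom.map_zpowers, cent_zpowers, cent_zpowers] at this

theorem even_aux {p : ℕ} (hp : p.Prime) (p2 : p ≠ 2) (n : ℕ) : ∀ (G : Type u) [Group G] [Finite G],
    Nat.card G = n → ∀ (t : G) (Q : Subgroup G) [Q.Normal] (k : ℕ), t * t = 1 → t ∈ commutator G →
      IsPGroup p Q → Q ⊔ 𝐂[t] = ⊤ → 𝐂[t].index = p ^ k → Even k := by
  induction n using Nat.strong_induction_on with | _ n ih => ?_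
  intro G _ _ hn t Q _ k tt ht hQ e hk
  by_cases h0 : Q = ⊥
  · rw [h0, bot_sup_eq] at e
    rw [e, index_top, eq_comm, Nat.pow_eq_one, or_iff_right hp.one_lt.ne'] at hk
    simp [hk]
  obtain ⟨N, hN, NQ⟩ := L.exists_isMinNormal_le Q h0
  haveI := hN.1
  have pN := hQ.to_le NQ
  have QC : Q ≤ 𝐂(N) := ((L.le_pCore inferInstance hQ).trans (L.pCore_le_fittingSubgroup hp)).trans
    hN.fittingSubgroup_le_centralizer
  have nN : ∀ X : Subgroup G, X ≤ 𝐍(N) := fun X => le_top.trans (normalizer_eq_top N).ge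
  obtain ⟨j, -, hj⟩ := (Nat.dvd_prime_pow hp).1 (show (N ⊔ 𝐂[t]).index ∣ p ^ k from hk ▸ index_dvd_of_le le_sup_right)
  have sj := QuotientGroup.mk'_surjective N
  haveI := Normal.map ‹Q.Normal› _ sj
  have ej : Even j := by
    refine ih _ (hn ▸ L.card_quotient_lt N hN.2.1) (G ⧸ N) rfl (t : G ⧸ N)
      (Q.map (QuotientGroup.mk' N)) j (by rw [← QuotientGroup.mk_mul, tt]; rfl) ?_ (hQ.map _) ?_ ?_
    · have := mem_map_of_mem (QuotientGroup.mk' N) ht
      rw [map_commutator_eq] at this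
      exact commutator_mono le_top le_top this
    · rw [cent_map hp p2 pN tt, ← Subgroup.map_sup, e, map_top_of_surjective _ sj]
    · rw [cent_map hp p2 pN tt, index_map, QuotientGroup.ker_mk', sup_comm, hj,
        QuotientGroup.range_mk', index_top, mul_one]
  have h1 : (N ⊓ 𝐂[t]).Normal := normalizer_eq_top_iff.1 (top_le_iff.1 (e.ge.trans (sup_le
    (QC.trans ((cent_anti inf_le_left).trans (cent_le_norm _))) (H1.le_normalizer_inf (nN _)
    (le_norm_self _)))))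
  rcases hN.2.2 _ h1 inf_le_left with h | h
  · have hE := hN.isElementaryAbelian_of_isPGroup hp pN
    obtain ⟨d, hd, cN⟩ := even_dim hp p2 hE ht fun n hn => by
      haveI := hE.1
      have m := Normal.conj_mem hN.1 n hn t
      refine eq_inv_of_mul_eq_one_left (mem_bot.1 (h ▸ mem_inf.2 ⟨mul_mem m hn,
        mem_cent1_iff_commute.2 ?_⟩))
      have c := setLike_mul_comm m hn
      rw [P5.inv_eq_of_sq tt] at c ⊢
      calc t * (t * n * t * n) = t * t * n * t * n := by group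
        _ = n * (t * n * t) * t := by rw [tt, mul_assoc n, mul_assoc _ t t, tt]; group
        _ = _ := by rw [c]
    have := relIndex_mul_index (le_sup_right : 𝐂[t] ≤ N ⊔ 𝐂[t])
    rw [(⟨rfl, nN _, h⟩ : SdProd N 𝐂[t] _).relIndex_right, cN, hj, hk, ← pow_add] at this
    exact Nat.pow_right_injective hp.two_le this ▸ hd.add ej
  · rw [sup_eq_right.2 (h ▸ inf_le_right), hk] at hj
    exact Nat.pow_right_injective hp.two_le hj ▸ ej

theorem exists_invol {H : Subgroup G} (h : ¬ Odd 𝐨(H)) : ∃ t ∈ H, t ≠ 1 ∧ t * t = 1 := by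
  obtain ⟨t, ht, o⟩ := exists_mem_orderOf_eq_prime Nat.prime_two
    (Nat.not_odd_iff_even.1 h).two_dvd
  exact ⟨t, ht, fun e => by simp [e] at o, by rw [← sq, ← o, pow_orderOf_eq_one]⟩

theorem solv_ext {N : Subgroup G} [N.Normal] (h : Group.IsSolvable N)
    (h' : Group.IsSolvable (G ⧸ N)) : Group.IsSolvable G :=
  solvable_of_ker_le_range N.subtype (QuotientGroup.mk' N) (by simp)

theorem even_case {p k : ℕ} (hp : p.Prime) (p2 : p ≠ 2) {t : G} (tt : t * t = 1)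
    (hc : ∀ a : G, a ≠ 1 → a * a = 1 → ∃ g, g * a * g⁻¹ = t)
    (hu : ∀ a ∈ 𝐂[t], a * a = 1 → a = 1 ∨ a = t) (hk : 𝐂[t].index = p ^ k)
    (ns : ¬ Group.IsSolvable G) : Even k := by
  haveI := Fact.mk hp
  have hQ := L.isPGroup_pCore (G := G) p
  obtain ⟨n, hn⟩ := IsPGroup.iff_card.1 hQ
  have ho : Odd 𝐨(pCore p G) := hn ▸ (hp.odd_of_ne_two p2).pow
  obtain ⟨a, ha, a1, aa⟩ := exists_invol (H := commutator G) fun e =>
    ns (solv_ext (P5.Mx.isSolvable_of_odd e) (isSolvable_of_comm fun a b =>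
      mul_comm (G := Abelianization G) a b))
  obtain ⟨g, hg⟩ := hc a a1 aa
  refine even_aux hp p2 _ G rfl t _ k tt (hg ▸ Normal.conj_mem inferInstance a ha g) hQ ?_ hk
  obtain ⟨j, -, hj⟩ := (Nat.dvd_prime_pow hp).1 (hk ▸ H9.index_centralizer_mk_dvd (pCore p G) t)
  have h1 := H6.mem_fitting_inf_centralizer_of_index_centralizer hp hj (L.pCore_quotient_pCore hp)
  have h2 : 𝐂[(t : G ⧸ pCore p G)] = ⊤ := eq_top_iff.2 fun x _ => by
    have h3 : x * t * x⁻¹ ∈ 𝐂[(t : G ⧸ pCore p G)] :=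
      mem_cent1.2 (h1.2 _ (Normal.conj_mem inferInstance _ h1.1 x)).symm
    rw [cent_map hp p2 hQ tt] at h3
    obtain ⟨c, hc, e⟩ := h3
    have h4 : (x * t * x⁻¹) * (x * t * x⁻¹ : G ⧸ pCore p G) = 1 := by
      rw [conj_mul, ← QuotientGroup.mk_mul, tt]; simp
    have h5 : QuotientGroup.mk' (pCore p G) (c ^ 𝐨(pCore p G)) = x * (t : G ⧸ pCore p G) * x⁻¹ := by
      obtain ⟨m, hm⟩ := ho
      rw [map_pow, e, hm, pow_succ, pow_mul, sq, h4, one_pow, one_mul]
    rcases hu _ (pow_mem hc _) (by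
      rw [← (Commute.refl c).mul_pow]
      exact P5.pow_card_of_mem ((QuotientGroup.eq_one_iff _).1 (by
        rw [← h4, ← e]; rfl))) with h | h <;> rw [h] at h5
    · rw [map_one, eq_comm, conj_eq_one_iff] at h5
      rw [h5, cent1_one]; trivial
    · exact mem_cent1_iff_conj.2 h5.symm
  rw [cent_map hp p2 hQ tt] at h2
  rw [sup_comm, ← QuotientGroup.ker_mk' (pCore p G), ← comap_map_eq, h2, comap_top]

theorem solv_of_23 {N : Subgroup G} [N.Normal] (h : Group.IsSolvable N)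
    (hr : ∀ r : ℕ, r.Prime → 5 ≤ r → ∀ R : Subgroup G, IsPGroup r R → R ≤ N) :
    Group.IsSolvable G :=
  solv_ext h (H6.isSolvable_of_primes_two 2 3 fun r p e => by
    by_contra! h1
    haveI := Fact.mk p
    obtain ⟨R⟩ := (inferInstance : Nonempty (Sylow r G))
    exact R.not_dvd_index (e.trans (index_dvd_of_le (hr r p (p.five_le_of_ne_two_of_ne_three
      h1.1 h1.2) R R.isPGroup'))))

theorem nine (h9 : {x : G | x ≠ 1 ∧ x * x = 1}.ncard = 9)
    (hu : ∀ t : G, t ≠ 1 → t * t = 1 → ∀ a ∈ 𝐂[t], a * a = 1 → a = 1 ∨ a = t) :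
    Group.IsSolvable G := by
  set I := {x : G | x ≠ 1 ∧ x * x = 1}
  have cj : ∀ g, ∀ x ∈ I, g * x * g⁻¹ ∈ I := fun g x hx =>
    ⟨mt conj_eq_one_iff.1 hx.1, by rw [conj_mul, hx.2]; simp⟩
  have one : ∀ t ∈ I, ∀ S ⊆ I, t ∈ S → {s ∈ S | s ∈ 𝐂(zpowers t)} = {t} := fun t ht S hS tS =>
    Set.eq_singleton_iff_unique_mem.2 ⟨⟨tS, cent_zpowers t ▸ self_mem_cent1 t⟩, fun s hs =>
      (hu t ht.1 ht.2 s (cent_zpowers t ▸ hs.2) (hS hs.1).2).resolve_left (hS hs.1).1⟩
  haveI : (centralizer I).Normal := ⟨fun n hn g x hx => by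
    have := hn _ (cj g⁻¹ x hx)
    calc _ = g * (g⁻¹ * x * g⁻¹⁻¹ * n) * g⁻¹ := by group
      _ = _ := by rw [this]; group⟩
  refine solv_of_23 (N := centralizer I) (P5.Mx.isSolvable_of_odd (of_not_not fun e => ?_))
    fun r hr r5 R hR => ?_
  · obtain ⟨t, ht, t1, tt⟩ := exists_invol e
    rw [show I = {t} from Set.eq_singleton_iff_unique_mem.2 ⟨⟨t1, tt⟩, fun s hs =>
      (hu t t1 tt s (mem_cent1.2 (ht s hs).symm) hs.2).resolve_left hs.1⟩] at h9
    simp at h9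
  have h1 := P6.ncard_modEq_cent hr hR (S := I) fun g _ => cj g
  have h2 : {s ∈ I | s ∈ 𝐂(R)} ⊆ I := fun _ h => h.1
  have h3 := Set.ncard_le_ncard h2
  rw [h9] at h1 h3
  obtain ⟨t, ht⟩ := Set.nonempty_of_ncard_ne_zero (s := {s ∈ I | s ∈ 𝐂(R)}) fun e => by
    have := (Nat.prime_dvd_prime_iff_eq hr Nat.prime_three).1 (hr.dvd_of_dvd_pow (n := 2)
      (Nat.modEq_zero_iff_dvd.1 (e ▸ h1)))
    omega
  have h4 := P6.ncard_modEq_cent Nat.prime_two (P := zpowers t) (IsPGroup.of_card (n := 1) (by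
    rw [Nat.card_zpowers, orderOf_eq_prime (p := 2) (by rw [sq, ht.1.2]) ht.1.1, pow_one]))
    (S := {s ∈ I | s ∈ 𝐂(R)}) fun g hg s hs => ⟨cj g s hs.1, mul_mem (mul_mem
      (zpowers_le.2 ht.2 hg) hs.2) (inv_mem (zpowers_le.2 ht.2 hg))⟩
  rw [one t ht.1 _ h2 ht, Set.ncard_singleton] at h4
  obtain ⟨c, hc⟩ := (Nat.modEq_iff_dvd' h3).1 h1.symm
  have h5 : {s ∈ I | s ∈ 𝐂(R)}.ncard = 9 := by
    unfold Nat.ModEq at h4
    rcases c with _ | _ | c
    · omega
    · obtain ⟨m, hm⟩ := hr.odd_of_ne_two (by omega)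
      omega
    · nlinarith [Nat.sub_le 9 {s ∈ I | s ∈ 𝐂(R)}.ncard]
  have h6 := Set.eq_of_subset_of_ncard_le h2 (by rw [h5, h9])
  exact fun g hg s hs => ((h6.ge hs).2 g hg).symm

end Cfsg.Agent.P10.Q
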