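/-
Higman's lemma for a `p`-element transitive on the `p` involutions of a 2-group.
-/
import Cfsg.Agent.P10.Q2
import Cfsg.Agent.P2.TwoGroup
import Cfsg.Agent.H6.PiElem
import Cfsg.Agent.H7.ChevWarn

set_option autoImplicit false
set_option linter.unusedSectionVars false

namespace Cfsg.Agent.P10.Q

open Subgroup Cfsg Cfsg.Agent Cfsg.Agent.FT

universe u

variable {G : Type u} [Group G] [Finite G]

theorem dvd_ncard_of_orbits {N : Subgroup G} {d : ℕ} (S : Set G)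
    (hi : ∀ g ∈ N, ∀ x ∈ S, g * x * g⁻¹ ∈ S) (h : ∀ x ∈ S, d ∣ 𝐂[x].relIndex N) : d ∣ S.ncard := by
  induction hn : S.ncard using Nat.strong_induction_on generalizing S with | _ n ih => ?_
  rcases S.eq_empty_or_nonempty with rfl | ⟨x, hx⟩
  · simp [← hn]
  have h1 : {g : G | ∃ n ∈ N, n * x * n⁻¹ = g} ⊆ S := by rintro _ ⟨g, hg, rfl⟩; exact hi g hg x hx
  have h2 := Set.ncard_diff_add_ncard_of_subset h1
  rw [← hn, ← h2, H6.ncard_conj_orbit]
  refine dvd_add (ih _ ?_ (S \ {g : G | ∃ n ∈ N, n * x * n⁻¹ = g})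
    (fun g hg z hz => ⟨hi g hg z hz.1, ?_⟩) (fun z hz => h z hz.1) rfl) (h x hx)
  · exact hn ▸ Set.ncard_lt_ncard (Set.ssubset_iff_exists.2
      ⟨Set.diff_subset, x, hx, fun e => e.2 ⟨1, one_mem _, by simp⟩⟩)
  · rintro ⟨n, hn, e⟩
    exact hz.2 ⟨g⁻¹ * n, mul_mem (inv_mem hg) hn, 
      (show _ = g⁻¹ * (n * x * n⁻¹) * g by group).trans (by rw [e]; group)⟩

/-- An element of a cyclic `p`-group that is not a `p`-th power is a generator. -/
theorem gen_or {p m : ℕ} (hp : p.Prime) {y n : G} (hy : orderOf y = p ^ m) (hn : n ∈ zpowers y) :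
    n ∈ zpowers (y ^ p) ∨ y ∈ zpowers n := by
  obtain ⟨i, rfl⟩ := (Submonoid.mem_powers_iff _ _).1 (mem_powers_iff_mem_zpowers.2 hn)
  by_cases e : p ∣ i
  · obtain ⟨j, rfl⟩ := e
    exact .inl (pow_mul y p j ▸ pow_mem (mem_zpowers _) j)
  · exact .inr (mem_zpowers_pow_iff.2 (hy ▸ ((hp.coprime_iff_not_dvd.2 e).symm.pow_right m)))

theorem exists_invol_pow {k : G} (h : IsPGroup 2 (zpowers k)) (k1 : k ≠ 1) :
    ∃ t ∈ zpowers k, t ≠ 1 ∧ t * t = 1 := exists_invol fun e => by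
  obtain ⟨n, hn⟩ := IsPGroup.iff_card.1 h
  rw [hn] at e
  rcases n with _ | n
  · exact k1 (by simpa using hn)
  · exact e.not_two_dvd_nat (dvd_pow_self 2 n.succ_ne_zero)

/-- `y` is transitive on the `p` involutions of the 2-group `T`, which are central. -/
structure Hig (T A : Subgroup G) (y : G) (p : ℕ) : Prop where
  hp : p.Prime
  p2 : p ≠ 2
  two : IsPGroup 2 T
  yN : y ∈ 𝐍(T)
  mem : ∀ x, x ∈ A ↔ x ∈ T ∧ x * x = 1
  cent : T ≤ 𝐂(A)
  card : 𝐨(A) = p + 1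
  tr : ∀ a ∈ A, a ≠ 1 → ∀ b ∈ A, b ≠ 1 → ∃ n ∈ zpowers y, n * a * n⁻¹ = b

namespace Hig

variable {T A : Subgroup G} {y : G} {p : ℕ} (h : Hig T A y p)
include h

theorem le : A ≤ T := fun x hx => ((h.mem x).1 hx).1

theorem exists_ne (a : G) : ∃ b ∈ A, b ≠ 1 ∧ b ≠ a := by
  by_contra! e
  have := Set.ncard_le_ncard (s := (A : Set G)) (t := {1, a}) fun b hb => or_iff_not_imp_left.2 (e b hb)
  have h2 := h.hp.two_le
  rw [← Nat.card_coe_set_eq, SetLike.coe_sort_coe, h.card] at this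
  have := this.trans (Set.ncard_insert_le ..)
  simp at this
  omega

theorem fix {a : G} (ha : a ∈ A) (hy : y ∈ 𝐂[a]) : a = 1 := by
  by_contra a1
  obtain ⟨b, hb, b1, ba⟩ := h.exists_ne a
  obtain ⟨n, hn, e⟩ := h.tr a ha a1 b hb b1
  exact ba (e ▸ mem_cent1_iff_conj.1 (zpowers_le.2 hy hn))

theorem yA : y ∈ 𝐍(A) := mem_normalizer_fintype fun a ha => (h.mem _).2
  ⟨(mem_normalizer_iff.1 h.yN a).1 (h.le ha), by rw [conj_mul, ((h.mem a).1 ha).2]; simp⟩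

theorem sq_of_order (oy : orderOf y = p) (na : ¬ IsMulCommutative T) : ∀ x ∈ T, x * x ∈ A := by
  obtain ⟨n, hn⟩ := IsPGroup.iff_card.1 (h.two.to_le h.le)
  have h2 := h.hp.two_le
  have n0 : n ≠ 0 := fun e => by rw [e, h.card] at hn; omega
  haveI := Fintype.ofFinite (GaloisField 2 n)
  have cF : Fintype.card (GaloisField 2 n) = 𝐨(A) := by
    rw [← Nat.card_eq_fintype_card, GaloisField.card 2 n n0, hn]
  have free : ∀ k ∈ zpowers y, k ≠ 1 → ∀ a ∈ A, k ∈ 𝐂[a] → a = 1 := fun k hk k1 a ha e =>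
    h.fix ha (zpowers_le.2 e ((gen_or h.hp (oy.trans (pow_one p).symm) hk).resolve_left (by
      rwa [← oy, pow_orderOf_eq_one, zpowers_one_eq_bot, mem_bot])))
  obtain ⟨e, he, e1, -⟩ := h.exists_ne 1
  obtain ⟨φ, k, hf, -⟩ := P2.exists_secField (GaloisField 2 n) (M := A) (N := ⊥) (K := zpowers y)
    (by rw [relIndex_bot_left, cF]) (zpowers_le.2 h.yA) (norm_bot.ge.trans' le_top)
    (fun a ha b hb => mem_bot.2 (commutatorElement_eq_one_iff_mul_comm.2 (h.cent (h.le hb) a ha)))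
    (norm_bot.ge.trans' le_top) inferInstance he e1 (fun x hx x1 =>
      (h.tr e he e1 x hx x1).imp fun n hn => ⟨hn.1, by rw [hn.2, inv_mul_cancel]; exact one_mem _⟩)
    fun k hk e2 => of_not_not fun k1 => e1 (free k hk k1 e he
      (mem_cent1_iff_conj.2 (inv_mul_eq_one.1 e2)))
  refine P2.Suz.sq_mem ⟨h.two, zpowers_le.2 h.yN, fun k hk k1 => eq_bot_iff.2 fun x hx =>
    of_not_not fun x1 => ?_, h.mem, fun x hx z hz => (h.cent hx z hz).symm, hf,
    by rw [cF, h.card]; omega⟩ na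
  obtain ⟨t, ht, t1, tt⟩ := exists_invol_pow (h.two.to_le (zpowers_le.2 hx.1)) x1
  exact t1 (free k hk k1 t ((h.mem t).2 ⟨zpowers_le.2 hx.1 ht, tt⟩)
    (mem_cent1_comm.1 (zpowers_le.2 hx.2 ht)))

theorem pow_cent {m : ℕ} (oy : orderOf y = p ^ m) (hy : y ^ p ∈ 𝐂(A)) : y ^ p ∈ 𝐂(T) := by
  by_contra e
  have h2 := h.hp.two_le
  have ho := h.hp.odd_of_ne_two h.p2
  obtain ⟨R, RT, yR, nt, mn⟩ := H1.exists_minimal_nontrivial (B := zpowers y) (A := zpowers (y ^ p))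
    (zpowers_le.2 h.yN) fun e' => e (zpowers_le.1 (H1.commutator_eq_bot_iff_le_centralizer'.1 e'))
  have hR := h.two.to_le RT
  have a1 : zpowers (y ^ p) ≤ zpowers y := zpowers_le.2 (pow_mem (mem_zpowers y) p)
  have a2 : zpowers y ≤ 𝐍(zpowers (y ^ p)) := (zpowers_le.2 (cent1_le_cent1_pow y p
    (self_mem_cent1 y))).trans ((cent_zpowers _).ge.trans (cent_le_norm _))
  have a3 : 𝐨(zpowers (y ^ p)).Coprime 2 := (Nat.coprime_two_right.2 ho.pow).coprime_dvd_left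
    (by rw [Nat.card_zpowers, ← oy]; exact orderOf_pow_dvd p)
  have sq : ∀ x ∈ R, x * x ∈ A := fun x hx => (h.mem _).2 ⟨RT (mul_mem hx hx), by
    rw [← H1.minimal_exponent_sq hR yR a1 a2 a3 nt mn x hx]; simp [pow_succ, mul_assoc]⟩
  have cA : R ⊓ 𝐂[y ^ p] ≤ A := cent_zpowers (y ^ p) ▸ (H1.minimal_centralizer_le hR yR a1 a2 a3
    nt mn).trans (commutator_le.2 fun a ha b hb => P2.comm_mem_of_sq_mem sq ha hb)
  have b1 := H7.card_le_of_sq_mem (A.subgroupOf R) (A.subgroupOf R)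
    (fun a ha => mem_center_iff.2 fun g => Subtype.ext (h.cent (RT g.2) a ha).symm)
    (fun a ha => Subtype.ext (by simpa [pow_two] using ((h.mem _).1 ha).2))
    (fun x => by simpa [mem_subgroupOf, pow_two] using sq x x.2) fun x hx => (h.mem _).2
      ⟨RT x.2, by simpa [pow_two] using congrArg Subtype.val hx⟩
  have b2 : p ^ 2 ∣ ((R : Set G) \ (A ⊓ R : Subgroup G)).ncard := dvd_ncard_of_orbits _
    (fun g hg x hx => ⟨(mem_normalizer_iff.1 (yR hg) x).1 hx.1, fun e => hx.2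
      ⟨(mem_normalizer_iff.1 (zpowers_le.2 h.yA hg) x).2 e.1, hx.1⟩⟩) fun x hx => by
    obtain ⟨j, -, hj⟩ := (Nat.dvd_prime_pow h.hp).1 (show 𝐂[x].relIndex (zpowers y) ∣ p ^ m by
      rw [← oy, ← Nat.card_zpowers]; exact relIndex_dvd_card _ _)
    rw [hj]
    refine pow_dvd_pow p (not_lt.1 fun e => hx.2 ⟨cA ⟨hx.1, mem_cent1_comm.1 ?_⟩, hx.1⟩)
    have : (⟨y, mem_zpowers y⟩ : zpowers y) ^ p ^ j ∈ 𝐂[x].subgroupOf (zpowers y) :=
      hj ▸ pow_index_mem _ _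
    obtain ⟨c, hc⟩ : p ^ j ∣ p := by simpa using pow_dvd_pow p (Nat.le_of_lt_succ e)
    rw [hc, pow_mul]
    exact pow_mem this c
  have b3 := H1.card_mul_relIndex (inf_le_right : A ⊓ R ≤ R)
  obtain ⟨j, hj⟩ := IsPGroup.index hR ((A ⊓ R).subgroupOf R)
  obtain ⟨i, hi⟩ := IsPGroup.iff_card.1 (hR.to_le (inf_le_right : A ⊓ R ≤ R))
  have b4 : 𝐨((A ⊓ R : Subgroup G)) ≤ p + 1 := h.card ▸ card_le_of_le inf_le_left
  rw [← inf_subgroupOf_right, H2.card_subgroupOf_of_le inf_le_right, ← b3] at b1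
  rw [Set.ncard_diff (fun _ h => h.2), ← Nat.card_coe_set_eq, ← Nat.card_coe_set_eq,
    SetLike.coe_sort_coe, SetLike.coe_sort_coe, ← b3, ← Nat.mul_sub_one, hi] at b2
  rw [show (A ⊓ R).relIndex R = 2 ^ j from hj] at b1 b2
  obtain ⟨c, hc⟩ := ((Nat.coprime_two_right.2 ho).pow 2 i).dvd_of_dvd_mul_left b2
  have b5 := (Nat.le_of_mul_le_mul_left b1 Nat.card_pos).trans (Nat.pow_le_pow_left b4 2)
  have j0 : j ≠ 0 := fun e => nt (H1.commutator_eq_bot_iff_le_centralizer'.2 (zpowers_le.2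
    (cent_anti ((relIndex_eq_one.1 (by rw [← pow_zero 2, ← e]; exact hj)).trans inf_le_left) hy)))
  have := Nat.one_lt_two_pow j0
  obtain ⟨k, rfl⟩ := ho
  obtain rfl : c = 1 := by
    rcases c with _ | _ | c
    · omega
    · rfl
    · have : 2 ^ j = (2 * k + 1) ^ 2 * (c + 1 + 1) + 1 := by omega
      rw [this] at b5
      have : 0 < k := by omega
      nlinarith [Nat.zero_le ((2 * k + 1) ^ 2 * c)]
  obtain ⟨j, rfl⟩ := Nat.exists_eq_succ_of_ne_zero j0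
  rcases j with _ | j
  · simp at hc; nlinarith
  · have : 2 ^ (j + 1).succ = 4 * (k ^ 2 + k) + 2 := by
      rw [← Nat.sub_add_cancel this.le, hc]; ring
    simp only [pow_succ] at this
    omega

/-- Higman: `T` is abelian or its squares are involutions. -/
theorem sq_mem {m : ℕ} (oy : orderOf y = p ^ m) (hy : y ^ p ∈ 𝐂(A)) (na : ¬ IsMulCommutative T) :
    ∀ x ∈ T, x * x ∈ A := by
  let f := MulAction.toPermHom T T
  have hf : Function.Injective f := MulAction.toPerm_injective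
  let α : Equiv.Perm T := (H1.conjAutOf h.yN).toEquiv
  let ψ : MulAut T →* Equiv.Perm T := MulAut.toPerm T
  have cj : ∀ (β : MulAut T) (x : T), ψ β * f x * (ψ β)⁻¹ = f (β x) := fun β x => by
    rw [← map_inv]
    exact Equiv.ext fun z => (map_mul β x (β⁻¹ z)).trans (by simp [f])
  have h' : Hig f.range ((A.subgroupOf T).map f) (ψ (H1.conjAutOf h.yN)) p := by
    refine ⟨h.hp, h.p2, h.two.of_surjective _ f.rangeRestrict_surjective,
      mem_normalizer_fintype ?_, fun x => ⟨?_, ?_⟩, ?_, ?_, ?_⟩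
    · rintro _ ⟨x, rfl⟩; exact ⟨_, (cj _ x).symm⟩
    · rintro ⟨x, hx, rfl⟩
      exact ⟨⟨x, rfl⟩, by rw [← map_mul, show x * x = 1 from Subtype.ext ((h.mem _).1 hx).2, map_one]⟩
    · rintro ⟨⟨x, rfl⟩, e⟩
      exact ⟨x, (h.mem _).2 ⟨x.2, congrArg Subtype.val (hf (by rwa [map_mul, map_one]) :
        x * x = 1)⟩, rfl⟩
    · rintro _ ⟨x, rfl⟩ _ ⟨a, ha, rfl⟩
      rw [← map_mul, ← map_mul, show a * x = x * a from Subtype.ext (h.cent x.2 a ha)]
    · rw [card_map_of_injective hf, H2.card_subgroupOf_of_le h.le, h.card]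
    · rintro _ ⟨a, ha, rfl⟩ a1 _ ⟨b, hb, rfl⟩ b1
      obtain ⟨n, hn, e⟩ := h.tr a ha (fun e => a1 (by rw [show a = 1 from Subtype.ext e, map_one]))
        b hb fun e => b1 (by rw [show b = 1 from Subtype.ext e, map_one])
      obtain ⟨i, rfl⟩ := (Submonoid.mem_powers_iff _ _).1 (mem_powers_iff_mem_zpowers.2 hn)
      refine ⟨_, pow_mem (mem_zpowers _) i, ?_⟩
      rw [← map_pow, cj]
      exact congrArg f (Subtype.ext ((H1.coe_conjAutOf_pow h.yN i a).trans e))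
  obtain ⟨a, ha, a1, -⟩ := h'.exists_ne 1
  haveI := Fact.mk h.hp
  have := h'.sq_of_order (orderOf_eq_prime (by
    rw [← map_pow, H1.conjAutOf_pow_eq_one h.yN (h.pow_cent oy hy), map_one])
    fun e => a1 (h'.fix ha (e ▸ one_mem _))) fun e => na ⟨⟨fun a b => hf (by
      simpa only [map_mul] using setLike_mul_comm (s := f.range) (f.mem_range.2 ⟨a, rfl⟩)
        (f.mem_range.2 ⟨b, rfl⟩))⟩⟩
  intro x hx
  obtain ⟨z, hz, e⟩ := this _ ⟨⟨x, hx⟩, rfl⟩
  rwa [hf (e.trans (map_mul f _ _).symm)] at hz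

end Hig

end Cfsg.Agent.P10.Q
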