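/-
Groups whose `p` involutions commute and are conjugate: the centralizer of the involutions.
-/
import Cfsg.Agent.P10.Q1
import Cfsg.Agent.P10.Q3
import Cfsg.Agent.P7.R0

set_option autoImplicit false
set_option linter.unusedSectionVars false

namespace Cfsg.Agent.P10.Q

open Subgroup Cfsg Cfsg.Agent Cfsg.Agent.FT
open scoped commutatorElement

universe u

variable {G : Type u} [Group G] [Finite G]

theorem mul_mul_mul_comm' {a b : G} (h : a * b = b * a) : a * b * (a * b) = a * a * (b * b) := by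
  rw [mul_assoc a b, ← mul_assoc b a, ← h]; simp only [mul_assoc]

theorem eq_one_of_odd {x : G} {m : ℕ} (k : ℕ) (hm : Odd m) (h1 : x ^ m = 1) (h2 : x ^ 2 ^ k = 1) :
    x = 1 := orderOf_eq_one_iff.1 (Nat.eq_one_of_dvd_coprimes
  ((Nat.coprime_two_right.2 hm).pow_right k) (orderOf_dvd_of_pow_eq_one h1)
    (orderOf_dvd_of_pow_eq_one h2))

/-- Simple groups with elementary abelian Sylow 2-subgroups have one class of involutions. -/
def OneClass : Prop := ∀ (G : Type u) [Group G] [Finite G], IsSimpleGroup G → ¬ IsMulCommutative G →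
  (∀ x : G, x ^ 4 = 1 → x * x = 1) → ∀ a b : G, P6.Inv a → P6.Inv b → ∃ g, g * a * g⁻¹ = b

/-- The involutions of `G` are the `p` nonidentity elements of `A`, and they are conjugate. -/
structure Py (A : Subgroup G) (p : ℕ) : Prop where
  hp : p.Prime
  p2 : p ≠ 2
  mem : ∀ x, x ∈ A ↔ x * x = 1
  card : 𝐨(A) = p + 1
  cj : ∀ a ∈ A, a ≠ 1 → ∀ b ∈ A, b ≠ 1 → ∃ g, g * a * g⁻¹ = b

namespace Py

variable {T A : Subgroup G} {p : ℕ} (h : Py A p)
include h

theorem normal : A.Normal := ⟨fun a ha g => (h.mem _).2 (by rw [conj_mul, (h.mem a).1 ha]; simp)⟩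

theorem nA (X : Subgroup G) : X ≤ 𝐍(A) := le_top.trans (normalizer_eq_top_iff.2 h.normal).ge

theorem nC (X : Subgroup G) : X ≤ 𝐍(𝐂(A)) := H1.le_normalizer_centralizer (h.nA X)

theorem comm : A ≤ 𝐂(A) := fun _ ha _ hb =>
  L.commute_of_sq_eq_one (fun x hx => (h.mem x).1 hx) hb ha

theorem two : IsPGroup 2 A := fun a => ⟨1, Subtype.ext (by simpa [sq] using (h.mem _).1 a.2)⟩

theorem le (hT : IsSyl 2 T 𝐂(A)) : A ≤ T :=
  hT.le_of_le_norm Nat.prime_two h.two h.comm (h.nA _)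

theorem exists_hig (hT : IsSyl 2 T 𝐂(A)) :
    ∃ y m, Hig T A y p ∧ orderOf y = p ^ m ∧ y ^ p ∈ 𝐂(A) := by
  haveI := Fact.mk h.hp
  have h2 := h.hp.two_le
  have fr := hT.frattini Nat.prime_two (M := ⊤) ⟨le_top, h.nC _⟩
  rw [top_inf_eq] at fr
  obtain ⟨a, ha, a1⟩ := (A.bot_or_exists_ne_one).resolve_left fun e => by
    have := h.card; rw [e, card_bot] at this; omega
  have cS : ((A : Set G) \ {1}).ncard = p := by
    rw [Set.ncard_sdiff_singleton_of_mem (one_mem A), ← Nat.card_coe_set_eq, SetLike.coe_sort_coe,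
      h.card]; rfl
  have sub : ∀ N : Subgroup G, {g : G | ∃ n ∈ N, n * a * n⁻¹ = g} ⊆ (A : Set G) \ {1} := by
    rintro N _ ⟨n, -, rfl⟩
    exact ⟨h.normal.1 a ha n, by simpa using a1⟩
  have i1 : 𝐂[a].relIndex 𝐍(T) = p := by
    rw [← H6.ncard_conj_orbit, ← cS, (sub _).antisymm]
    rintro b ⟨hb, b1⟩
    obtain ⟨g, rfl⟩ := h.cj a ha a1 b hb b1
    obtain ⟨n, hn, c, hc, rfl⟩ := (mem_sup_of_norm' (h.nC 𝐍(T))).1 (fr.ge (mem_top g))
    exact ⟨n, hn, by rw [mul_assoc n c, ← hc a ha]; group⟩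
  obtain ⟨P, hP⟩ := exists_isSyl h.hp 𝐍(T)
  obtain ⟨y, hy, ya⟩ := SetLike.not_le_iff_exists.1 fun e : P ≤ 𝐂[a] =>
    hP.ndvd (i1 ▸ relIndex_dvd_of_le_left _ e)
  obtain ⟨m, hm⟩ := IsPGroup.iff_orderOf.1 hP.pgrp ⟨y, hy⟩
  rw [orderOf_mk] at hm
  have i2 : 𝐂[a].relIndex (zpowers y) = p := by
    obtain ⟨j, -, hj⟩ := (Nat.dvd_prime_pow h.hp).1 (show 𝐂[a].relIndex (zpowers y) ∣ p ^ m by
      rw [← hm, ← Nat.card_zpowers]; exact relIndex_dvd_card _ _)
    have := Set.ncard_le_ncard (sub (zpowers y))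
    rw [H6.ncard_conj_orbit, cS, hj] at this
    rcases j with _ | _ | j
    · exact absurd (relIndex_eq_one.1 hj (mem_zpowers y)) ya
    · simpa using hj
    · exact absurd this (not_le.2 (by
        simpa using Nat.pow_lt_pow_right h.hp.one_lt (show 1 < j + 1 + 1 by omega)))
  have orb := Set.eq_of_subset_of_ncard_le (sub (zpowers y)) (by rw [H6.ncard_conj_orbit, cS, i2])
  have yp : y ^ p ∈ 𝐂[a] := by
    have : (⟨y, mem_zpowers y⟩ : zpowers y) ^ p ∈ 𝐂[a].subgroupOf (zpowers y) :=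
      i2 ▸ pow_index_mem _ _
    exact this
  refine ⟨y, m, ⟨h.hp, h.p2, hT.pgrp, hP.le hy, fun x => ⟨fun e => ⟨h.le hT e, (h.mem x).1 e⟩,
    fun e => (h.mem x).2 e.2⟩, hT.le, h.card, fun b hb b1 c hc c1 => ?_⟩, hm, fun b hb => ?_⟩
  · obtain ⟨n, hn, rfl⟩ := orb.ge ⟨hb, b1⟩
    obtain ⟨k, hk, rfl⟩ := orb.ge ⟨hc, c1⟩
    exact ⟨k * n⁻¹, mul_mem hk (inv_mem hn), by group⟩
  · by_cases b1 : b = 1
    · simp [b1]
    obtain ⟨_, ⟨n, rfl⟩, rfl⟩ := orb.ge ⟨hb, b1⟩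
    have e : Commute (y ^ n) (y ^ p) := (Commute.refl y).zpow_left n |>.pow_right p
    exact ((e.mul_left (mem_cent1.1 yp)).mul_left e.inv_left).eq

theorem sq_mod (hT : IsSyl 2 T 𝐂(A)) (sq : ∀ x ∈ T, x * x ∈ A) {x : G} (hx : x ∈ 𝐂(A)) :
    ∃ m, Odd m ∧ x ^ (2 * m) ∈ A := by
  obtain ⟨k, m, hm, e⟩ := Nat.exists_eq_two_pow_mul_odd (orderOf_pos x).ne'
  obtain ⟨g, -, hg⟩ := hT.exists_conj_le Nat.prime_two (Q := zpowers (x ^ m))
    (H1.isPGroup_zpowers_of_pow_eq_one (k := k)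
      (by rw [← pow_mul, mul_comm, ← e, pow_orderOf_eq_one])) (zpowers_le.2 (pow_mem hx m))
  have := sq _ (hg (conj_mem_conj (mem_zpowers _) g))
  rw [conj_mul, ← pow_add, ← two_mul] at this
  exact ⟨m, hm, (mem_normalizer_iff.1 (h.nA ⊤ (mem_top g)) _).2 this⟩

theorem solvA : Group.IsSolvable A := H1.isSolvable_of_isPGroup h.two

theorem no_comp (hO : OneClass.{u}) (hT : IsSyl 2 T 𝐂(A)) {K : Subgroup G} (hK : H2.CompIn ⊤ K) :
    False := by
  obtain ⟨y, m, H, oy, hy⟩ := h.exists_hig hT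
  have snA : H2.SnIn ⊤ A := .step _ _ le_top (h.nA _) .refl
  have KC : K ≤ 𝐂(A) := hK.le_centralizer_of_isSolvable snA h.solvA
  have AC : ∀ w, w * w = 1 → w ∈ 𝐂(K) := fun w e => le_centralizer_iff.1 KC ((h.mem w).2 e)
  have hS := (hT.inf_normal Nat.prime_two ⟨H2.layerOf_le_centralizer_of_isSolvable snA h.solvA,
    le_top.trans (H2.le_normalizer_layerOf ⊤)⟩).inf_normal Nat.prime_two
    ⟨hK.le_layerOf, hK.layerOf_le_normalizer⟩
  have ST : T ⊓ H2.layerOf ⊤ ⊓ K ≤ T := inf_le_left.trans inf_le_left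
  generalize T ⊓ H2.layerOf ⊤ ⊓ K = S at hS ST
  have z2 : ∀ z ∈ K, z ∈ 𝐂(K) → z ^ 2 ^ 2 = 1 → z ∈ S := fun z hz zc e => zpowers_le.1
    (hS.le_of_le_norm Nat.prime_two (H1.isPGroup_zpowers_of_pow_eq_one e) (zpowers_le.2 hz)
      ((hS.le.trans (le_centralizer_iff.1 (zpowers_le.2 zc))).trans (cent_le_norm _)))
  have nS : ¬ S ≤ 𝐂(S) := fun e => by
    obtain ⟨t, ht, t1, tt⟩ := exists_invol (H := K) fun e =>
      H2.QS.not_isSolvable hK.2 (P5.Mx.isSolvable_of_odd e)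
    have := P7.pow_mem_der hS.le ((H2.QS.commutator_eq hK.2).ge ht) (AC t tt)
    rw [commutator_eq_bot_iff_le_centralizer.2 e] at this
    exact t1 (eq_one_of_odd 1 (Nat.odd_iff.2 (Nat.two_dvd_ne_zero.1 hS.ndvd)) this (by simpa [sq]))
  have sq := H.sq_mem oy hy fun e => nS fun a ha b hb => setLike_mul_comm (ST hb) (ST ha)
  obtain ⟨w, hw, wc⟩ := SetLike.not_le_iff_exists.1 fun e : S ≤ 𝐂(K) => nS (e.trans (cent_anti hS.le))
  have wK := hS.le hw
  have ha := sq w (ST hw)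
  have a1 : w * w ≠ 1 := fun e => wc (AC w e)
  by_cases yK : y ∈ 𝐍(K)
  · have e2 : ∀ z ∈ T, z ∈ 𝐂(K) → z * z = 1 := fun z hz zc => of_not_not fun z1 => by
      obtain ⟨n, hn, e⟩ := H.tr _ (sq z hz) z1 _ ha a1
      have c : n * z * n⁻¹ ∈ 𝐂(K) :=
        (mem_normalizer_iff.1 (H1.le_normalizer_centralizer (zpowers_le.2 yK) hn) z).1 zc
      refine wc ((mul_mem_cancel_right (inv_mem c)).1 (AC _ ?_))
      rw [mul_mul_mul_comm' (inv_mem c w wK), ← mul_inv_rev, conj_mul, e, mul_inv_cancel]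
    have iv : ∀ v (hv : v ∈ K), v * v ∈ A → v ∉ 𝐂(K) →
        P6.Inv ((⟨v, hv⟩ : K) : K ⧸ center K) := fun v hv e vc =>
      ⟨fun e => vc fun k hk => congrArg Subtype.val
        (mem_center_iff.1 ((QuotientGroup.eq_one_iff _).1 e) ⟨k, hk⟩), by
        rw [← QuotientGroup.mk_mul, QuotientGroup.eq_one_iff]
        exact mem_center_iff.2 fun k => Subtype.ext (KC k.2 _ e).symm⟩
    have yw : y * w * y⁻¹ ∈ K := (mem_normalizer_iff.1 yK w).1 wK
    have ya : y * w * y⁻¹ * (y * w * y⁻¹) ∈ A := by rw [conj_mul]; exact h.normal.1 _ ha y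
    have := hK.2.1
    have := hK.2.2
    have := Group.IsPerfect.ofSurjective (QuotientGroup.mk'_surjective (center K))
    obtain ⟨g, e⟩ := hO _ hK.2.2 (Group.IsPerfect.not_isMulCommutative _) (fun x e => by
      obtain ⟨x, rfl⟩ := QuotientGroup.mk_surjective x
      obtain ⟨m, hm, e'⟩ := h.sq_mod hT sq (KC x.2)
      refine eq_one_of_odd 1 hm ?_ (by simpa [pow_succ, mul_assoc] using e)
      rw [← _root_.sq, ← pow_mul, ← QuotientGroup.mk_pow, QuotientGroup.eq_one_iff]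
      exact mem_center_iff.2 fun k => Subtype.ext (KC k.2 _ e').symm) _ _ (iv w wK ha wc)
      (iv _ yw ya fun e => wc ((mem_normalizer_iff.1
        (H1.normalizer_le_normalizer_centralizer _ yK) w).2 e))
    obtain ⟨k, rfl⟩ := QuotientGroup.mk_surjective g
    rw [← QuotientGroup.mk_inv, ← QuotientGroup.mk_mul, ← QuotientGroup.mk_mul,
      QuotientGroup.eq] at e
    obtain ⟨z, hz⟩ : ∃ z : K, z = (k * ⟨w, wK⟩ * k⁻¹)⁻¹ * ⟨_, yw⟩ := ⟨_, rfl⟩
    rw [← hz] at e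
    have zc : (z : G) ∈ 𝐂(K) := fun k hk => congrArg Subtype.val (mem_center_iff.1 e ⟨k, hk⟩)
    have e3 : y * (w * w) * y⁻¹ = w * w * (z * z) := by
      have : y * w * y⁻¹ = k * w * (k : G)⁻¹ * z := by rw [hz]; simp [mul_assoc]
      rw [← conj_mul, this, mul_mul_mul_comm' (zc _ (mul_mem (mul_mem k.2 wK) (inv_mem k.2))),
        conj_mul, ← KC k.2 _ ha, mul_inv_cancel_right]
    have zA : (z : G) * z ∈ A := (mul_mem_cancel_left ha).1 (e3 ▸ h.normal.1 _ ha y)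
    rw [e2 z (ST (z2 z z.2 zc (by simpa [pow_succ, mul_assoc] using (h.mem _).1 zA))) zc,
      mul_one] at e3
    exact a1 (H.fix ha (mem_cent1_iff_conj.2 e3))
  · have nk : ∀ n ∈ zpowers y, n * (w * w) * n⁻¹ ≠ w * w → n * w * n⁻¹ ∈ 𝐂(K) := fun n hn e => by
      refine (hK.conj_of_mem_normalizer (g := n) (le_norm_self _ (mem_top n))).le_centralizer_of_ne hK
        (fun e' => ?_) (conj_mem_conj wK n)
      rcases gen_or h.hp oy hn with c | c
      · exact e (by rw [← zpowers_le.2 hy c _ ha, mul_inv_cancel_right])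
      · exact yK (zpowers_le.2 (conj_eq_self_iff.1 e') c)
    obtain ⟨b, hb, b1, ba⟩ := H.exists_ne (w * w)
    have aa := (h.mem _).1 ha
    have ab : w * w * b ≠ 1 := fun e => ba (mul_left_cancel (e.trans aa.symm))
    obtain ⟨g, hg, eg⟩ := H.tr _ ha a1 b hb b1
    obtain ⟨k, hk, ek⟩ := H.tr _ ha a1 _ (mul_mem ha hb) ab
    have c1 := nk g hg (eg ▸ ba)
    have c2 := nk k hk (by rw [ek]; simpa using b1)
    have c3 := nk (g⁻¹ * k) (mul_mem (inv_mem hg) hk) (fun e => a1 (mul_right_cancel (b := b) (by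
      rw [one_mul, ← ek, ← eg]; conv_rhs => rw [← e]
      group))) w wK
    have c4 : g * w * g⁻¹ * (k * w * k⁻¹) = k * w * k⁻¹ * (g * w * g⁻¹) := by
      simpa [mul_assoc] using congrArg (fun x => g * x * g⁻¹) c3
    refine wc ((mul_mem_cancel_right (mul_mem c1 c2)).1 (AC _ ?_))
    rw [mul_mul_mul_comm' (mul_mem c1 c2 w wK), mul_mul_mul_comm' c4, conj_mul, conj_mul, eg, ek,
      ← mul_assoc]
    exact (h.mem _).1 (mul_mem ha hb)

theorem normal_syl (hO : OneClass.{u}) (h0 : pPrimeCore 2 G = ⊥) (hT : IsSyl 2 T 𝐂(A)) :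
    T.Normal ∧ (IsMulCommutative T → 𝐂(A) ≤ T) := by
  have sn : H2.SnIn ⊤ 𝐂(A) := .step _ _ le_top (h.nC _) .refl
  have e1 : H2.layerOf 𝐂(A) = ⊥ := of_not_not fun e =>
    (H2.exists_compIn_of_layerOf_ne_bot e).elim fun K hK => h.no_comp hO hT (hK.trans sn)
  have e2 := H2.inf_centralizer_fittingOf_le_of_layerOf_eq_bot e1
  rw [fittingOf_eq_pCoreOf Nat.prime_two (by
    rw [sn.pPrimeCoreOf_eq, H2.pPrimeCoreOf_top, h0, bot_inf_eq])] at e2
  have QT := hT.pCoreOf_le Nat.prime_two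
  have nQ : ⊤ ≤ 𝐍(pCoreOf 2 𝐂(A)) := (h.nC _).trans (H2.normalizer_le_normalizer_pCoreOf _ _)
  generalize pCoreOf 2 𝐂(A) = Q at e2 QT nQ
  have key : ∀ D, T ≤ D → D ≤ 𝐂(A) → (∀ R ≤ D, 𝐨(R).Coprime 2 → R ≤ 𝐂(Q)) → D ≤ T :=
    fun D h1 h2 h3 => le_of_forall_exists_isSyl_le fun r hr _ => by
      by_cases e : r = 2
      · exact ⟨T, e ▸ hT.of_le h1 h2, le_rfl⟩
      obtain ⟨R, hR⟩ := exists_isSyl hr D
      have := Fact.mk hr
      obtain ⟨n, hn⟩ := IsPGroup.iff_card.1 hR.pgrp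
      exact ⟨R, hR, (le_inf (hR.le.trans h2) (h3 R hR.le
        (hn ▸ ((Nat.coprime_primes hr Nat.prime_two).2 e).pow_left n))).trans (e2.trans QT)⟩
  have cp : ∀ R S : Subgroup G, IsPGroup 2 S → 𝐨(R).Coprime 2 → 𝐨(R).Coprime 𝐨(S) :=
    fun R S hS e => (IsPGroup.iff_card.1 hS).elim fun n hn => hn ▸ e.pow_right n
  have TD : T ≤ 𝐂(A) ⊓ centMod Q A := le_inf hT.le (le_centMod_iff.2 ⟨h.nA _, by
    by_cases na : IsMulCommutative T
    · exact commutator_le.2 fun a ha b hb => by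
        rw [commutatorElement_eq_one_iff_mul_comm.2 (setLike_mul_comm (QT ha) hb)]; exact one_mem _
    obtain ⟨y, m, H, oy, hy⟩ := h.exists_hig hT
    exact commutator_le.2 fun a ha b hb => P2.comm_mem_of_sq_mem (H.sq_mem oy hy na) (QT ha) hb⟩)
  have nT : T.Normal := by
    rw [TD.antisymm (key _ TD inf_le_left fun R hR e => H1.le_centralizer_of_commutator_le
      (le_top.trans nQ) (cp _ _ (hT.pgrp.to_le QT) e) (le_centMod_iff.1 (hR.trans inf_le_right)).2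
      (hR.trans inf_le_left))]
    exact normalizer_eq_top_iff.1 (top_le_iff.1
      (H1.le_normalizer_inf (h.nC _) (norm_le_norm_centMod nQ (h.nA _))))
  refine ⟨nT, fun ab => key _ hT.le le_rfl fun R hR e => (H1.le_centralizer_of_abelian_of_prime_order
    ab (le_top.trans (normalizer_eq_top T).ge) (cp _ _ hT.pgrp e) fun v hv o => ?_).trans
    (cent_anti QT)⟩
  obtain ⟨n, hn⟩ := IsPGroup.iff_orderOf.1 hT.pgrp ⟨v, hv⟩
  rw [orderOf_mk] at hn
  have := (Nat.prime_dvd_prime_iff_eq o Nat.prime_two).1 (o.dvd_of_dvd_pow hn.dvd)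
  exact le_centralizer_iff.1 hR ((h.mem v).2 (orderOf_two_iff.1 this).2)

theorem solv_cent [T.Normal] (hT : IsSyl 2 T 𝐂(A)) : Group.IsSolvable 𝐂(A) := by
  have : (T.subgroupOf 𝐂(A)).Normal := inferInstance
  refine solv_ext (N := T.subgroupOf 𝐂(A))
    (H1.isSolvable_of_isPGroup (hT.pgrp.comap_subtype)) (feit_thompson _ ?_)
  exact Nat.odd_iff.2 (Nat.two_dvd_ne_zero.1 hT.ndvd)

end Py

end Cfsg.Agent.P10.Q
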