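/-
Two computations: singular subgroups of anisotropic 2-groups, and a companion matrix.
-/
import Cfsg.Agent.H1.Aniso

set_option autoImplicit false

namespace Cfsg.Agent.P10.Q

open Subgroup Cfsg Cfsg.Agent
open scoped commutatorElement

theorem aniso_sing {T : Type*} [Group T] [Finite T] {V : Subgroup T} (hc : V ≤ center T)
    (h1 : ∀ x : T, x ^ 2 = 1 ↔ x ∈ V) (h2 : ∀ x : T, x ^ 2 ∈ V) {F : ℕ}
    (hF : ∀ v ∈ V, v ≠ 1 → Nat.card {t : T // t ^ 2 = v} = F) (hFN : F ≠ Nat.card V) (hV : V ≠ ⊤)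
    {B W : Subgroup T} (hB : B.relIndex V = 2) (hW : ∀ w ∈ W, w ^ 2 ∈ B)
    (big : Nat.card V * Nat.card T ≤ Nat.card W ^ 2) : False := by
  classical
  have := Fintype.ofFinite T
  obtain ⟨cT, nd⟩ := H1.aniso_core hc h1 h2 hF hFN hV hB
  have hcm := H1.aniso_commutator_mem h2
  have hcc : ∀ v ∈ V, ∀ x, Commute x v := fun v hv x => mem_center_iff.mp (hc hv) x
  let χ : V →* ℤ :=
    { toFun := fun v => if v ∈ B.subgroupOf V then 1 else -1
      map_one' := if_pos (one_mem _)
      map_mul' := fun a b => by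
        simp only [mul_mem_iff_of_index_two hB]
        split_ifs <;> simp_all }
  have hχ : ∀ v, χ v = 1 ↔ (v : T) ∈ B := fun v => by
    change (if v ∈ B.subgroupOf V then (1 : ℤ) else -1) = 1 ↔ v ∈ B.subgroupOf V
    split_ifs <;> simp_all
  have hχ2 : ∀ v, -1 ≤ χ v := fun v => by
    change -1 ≤ (if v ∈ B.subgroupOf V then (1 : ℤ) else -1)
    split_ifs <;> simp
  have hχ1 : χ ≠ 1 := fun h => by
    rw [relIndex_eq_one.mpr fun v hv => (hχ ⟨v, hv⟩).mp (by rw [h]; rfl)] at hB
    omega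
  let c : T → ℤ := fun t => χ ⟨t ^ 2, h2 t⟩
  let β : T → T →* ℤ := fun y => χ.comp <| MonoidHom.mk' (fun x => ⟨⁅y, x⁆, hcm y x⟩) fun a b => by
    refine Subtype.ext ?_
    calc ⁅y, a * b⁆ = ⁅y, a⁆ * (a * ⁅y, b⁆ * a⁻¹) := by simp only [commutatorElement_def]; group
      _ = _ := by rw [(hcc _ (hcm y b) a).eq, mul_inv_cancel_right]; rfl
  have hmul : ∀ x y, c (x * y) = c x * c y * β y x := fun x y => by
    change χ _ = χ _ * χ _ * χ _
    rw [← map_mul, ← map_mul]
    exact congrArg χ (Subtype.ext (by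
      simpa using H1.mul_pow_of_central (hcc _ (hcm y x) x) (hcc _ (hcm y x) y) 2))
  have cW : ∀ w ∈ W, c w = 1 := fun w hw => (hχ _).2 (hW w hw)
  have sym : ∀ x y, β x y = β y x := fun x y => congrArg χ (Subtype.ext (show ⁅x, y⁆ = ⁅y, x⁆ by
    rw [← commutatorElement_inv, inv_eq_iff_mul_eq_one, ← sq]; exact (h1 _).2 (hcm _ _)))
  let κ : T → ℤ := fun t => ∑ w : W, β t w
  have k0 : ∀ t, 0 ≤ κ t := fun t => by
    have := sum_hom_units ((β t).comp W.subtype)
    exact le_of_le_of_eq (Nat.cast_nonneg _) this.symm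
  have k1 : ∀ t ∈ W, κ t = Nat.card W := fun t ht => by
    rw [Nat.card_eq_fintype_card, ← Finset.card_univ, Finset.cast_card]
    exact Finset.sum_congr rfl fun w _ => by
      simpa [cW _ (mul_mem w.2 ht), cW _ w.2, cW t ht] using (hmul w t).symm
  have k2 : ∑ t, κ t ≤ Nat.card V * Nat.card T := by
    calc _ = ∑ w : W, ∑ t, β w t := Finset.sum_comm.trans
          (Finset.sum_congr rfl fun w _ => Finset.sum_congr rfl fun t _ => sym t w)
      _ ≤ ∑ w : W, if (w : T) ∈ V then (Nat.card T : ℤ) else 0 := Finset.sum_le_sum fun w _ => by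
          rw [sum_hom_units, Nat.card_eq_fintype_card]
          split_ifs with a b
          · simp
          · exact absurd (nd _ fun x => (hχ ⟨_, hcm w x⟩).1 (DFunLike.congr_fun a x)) b
          all_goals simp
      _ ≤ _ := by
          rw [← Finset.sum_filter, Finset.sum_const, nsmul_eq_mul]
          refine mul_le_mul_of_nonneg_right (Nat.cast_le.2 ?_) (Nat.cast_nonneg _)
          rw [← Fintype.card_subtype, ← Nat.card_eq_fintype_card]
          exact Nat.card_le_card_of_injective (fun w => ⟨w.1, w.2⟩) fun a b e =>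
            Subtype.ext (Subtype.ext (congrArg (fun v : V => (v : T)) e))
  have k3 : (Nat.card W : ℤ) * ∑ t, c t = ∑ t, c t * κ t := by
    calc _ = ∑ w : W, ∑ t, c (w * t) := by
          rw [Nat.card_eq_fintype_card, ← nsmul_eq_mul, ← Finset.card_univ, ← Finset.sum_const]
          exact Finset.sum_congr rfl fun w _ => (Equiv.sum_comp (Equiv.mulLeft (w : T)) c).symm
      _ = _ := Finset.sum_comm.trans (Finset.sum_congr rfl fun t _ => by
          rw [Finset.mul_sum]
          exact Finset.sum_congr rfl fun w _ => by rw [hmul, cW _ w.2, one_mul])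
  have k4 : ∑ t, ((if t ∈ W then 2 * (Nat.card W : ℤ) else 0) - κ t) ≤ ∑ t, c t * κ t :=
    Finset.sum_le_sum fun t _ => by
      split_ifs with a
      · rw [cW t a, k1 t a]; omega
      · nlinarith [k0 t, hχ2 ⟨t ^ 2, h2 t⟩]
  rw [Finset.sum_sub_distrib, ← Finset.sum_filter, Finset.sum_const, ← Fintype.card_subtype,
    ← Nat.card_eq_fintype_card, nsmul_eq_mul, ← k3] at k4
  have hsum : ∀ g : V → ℤ, ∑ t, g ⟨t ^ 2, h2 t⟩ = (Nat.card V - F) * g 1 + F * ∑ v, g v := by
    intro g
    rw [← Finset.sum_fiberwise' Finset.univ (fun t : T => (⟨t ^ 2, h2 t⟩ : V)) g, Finset.mul_sum,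
      ← Finset.add_sum_erase _ _ (Finset.mem_univ 1), ← Finset.add_sum_erase _ _ (Finset.mem_univ 1),
      ← add_assoc]
    congr 1
    · rw [Finset.sum_const, nsmul_eq_mul, ← add_mul, sub_add_cancel, Nat.card_eq_fintype_card,
        Fintype.card_subtype]
      simp only [Subtype.ext_iff, coe_one, h1]
    · refine Finset.sum_congr rfl fun v hv => ?_
      rw [Finset.sum_const, nsmul_eq_mul, ← hF v v.2 (by simpa using hv), Nat.card_eq_fintype_card,
        Fintype.card_subtype]
      simp only [Subtype.ext_iff]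
  have hS : ∑ t, c t = Nat.card V - F := by
    rw [hsum χ, sum_hom_units_eq_zero χ hχ1]; simp
  have hT := hsum fun _ => 1
  simp only [Finset.sum_const, Finset.card_univ, nsmul_eq_mul, mul_one,
    ← Nat.card_eq_fintype_card] at hT
  have v2 : (2 : ℤ) ≤ Nat.card V := by
    exact_mod_cast Nat.le_of_dvd Nat.card_pos (hB ▸ relIndex_dvd_card B V)
  have w0 : (0 : ℤ) < Nat.card W := by exact_mod_cast Nat.card_pos
  zify at big cT
  rw [hS] at k4
  have : (F : ℤ) < Nat.card V := by
    by_contra! e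
    have : (Nat.card W : ℤ) * (Nat.card V - F) ≤ 0 := mul_nonpos_of_nonneg_of_nonpos w0.le (by omega)
    nlinarith
  nlinarith [mul_le_mul_of_nonneg_right this.le (show (0 : ℤ) ≤ Nat.card V - 1 by omega),
    mul_le_mul_of_nonneg_right v2 (sq_nonneg (Nat.card V : ℤ))]

theorem companion {k : ℕ} {M : Type*} [AddCommGroup M] [Module (ZMod (2 ^ (k + 1))) M]
    (f : Module.End (ZMod (2 ^ (k + 1))) M) (t : M) (E : (Fin 3 → ZMod 2) →+ M)
    (inj : Function.Injective E) (sur : ∀ m, 2 • m = 0 → ∃ v, E v = m)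
    (he : ∀ i : Fin 3, 2 ^ k • (f ^ (i : ℕ)) t = E (Pi.single i 1)) (hd : LinearMap.det f = 1)
    (h4 : f ^ 4 = 1) {s : M} (hs : f s = s) : ∃ u, s = u + f (f u) := by
  let L := Fintype.linearCombination (ZMod (2 ^ (k + 1))) fun i : Fin 3 => (f ^ (i : ℕ)) t
  let π := ZMod.castHom (dvd_pow_self 2 k.succ_ne_zero) (ZMod 2)
  have z : ∀ m : M, 2 ^ (k + 1) • m = 0 := fun m => by
    rw [← Nat.cast_smul_eq_nsmul (ZMod (2 ^ (k + 1))), ZMod.natCast_self, zero_smul]
  have e1 : ∀ g, 2 ^ k • L g = E fun i => π (g i) := fun g => by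
    rw [Fintype.linearCombination_apply, Finset.smul_sum, ← Finset.univ_sum_single fun i => π (g i),
      map_sum]
    refine Finset.sum_congr rfl fun i _ => ?_
    obtain ⟨n, hn⟩ := ZMod.natCast_zmod_surjective (g i)
    rw [smul_comm, he, ← hn, Nat.cast_smul_eq_nsmul, ← map_nsmul, map_natCast, ← Pi.single_smul]
    simp
  have i1 : ∀ j ≤ k + 1, ∀ g, L g = 0 → ∃ g', g = 2 ^ j • g' := fun j hj g hg => by
    induction j with
    | zero => exact ⟨g, by simp⟩
    | succ j ih =>
      obtain ⟨g, rfl⟩ := ih (by omega)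
      have : (fun i => π (g i)) = 0 := inj (by
        obtain ⟨c, rfl⟩ := Nat.exists_eq_add_of_le (Nat.le_of_succ_le_succ hj)
        rw [← e1, map_zero, pow_add, mul_comm, mul_smul, ← map_nsmul, hg, smul_zero])
      have : ∀ i, ∃ r, g i = 2 • r := fun i => by
        obtain ⟨n, hn⟩ := ZMod.natCast_zmod_surjective (g i)
        obtain ⟨r, rfl⟩ := (ZMod.natCast_eq_zero_iff n 2).1 (by
          rw [← map_natCast π, hn]; exact congrFun this i)
        exact ⟨r, by rw [← hn]; simp⟩
      choose r hr using this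
      exact ⟨r, by rw [pow_succ 2 j, mul_smul, show g = 2 • r from funext hr]⟩
  have i2 : ∀ j ≤ k + 1, ∀ m : M, 2 ^ j • m = 0 → ∃ g, L g = m := fun j hj => by
    induction j with
    | zero => exact fun m e => ⟨0, by simpa using e.symm⟩
    | succ j ih =>
      intro m e
      obtain ⟨v, hv⟩ := sur (2 ^ j • m) (by rwa [← mul_smul, ← pow_succ'])
      choose g hg using fun i => ZMod.castHom_surjective (dvd_pow_self 2 k.succ_ne_zero) (v i)
      obtain ⟨c, rfl⟩ := Nat.exists_eq_add_of_le (Nat.le_of_succ_le_succ hj)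
      obtain ⟨g', hg'⟩ := ih (by omega) (m - L (2 ^ c • g)) (by
        rw [smul_sub, map_nsmul, ← mul_smul, ← pow_add, e1, ← hv, show v = _ from (funext hg).symm,
          sub_self])
      exact ⟨g' + 2 ^ c • g, by rw [map_add, hg', sub_add_cancel]⟩
  have bij : Function.Bijective L := ⟨(injective_iff_map_eq_zero L).2 fun g hg => by
    obtain ⟨g, rfl⟩ := i1 _ le_rfl g hg
    rw [← Nat.cast_smul_eq_nsmul (ZMod (2 ^ (k + 1))), ZMod.natCast_self, zero_smul],
    fun m => i2 _ le_rfl m (z m)⟩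
  obtain ⟨c, hc⟩ := bij.2 ((f ^ 3) t)
  have e2 : ∀ g, f (L g) = L (Matrix.toLin' !![0, 0, c 0; 1, 0, c 1; 0, 1, c 2] g) := fun g => by
    have : f (f (f t)) = c 0 • t + c 1 • f t + c 2 • f (f t) := by
      simpa [L, Fintype.linearCombination_apply, Fin.sum_univ_three, pow_succ] using hc.symm
    simp [L, Fintype.linearCombination_apply, Fin.sum_univ_three, pow_succ, this, Matrix.mulVec,
      dotProduct]
    module
  have d : c 0 = 1 := by
    have := LinearMap.det_conj f (LinearEquiv.ofBijective L bij).symm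
    rw [hd] at this
    simpa [Matrix.det_fin_three] using (congrArg LinearMap.det (LinearMap.ext fun g =>
      ((LinearEquiv.ofBijective L bij).eq_symm_apply).2 (e2 g).symm)).trans this
  have e4 := bij.1 (show L _ = L ![1, 0, 0] by
    rw [← e2, ← e2, ← e2, ← e2]; exact LinearMap.congr_fun h4 _)
  obtain ⟨g, rfl⟩ := bij.2 s
  have e5 := bij.1 ((e2 g).symm.trans hs)
  refine ⟨L ![g 2, 0, 0], ?_⟩
  rw [e2, e2, ← map_add]
  have a0 := congrFun e4 0
  have a2 := congrFun e4 2
  have b0 := congrFun e5 0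
  have b1 := congrFun e5 1
  simp [Matrix.mulVec, dotProduct, Fin.sum_univ_three, d] at a0 a2 b0 b1
  congr 1
  ext i
  fin_cases i <;> simp [Matrix.mulVec, dotProduct, Fin.sum_univ_three]
  · exact b0.symm
  · linear_combination g 2 * a2 - b1 - b0 - g 2 * (c 2 + 1) * a0

end Cfsg.Agent.P10.Q
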