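/-
Groups whose `p` involutions commute and are conjugate: the linear action on the involutions.
-/
import Cfsg.Agent.P10.Q4
import Cfsg.Agent.P10.Q5

set_option autoImplicit false
set_option linter.unusedSectionVars false

namespace Cfsg.Agent.P10.Q

open Subgroup Cfsg Cfsg.Agent Cfsg.Agent.FT
open scoped commutatorElement IsMulCommutative

universe u

variable {G : Type u} [Group G] [Finite G]

/-- Coordinates on `A`, with the conjugation action as a linear representation. -/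
structure Act (A : Subgroup G) (V : Type) [AddCommGroup V] [Module (ZMod 2) V] where
  e : V → G
  add : ∀ u v, e (u + v) = e u * e v
  inj : Function.Injective e
  mem : ∀ x, x ∈ A ↔ ∃ v, e v = x
  ρ : G →* (V ≃ₗ[ZMod 2] V)
  cj : ∀ g v, e (ρ g v) = g * e v * g⁻¹

variable {T A : Subgroup G} {p : ℕ} {V : Type} [AddCommGroup V] [Module (ZMod 2) V] [Finite V]

theorem Py.act (h : Py A p) (hV : Nat.card V = p + 1) : Nonempty (Act A V) := by
  have := h.normal
  have : IsMulCommutative A := ⟨⟨fun a b => Subtype.ext (h.comm b.2 a a.2)⟩⟩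
  have hh : ∀ v : A, v ^ 2 = 1 := fun v => Subtype.ext (by simpa [sq] using (h.mem _).1 v.2)
  have : Module.Finite (ZMod 2) V := Module.Finite.of_finite
  let φ : H1.EA A hh ≃ₗ[ZMod 2] V := LinearEquiv.ofFinrankEq _ _ (Nat.pow_right_injective le_rfl (by
    have e1 := Module.natCard_eq_pow_finrank (K := ZMod 2) (V := V)
    have e2 := Module.natCard_eq_pow_finrank (K := ZMod 2) (V := H1.EA A hh)
    rw [Nat.card_zmod] at e1 e2
    exact e2.symm.trans ((H1.card_EA hh).trans (h.card.trans (hV.symm.trans e1)))))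
  exact ⟨⟨fun v => ((H1.eaOf hh).symm (φ.symm v) : A), fun u v => by rw [map_add]; rfl,
    fun u v e => φ.symm.injective ((H1.eaOf hh).symm.injective (Subtype.ext e)),
    fun x => ⟨fun e => ⟨φ (H1.eaOf hh ⟨x, e⟩), by simp⟩, fun ⟨v, e⟩ => e ▸ Subtype.prop _⟩,
    (LinearMap.GeneralLinearGroup.generalLinearEquiv _ V).toMonoidHom.comp
      (φ.conjRingEquiv.toMonoidHom.comp (H1.autRep hh MulAut.conjNormal)).toHomUnits,
    fun g v => congrArg (fun w => (((H1.eaOf hh).symm w : A) : G)) (φ.symm_apply_apply _)⟩⟩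

namespace Act

variable (a : Act A V)

theorem zero : a.e 0 = 1 := mul_left_cancel (a := a.e 0) (by rw [← a.add, add_zero, mul_one])

theorem ne {v : V} : a.e v ≠ 1 ↔ v ≠ 0 := by rw [← a.zero, a.inj.ne_iff]

theorem emem (v : V) : a.e v ∈ A := (a.mem _).2 ⟨v, rfl⟩

/-- `g` induces `σ`. -/
def Ind (g : G) (σ : V → V) : Prop := ∀ v, a.e (σ v) = g * a.e v * g⁻¹

variable {a} {g k : G} {σ τ : V → V}

theorem Ind.mul (h : a.Ind g σ) (h' : a.Ind k τ) : a.Ind (g * k) (σ ∘ τ) := fun v => by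
  rw [Function.comp, h, h']; group

theorem Ind.inv (h : a.Ind g σ) (e : ∀ v, σ (τ v) = v) : a.Ind g⁻¹ τ := fun v => by
  rw [← e v, h, e]; group

theorem Ind.pow (h : a.Ind g σ) (n : ℕ) : a.Ind (g ^ n) σ^[n] := by
  induction n with
  | zero => exact fun v => by simp
  | succ n ih => rw [pow_succ]; exact ih.mul h

theorem Ind.fix (h : a.Ind g σ) {v : V} : g ∈ 𝐂[a.e v] ↔ σ v = v := by
  rw [mem_cent1_iff_conj, ← h, a.inj.eq_iff]

theorem Ind.cent (h : a.Ind g σ) : g ∈ 𝐂(A) ↔ ∀ v, σ v = v :=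
  ⟨fun e v => h.fix.1 (mem_cent1.2 (e _ (a.emem v))), fun e x hx => by
    obtain ⟨v, rfl⟩ := (a.mem x).1 hx
    exact mem_cent1.1 (h.fix.2 (e v))⟩

theorem ker (a : Act A V) : a.ρ.ker = 𝐂(A) := Subgroup.ext fun g =>
  LinearEquiv.ext_iff.trans (Ind.cent (a.cj g)).symm

theorem ex (sur : Function.Surjective a.ρ) (σ : V → V) (add : ∀ u v, σ (u + v) = σ u + σ v)
    (inj : ∀ v, σ v = 0 → v = 0) : ∃ g, a.Ind g σ := by
  let f := (AddMonoidHom.mk' σ add).toZModLinearMap 2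
  obtain ⟨g, e⟩ := sur (LinearEquiv.ofBijective f
    (Finite.injective_iff_bijective.1 ((injective_iff_map_eq_zero f).2 inj)))
  exact ⟨g, fun v => by rw [← a.cj, e]; rfl⟩

end Act

theorem solv_of_syl {K : Subgroup G} [T.Normal] (hT : IsSyl 2 T K) : Group.IsSolvable K :=
  solv_ext (N := T.subgroupOf K) (H1.isSolvable_of_isPGroup (hT.pgrp.comap_subtype))
    (feit_thompson _ (Nat.odd_iff.2 (Nat.two_dvd_ne_zero.1 hT.ndvd)))

theorem Act.syl (a : Act A V) (hT : IsSyl 2 T 𝐂(A)) {M : Subgroup (V ≃ₗ[ZMod 2] V)}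
    (hM : Odd 𝐨(M)) : IsSyl 2 T (M.comap a.ρ) :=
  hT.trans Nat.prime_two (a.ker.ge.trans (ker_le_comap _ _)) (by
    rw [← a.ker, relIndex_ker]
    exact fun e => hM.not_two_dvd_nat (e.trans (FT.card_dvd_of_le (map_comap_le _ _))))

theorem Py.no_norm (h : Py A p) (a : Act A V) (sur : Function.Surjective a.ρ) [T.Normal]
    (hT : IsSyl 2 T 𝐂(A)) {M : Subgroup (V ≃ₗ[ZMod 2] V)} (hM : Odd 𝐨(M))
    (fpf : ∀ v, (∀ m ∈ M, m v = v) → v = 0) {j : V ≃ₗ[ZMod 2] V} (jM : j ∈ 𝐍(M)) (jj : j * j = 1) :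
    j = 1 := by
  have : Finite (V ≃ₗ[ZMod 2] V) := Finite.of_surjective _ sur
  obtain ⟨g, rfl⟩ := sur j
  have hS := a.syl hT hM
  have sK := solv_of_syl hS
  obtain ⟨U, hU⟩ := exists_hall sK {2}ᶜ
  have TU := hall_sup_hall_compl ((isSyl_iff_hall Nat.prime_two).1 hS) hU
  have gK : g ∈ 𝐍(M.comap a.ρ) := le_normalizer_comap _ jM
  obtain ⟨k, hk, n, hn, rfl⟩ := (mem_sup_of_norm inf_le_left).1
    ((hall_frattini sK hU ⟨le_norm_self _, le_rfl⟩).ge gK)
  refine P5.eq_one_of_odd hM ?_ jj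
  refine mul_mem hk (zpowers_le.2 (show n * n ∈ M.comap a.ρ from ?_) ?_)
  · have e : k * n * (k * n) ∈ M.comap a.ρ := by rw [mem_comap, map_mul, jj]; exact one_mem _
    convert mul_mem (inv_mem (mul_mem hk ((mem_normalizer_iff.1 hn.1 k).1 hk))) e using 1
    group
  rw [← sq, mem_zpowers_pow_iff, Nat.gcd_comm, ← Nat.coprime_iff_gcd_eq_one, Nat.coprime_two_right,
    ← Nat.card_zpowers]
  by_contra e
  obtain ⟨t, ht, t1, tt⟩ := exists_invol e
  obtain ⟨v, rfl⟩ := (a.mem t).1 ((h.mem t).2 tt)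
  refine a.ne.1 t1 (fpf v fun m hm => ?_)
  obtain ⟨x, rfl⟩ := sur m
  refine (Act.Ind.fix (a.cj x)).1 ((sup_le ?_ ?_ : T ⊔ U ≤ _) (TU.ge hm))
  · exact fun x hx => mem_cent1.2 (hT.le hx _ (a.emem v))
  · intro u hu
    have e1 : ⁅a.e v, u⁆ ∈ U :=
      mul_mem ((mem_normalizer_iff.1 (zpowers_le.2 hn.2 ht) u).1 hu) (inv_mem hu)
    have e2 : ⁅a.e v, u⁆ ∈ A := by
      convert mul_mem (a.emem v) (h.normal.1 _ (inv_mem (a.emem v)) u) using 1
      rw [commutatorElement_def]; group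
    exact mem_cent1.2 (commutatorElement_eq_one_iff_mul_comm.1 (P5.eq_one_of_odd
      (Nat.odd_iff.2 (Nat.two_dvd_ne_zero.1 fun e => hall_isPi hU 2 Nat.prime_two e rfl)) e1
      ((h.mem _).1 e2)))

theorem Py.no_big (h : Py A p) {n : ℕ} (hn : 2 ≤ n) (a : Act A ((Fin 2 → ZMod 2) × GaloisField 2 n))
    (sur : Function.Surjective a.ρ) [T.Normal] (hT : IsSyl 2 T 𝐂(A)) : False := by
  have : Finite (_ ≃ₗ[ZMod 2] _) := Finite.of_surjective _ sur
  have := Fintype.ofFinite (GaloisField 2 n)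
  have cF : Nat.card (GaloisField 2 n)ˣ = 2 ^ n - 1 := by
    rw [Nat.card_units, GaloisField.card 2 n (by omega)]
  have h4 : 2 ^ 2 ≤ 2 ^ n := Nat.pow_le_pow_right two_pos hn
  have := (Finite.one_lt_card_iff_nontrivial (α := (GaloisField 2 n)ˣ)).1 (by omega)
  obtain ⟨z, z1⟩ := exists_ne (1 : (GaloisField 2 n)ˣ)
  let d : (Fin 2 → ZMod 2) ≃ₗ[ZMod 2] Fin 2 → ZMod 2 :=
    Matrix.toLin'OfInv (M := !![0, 1; 1, 1]) (M' := !![1, 1; 1, 0]) (by decide) (by decide)
  let s : (Fin 2 → ZMod 2) ≃ₗ[ZMod 2] Fin 2 → ZMod 2 :=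
    Matrix.toLin'OfInv (M := !![0, 1; 1, 0]) (M' := !![0, 1; 1, 0]) (by decide) (by decide)
  let D := d.prodCongr (LinearEquiv.refl (ZMod 2) (GaloisField 2 n))
  let S := s.prodCongr (LinearEquiv.refl (ZMod 2) (GaloisField 2 n))
  let J := (LinearEquiv.refl (ZMod 2) (Fin 2 → ZMod 2)).prodCongr
    (DistribMulAction.toLinearEquiv (ZMod 2) (GaloisField 2 n) z)
  have D3 : D ^ 3 = 1 := LinearEquiv.ext fun v =>
    Prod.ext ((by decide : ∀ v, d (d (d v)) = v) v.1) rfl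
  have SS : S * S = 1 := LinearEquiv.ext fun v => Prod.ext ((by decide : ∀ v, s (s v) = v) v.1) rfl
  have SD : S * D * S⁻¹ = D * D := mul_inv_eq_of_eq_mul (LinearEquiv.ext fun v =>
    Prod.ext ((by decide : ∀ v, s (d v) = d (d (s v))) v.1) rfl)
  have Jk : ∀ k : ℕ, ∀ v, (J ^ k) v = (v.1, z ^ k • v.2) := fun k v => by
    induction k with
    | zero => simp
    | succ k ih => rw [pow_succ', LinearEquiv.mul_apply, ih, pow_succ', mul_smul]; rfl
  have cJ : ∀ X, J * X = X * J → X ∈ 𝐍(zpowers J) := fun X e =>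
    cent_le_norm _ (by rw [cent_zpowers]; exact mem_cent1.2 e)
  have := h.no_norm a sur hT (M := zpowers D ⊔ zpowers J) (P5.Mx.odd_sup (zpowers_le.2 (cJ _ rfl))
    (Nat.card_zpowers D ▸ Odd.of_dvd_nat (by decide) (orderOf_dvd_of_pow_eq_one D3))
    (Nat.card_zpowers J ▸ Odd.of_dvd_nat (n := 2 ^ n - 1) (Nat.Even.sub_odd (by omega)
      (Nat.even_pow.2 ⟨even_two, by omega⟩) odd_one) (orderOf_dvd_of_pow_eq_one
      (LinearEquiv.ext fun v => by rw [Jk, ← cF, pow_card_eq_one', one_smul]; rfl))))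
    (fun v e => Prod.ext ((by decide : ∀ v, d v = v → v = 0) v.1
      (congrArg Prod.fst (e D (mem_sup_left (mem_zpowers _))))) (of_not_not fun e' => z1
        (Units.ext ((mul_left_eq_self₀.1 (congrArg Prod.snd
          (e J (mem_sup_right (mem_zpowers _))))).resolve_right e'))))
    (j := S) (H1.le_normalizer_sup (A := zpowers S) (zpowers_le.2 (mem_normalizer_fintype ?_))
      (zpowers_le.2 (cJ _ rfl)) (mem_zpowers _)) SS
  · exact (by decide : ¬ ∀ v, s v = v) fun v => congrArg Prod.fst (LinearEquiv.congr_fun this (v, 0))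
  · rintro _ ⟨k, rfl⟩
    rw [← conj_zpow, SD]
    exact zpow_mem (mul_mem (mem_zpowers _) (mem_zpowers _)) k

theorem Act.ex_two (a : Act A V) (sur : Function.Surjective a.ρ) [T.Normal] (hT : IsSyl 2 T 𝐂(A))
    (σ : V → V) (add : ∀ u v, σ (u + v) = σ u + σ v) (inv : ∀ v, σ (σ v) = v) :
    ∃ x, x * x ∈ T ∧ a.Ind x σ := by
  obtain ⟨g, hg⟩ := a.ex sur σ add fun v e => by
    rw [← inv v, e]; simpa using add 0 0
  obtain ⟨k, hk⟩ := Nat.odd_iff.2 (Nat.two_dvd_ne_zero.1 hT.ndvd)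
  have e : g * g ∈ 𝐂(A) := (hg.mul hg).cent.2 inv
  refine ⟨g ^ (2 * k + 1), ?_, ?_⟩
  · rw [← (Commute.refl g).mul_pow, ← hk]
    exact pow_index_mem (H := T.subgroupOf 𝐂(A)) ⟨_, e⟩
  · have := hg.pow (2 * k + 1)
    rwa [Function.Involutive.iterate_odd inv ⟨k, rfl⟩] at this

set_option synthInstance.maxSize 1024 in
theorem plane : ∀ u v w : Fin 3 → ZMod 2, u ≠ 0 → v ≠ 0 → u ≠ v →
    w + (crossProduct u v ⬝ᵥ w) • u = w → w = 0 ∨ w = u ∨ w = v ∨ w = u + v := by decide +kernel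

theorem Py.special (h : Py A p) (a : Act A (Fin 3 → ZMod 2)) (sur : Function.Surjective a.ρ)
    [T.Normal] (hT : IsSyl 2 T 𝐂(A)) (sq : ∀ x ∈ T, x * x ∈ A) : IsMulCommutative T := by
  have AT := h.le hT
  have nA := h.normal
  have hc : A.subgroupOf T ≤ center T := fun v hv => mem_center_iff.2 fun t =>
    Subtype.ext (hT.le t.2 v hv).symm
  have h1 : ∀ x : T, x ^ 2 = 1 ↔ x ∈ A.subgroupOf T := fun x => by
    rw [mem_subgroupOf, h.mem, Subtype.ext_iff, pow_two]; rfl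
  have h2 : ∀ x : T, x ^ 2 ∈ A.subgroupOf T := fun x => by rw [pow_two]; exact sq x x.2
  obtain ⟨F, hF⟩ : ∃ F, ∀ v ∈ A.subgroupOf T, v ≠ 1 → Nat.card {t : T // t ^ 2 = v} = F := by
    refine ⟨Nat.card {t : T // t ^ 2 = ⟨_, AT (a.emem 1)⟩}, fun v hv v1 => ?_⟩
    obtain ⟨g, e⟩ := h.cj v hv (by simpa using v1) _ (a.emem 1) (a.ne.2 (by decide))
    exact Nat.card_congr ((MulAut.conjNormal g : MulAut T).toEquiv.subtypeEquiv fun t => by
      rw [← (MulAut.conjNormal g : MulAut T).injective.eq_iff, map_pow,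
        show MulAut.conjNormal g v = ⟨_, AT (a.emem 1)⟩ from Subtype.ext e]; rfl)
  by_contra na
  by_cases hFN : F = Nat.card (A.subgroupOf T)
  · have iq : ∀ x ∈ T, ∀ y ∈ T, x * x = y * y → x⁻¹ * y ∈ A := fun x hx y hy e =>
      H1.aniso_mem_of_sq_eq hc h1 h2 hF hFN (x := ⟨x, hx⟩) (y := ⟨y, hy⟩)
        (Subtype.ext (by simpa [pow_two] using e))
    refine na ⟨⟨fun ⟨x, hx⟩ ⟨y, hy⟩ => Subtype.ext (of_not_not fun e : ¬ x * y = y * x => ?_)⟩⟩
    have xA : x ∉ A := fun e' => e (hT.le hy x e')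
    have yA : y ∉ A := fun e' => e (hT.le hx y e').symm
    have zA : x⁻¹ * y ∉ A := fun e' => e (by
      simpa [mul_assoc] using congrArg (x * ·) (hT.le hx _ e').symm)
    obtain ⟨u, hu⟩ := (a.mem _).1 (sq x hx)
    obtain ⟨v, hv⟩ := (a.mem _).1 (sq y hy)
    obtain ⟨w, hw⟩ := (a.mem _).1 (sq _ (mul_mem hx hy))
    obtain ⟨g, hg⟩ := a.ex sur (fun w => w + (crossProduct u v ⬝ᵥ w) • u)
      (fun _ _ => by rw [dotProduct_add, add_smul]; abel) ((by decide +kernel :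
        ∀ u v w : Fin 3 → ZMod 2, w + (crossProduct u v ⬝ᵥ w) • u = 0 → w = 0) u v)
    have fx : ∀ x ∈ T, ∀ u', a.e u' = x * x → crossProduct u v ⬝ᵥ u' = 0 →
        ∃ b ∈ A, g * x * g⁻¹ = x * b := fun x hx u' e e' =>
      ⟨_, iq x hx _ (‹T.Normal›.1 x hx g) (by rw [conj_mul, ← e, ← hg]; simp [e']),
        (mul_inv_cancel_left ..).symm⟩
    obtain ⟨b, hb, e1⟩ := fx x hx u hu (by simp [triple_product_permutation, dotProduct_comm])
    obtain ⟨c, hc, e2⟩ := fx y hy v hv (by simp [dotProduct_comm])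
    have e3 : g ∈ 𝐂[a.e w] := by
      have bc := mul_mem hb hc
      rw [mem_cent1_iff_conj, hw, ← conj_mul, ← conj_mul, e1, e2, mul_assoc x b, ← mul_assoc b,
        hT.le hy b hb, mul_assoc y, ← mul_assoc x, mul_mul_mul_comm' (hT.le (mul_mem hx hy) _ bc).symm,
        (h.mem _).1 bc, mul_one]
    rcases plane u v w
      (a.ne.1 fun e => xA ((h.mem x).2 (hu ▸ e))) (a.ne.1 fun e => yA ((h.mem y).2 (hv ▸ e)))
      (fun e => zA (iq x hx y hy (by rw [← hu, ← hv, e]))) (hg.fix.1 e3) with rfl | rfl | rfl | rfl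
    · refine zA ?_
      convert mul_mem (inv_mem (sq x hx)) ((h.mem _).2 (hw.symm.trans a.zero)) using 1
      group
    · exact yA (by simpa using iq x hx _ (mul_mem hx hy) (hu.symm.trans hw))
    · exact xA (by simpa using nA.mem_comm_iff.1 (iq y hy _ (mul_mem hx hy) (hv.symm.trans hw)))
    · rw [a.add, hu, hv] at hw
      exact e (by simpa [mul_assoc] using congrArg (fun z => x⁻¹ * z * y⁻¹) hw)
  · obtain ⟨x, xx, hx⟩ := a.ex_two sur hT (fun w => ![w 2, w 1, w 0]) (by decide) (by decide)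
    have : (A.subgroupOf T).Normal := inferInstance
    have : IsMulCommutative (T ⧸ A.subgroupOf T) := Normal.quotient_commutative_iff_commutator_le.2
      (commutator_le.2 fun a _ b _ => H1.aniso_commutator_mem h2 a b)
    let π := QuotientGroup.mk' (A.subgroupOf T)
    let θ : MulAut T := MulAut.conjNormal x
    let ψ : T →* T ⧸ A.subgroupOf T := π.comp θ.toMonoidHom * π
    have q2 : ∀ t, π t * π t = 1 := fun t => by
      rw [← map_mul, ← pow_two]; exact (QuotientGroup.eq_one_iff _).2 (h2 t)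
    have mem : ∀ t, t ∈ ψ.ker ↔ θ t * t ∈ A.subgroupOf T := fun t => QuotientGroup.eq_one_iff _
    have VW : A.subgroupOf T ≤ ψ.ker := fun v hv => (mem v).2 (mul_mem (nA.1 _ hv x) hv)
    refine aniso_sing hc h1 h2 hF hFN (fun e => na (center_eq_top_iff.1 (top_le_iff.1 (e ▸ hc))))
      (B := 𝐂[x].subgroupOf T) (W := ψ.ker) ?_ (fun w hw => ?_) ?_
    · rw [relIndex_subgroupOf AT, relIndex_eq_two_iff]
      refine ⟨_, a.emem ![1, 0, 0], fun b hb => ?_⟩
      obtain ⟨v, rfl⟩ := (a.mem b).1 hb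
      rw [← a.add, mem_cent1_comm, hx.fix, mem_cent1_comm, hx.fix]
      clear hb; revert v; decide
    · have e := (mem w).1 hw
      have e1 : θ w = θ w * w * w⁻¹ := by simp
      have e2 : θ (w ^ 2) = w ^ 2 := by
        rw [map_pow, e1, (show Commute _ _ from (mem_center_iff.1 (hc e) _).symm).mul_pow,
          (h1 _).2 e, one_mul, inv_pow, inv_eq_iff_mul_eq_one, ← pow_two, (h1 _).2 (h2 w)]
      exact mem_cent1_comm.1 (mem_cent1_iff_conj.2 (congrArg Subtype.val e2))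
    · have e1 : ψ.range ≤ ψ.ker.map π := by
        rintro _ ⟨t, rfl⟩
        refine ⟨θ t * t, ?_, map_mul π _ _⟩
        have : π (θ (θ t)) = π t := by
          rw [show θ (θ t) = ⟨_, xx⟩ * t * ⟨_, xx⟩⁻¹ from Subtype.ext (by simp [θ, mul_assoc]),
            map_mul, map_mul, map_inv, mul_inv_cancel_comm]
        change π (θ (θ t * t)) * π (θ t * t) = 1
        simp only [map_mul, this]
        rw [mul_comm (π (θ t)) (π t), mul_mul_mul_comm, q2, q2, one_mul]
      have e2 := card_le_of_le e1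
      rw [← relIndex_ker, QuotientGroup.ker_mk', ← index_ker] at e2
      rw [← ψ.ker.card_mul_index, pow_two, mul_left_comm]
      exact Nat.mul_le_mul_left _ ((Nat.mul_le_mul_left _ e2).trans_eq (H1.card_mul_relIndex VW))

theorem Py.abelian (h : Py A p) (a : Act A (Fin 3 → ZMod 2)) (sur : Function.Surjective a.ρ)
    [T.Normal] (hT : IsSyl 2 T 𝐂(A)) [IsMulCommutative T] (CT : 𝐂(A) ≤ T) : False := by
  classical
  have AT := h.le hT
  have ex : ∃ n, ∀ t : T, t ^ 2 ^ n = 1 := (IsPGroup.iff_card.1 hT.pgrp).imp fun n hn t => by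
    rw [← hn, pow_card_eq_one']
  have hh := Nat.find_spec ex
  obtain ⟨k, hk⟩ := Nat.exists_eq_add_one_of_ne_zero (n := Nat.find ex) fun e =>
    a.ne.2 one_ne_zero (by rw [e] at hh; simpa using hh ⟨_, AT (a.emem 1)⟩)
  rw [hk] at hh
  obtain ⟨t0, t1⟩ := not_forall.1 (Nat.find_min ex (k.lt_succ_self.trans_eq hk.symm))
  obtain ⟨n, hn⟩ := h.cj ((t0 : G) ^ 2 ^ k) ((h.mem _).2 (by
    rw [← pow_two, ← pow_mul]; exact congrArg Subtype.val (hh t0))) (fun e => t1 (Subtype.ext e)) _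
    (a.emem (Pi.single 0 1)) (a.ne.2 (by decide))
  obtain ⟨v, hv⟩ := a.ex sur (fun w => ![w 2, w 1, w 0]) (by decide) (by decide)
  obtain ⟨g, hg⟩ := a.ex sur (fun w => ![w 0, w 1 + w 2, w 1]) (by decide) (by decide)
  have hy := ((hv.mul hg).mul hv).mul (hg.inv (τ := fun w => ![w 0, w 2, w 1 + w 2]) (by decide))
  let σ := H1.autRep hh (MulAut.conjNormal : G →* MulAut T)
  have σ1 : ∀ x ∈ 𝐂(A), σ x = 1 := fun x hx => (H1.autRep_eq_one_iff ..).2 (MulEquiv.ext fun t =>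
    Subtype.ext (mul_inv_eq_of_eq_mul (setLike_mul_comm (CT hx) t.2)))
  have d1 : LinearMap.det (σ (v * g * v * g⁻¹)) = 1 := by
    let δ := LinearMap.det.comp σ
    have : δ (v * v) = 1 := by
      rw [MonoidHom.comp_apply, σ1 _ ((hv.mul hv).cent.2 (by decide)), map_one]
    change δ _ = 1
    rw [map_mul, map_mul, map_mul, mul_right_comm (δ v), mul_assoc, ← map_mul, ← map_mul, this,
      mul_inv_cancel, map_one, mul_one]
  generalize v * g * v * g⁻¹ = y at hy d1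
  have y4 : y ^ 4 ∈ 𝐂(A) := (hy.pow 4).cent.2 (by decide)
  obtain ⟨u, e⟩ := companion (σ y) (H1.eaOf hh (MulAut.conjNormal n t0))
    (AddMonoidHom.mk' (fun v => H1.eaOf hh ⟨_, AT (a.emem v)⟩) fun u v =>
      congrArg (H1.eaOf hh) (Subtype.ext (a.add u v)))
    (fun u v e => a.inj (congrArg Subtype.val ((H1.eaOf hh).injective e))) (fun m e => by
      obtain ⟨m, rfl⟩ := (H1.eaOf hh).surjective m
      obtain ⟨v, hv⟩ := (a.mem m).1 ((h.mem _).2 (by
        rw [← pow_two]; exact congrArg Subtype.val ((H1.eaOf_eq_zero hh (v := m ^ 2)).1 e)))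
      exact ⟨v, congrArg (H1.eaOf hh) (Subtype.ext hv)⟩) (fun i => by
      rw [← map_pow, H1.autRep_apply, ← H1.eaOf_pow, ← map_pow, ← map_pow]
      refine congrArg (H1.eaOf hh) (Subtype.ext ?_)
      have := hy.pow i (Pi.single 0 1)
      rw [← hn] at this
      refine this.symm.trans (congrArg a.e ?_)
      clear this; revert i; decide) d1 (by rw [← map_pow, σ1 _ y4])
    (s := H1.eaOf hh ⟨_, CT y4⟩) (congrArg (H1.eaOf hh) (Subtype.ext
      (show y * y ^ 4 * y⁻¹ = y ^ 4 by group)))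
  obtain ⟨u, rfl⟩ := (H1.eaOf hh).surjective u
  have e' : y ^ 4 = u * (y * (y * u * y⁻¹) * y⁻¹) := congrArg Subtype.val ((H1.eaOf hh).injective e)
  have e2 : y ^ 2 * (u : G)⁻¹ ∈ A := (h.mem _).2 (by
    have c := setLike_mul_comm u.2 (‹T.Normal›.1 _ (‹T.Normal›.1 _ u.2 y) y)
    calc _ = (y * (y * u * y⁻¹) * y⁻¹)⁻¹ * y ^ 4 * (u : G)⁻¹ := by group
      _ = 1 := by rw [e', c]; group)
  exact (by decide : ¬ _) ((hy.pow 2).cent.1
    ((mul_mem_cancel_right (inv_mem (hT.le u.2))).1 (h.comm e2)))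

end Cfsg.Agent.P10.Q
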