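/-
Groups with one class of involutions of odd prime power size.
-/
import Cfsg.Agent.P10.Q6
import Cfsg.Agent.P7.Final
import Cfsg.Agent.H9.ClassSize
import Cfsg.Agent.H5.Real

set_option autoImplicit false
set_option linter.unusedSectionVars false

namespace Cfsg.Agent.P10.Q

open Subgroup Cfsg Cfsg.Agent Cfsg.Agent.FT

universe u

theorem oneClass : OneClass.{u} := fun G _ _ hs na sq a b ha hb => by
  have hs' : IsSimpleGroup (⊤ : Subgroup G) := topEquiv.isSimpleGroup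
  have na' : ¬ IsMulCommutative (⊤ : Subgroup G) := fun e => na ⟨⟨fun a b =>
    setLike_mul_comm (s := (⊤ : Subgroup G)) trivial trivial⟩⟩
  obtain ⟨g, -, e⟩ := (P7.gd_of P7.k3All hs' na' (P7.walter P7.k3All hs' na' fun P hP =>
    (P7.elem_of_four (fun x e => Subtype.ext (sq x (congrArg Subtype.val e))) hP).1)).cj
    a trivial b trivial ha hb
  exact ⟨g, e⟩

/-- Transitive linear groups over `𝔽₂` of Mersenne prime degree. -/
def Mers : Prop := ∀ (V : Type) [AddCommGroup V] [Module (ZMod 2) V] [Finite V] (n : ℕ),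
  Module.finrank (ZMod 2) V = n → (2 ^ n - 1).Prime → ∀ H : Subgroup (V ≃ₗ[ZMod 2] V),
    (∀ v w : V, v ≠ 0 → w ≠ 0 → ∃ h ∈ H, h v = w) →
      Nat.card H = 2 ^ n - 1 ∨ Nat.card H = n * (2 ^ n - 1) ∨ H = ⊤

variable {G : Type u} [Group G] [Finite G] {A : Subgroup G} {p : ℕ}

theorem Py.solvable (hM : Mers) (h0 : pPrimeCore 2 G = ⊥) (h : Py A p) : Group.IsSolvable G := by
  obtain ⟨T, hT⟩ := exists_isSyl Nat.prime_two 𝐂(A)
  obtain ⟨nT, CT⟩ := h.normal_syl oneClass h0 hT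
  obtain ⟨n, hn⟩ := IsPGroup.iff_card.1 h.two
  have nA := h.normal
  have hp := h.hp
  have e1 : p + 1 = 2 ^ n := h.card.symm.trans hn
  have e2 : p = 2 ^ n - 1 := by omega
  have pn := (Nat.prime_of_pow_sub_one_prime (n := n)
    (by rintro rfl; exact hp.one_lt.ne' e2) (e2 ▸ hp)).2
  rcases pn.eq_two_or_odd' with rfl | on
  · refine solv_of_23 (h.solv_cent hT) fun r hr r5 R hR x hx a ha => ?_
    by_cases a1 : a = 1
    · simp [a1]
    have := Fact.mk hr
    obtain ⟨j, hj⟩ := IsPGroup.index hR (𝐂[a].subgroupOf R)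
    have e : 𝐂[a].relIndex R ≤ 4 := by
      rw [← H6.ncard_conj_orbit, show 4 = (A : Set G).ncard from hn.symm]
      exact Set.ncard_le_ncard (by rintro _ ⟨g, -, rfl⟩; exact nA.1 a ha g)
    rcases j with _ | j
    · exact mem_cent1.1 (relIndex_eq_one.1 hj hx)
    · exact absurd ((Nat.le_self_pow j.succ_ne_zero r).trans (hj.ge.trans e)) (by omega)
  have key : ∀ (V : Type) [AddCommGroup V] [Module (ZMod 2) V] [Finite V], Nat.card V = 2 ^ n →
      (∀ a : Act A V, ¬ Function.Surjective a.ρ) → Group.IsSolvable G := fun V _ _ _ hV ns => by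
    obtain ⟨a⟩ := h.act (hV.trans e1.symm)
    have : Module.Finite (ZMod 2) V := Module.Finite.of_finite
    have o : Odd 𝐨(a.ρ.range) := by
      have op := e2 ▸ hp.odd_of_ne_two h.p2
      rcases hM V n (Nat.pow_right_injective le_rfl (by
        have := Module.natCard_eq_pow_finrank (K := ZMod 2) (V := V)
        rw [Nat.card_zmod] at this
        exact this.symm.trans hV)) (e2 ▸ hp) a.ρ.range (fun v w hv hw => by
        obtain ⟨g, e⟩ := h.cj _ (a.emem v) (a.ne.2 hv) _ (a.emem w) (a.ne.2 hw)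
        exact ⟨_, ⟨g, rfl⟩, a.inj ((a.cj g v).trans e)⟩) with e | e | e
      · exact e ▸ op
      · exact e ▸ on.mul op
      · exact absurd (MonoidHom.range_eq_top.1 e) (ns a)
    have := solv_of_syl (a.syl hT o)
    rw [MonoidHom.comap_range_self] at this
    exact solvable_of_surjective (f := (⊤ : Subgroup G).subtype) fun x => ⟨⟨x, trivial⟩, rfl⟩
  by_cases n3 : n = 3
  · refine key (Fin 3 → ZMod 2) (by simp [n3]) fun a sur => ?_
    have : IsMulCommutative T := of_not_not fun na => by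
      obtain ⟨y, m, H, oy, hy⟩ := h.exists_hig hT
      exact na (h.special a sur hT (H.sq_mem oy hy na))
    exact h.abelian a sur hT (CT this)
  · obtain ⟨m, rfl⟩ := Nat.exists_eq_add_of_le pn.two_le
    have : 2 ≤ m := by obtain ⟨k, hk⟩ := on; have := pn.two_le; have := pn.one_lt.ne'; omega
    exact key ((Fin 2 → ZMod 2) × GaloisField 2 m) (by
      rw [Nat.card_prod, GaloisField.card 2 m (by omega), pow_add]; simp) fun a sur =>
      h.no_big this a sur hT

theorem index_cent {t : G} (t1 : t ≠ 1) (tt : t * t = 1)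
    (hc : ∀ x y : G, orderOf x = 2 → orderOf y = 2 → ∃ g, g * x * g⁻¹ = y) :
    𝐂[t].index = {x : G | x ≠ 1 ∧ x * x = 1}.ncard := by
  rw [← relIndex_top_right, ← H6.ncard_conj_orbit]
  refine congrArg _ (Set.ext fun x => ⟨?_, fun e => ?_⟩)
  · rintro ⟨g, -, rfl⟩; exact ⟨by simpa using t1, by rw [conj_mul, tt]; simp⟩
  · exact (hc t x (orderOf_two_iff.2 ⟨t1, tt⟩) (orderOf_two_iff.2 e)).imp fun g e => ⟨trivial, e⟩

theorem arith {p j n : ℕ} (hp : Odd p) (h : p ^ j + 1 = 2 ^ n) : p ^ j = 1 ∨ p ^ j = p := by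
  obtain ⟨q, rfl⟩ := hp
  have e : ∀ i, ∃ c, (2 * q + 1) ^ (2 * i) = 1 + (4 * q + 4) * c := fun i => by
    induction i with
    | zero => exact ⟨0, rfl⟩
    | succ i ih => exact ih.elim fun c hc => ⟨c + q + (4 * q + 4) * c * q, by
        rw [mul_add, pow_add, hc]; ring⟩
  obtain ⟨i, rfl | rfl⟩ := Nat.even_or_odd' j <;> obtain ⟨c, hc⟩ := e i
  · have := H1.eq_one_of_two_pow_eq_mul (a := 2) (o := 2 * ((q + 1) * c) + 1)
      (by rw [← h, hc]; ring) (odd_two_mul_add_one _)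
    left; rw [hc]; nlinarith
  · have := H1.eq_one_of_two_pow_eq_mul (a := 2 * q + 2) (o := 2 * ((2 * q + 1) * c) + 1)
      (by rw [← h, pow_succ, hc]; ring) (odd_two_mul_add_one _)
    right; rw [pow_succ, hc]; nlinarith

theorem core_free (hM : Mers) (h0 : pPrimeCore 2 G = ⊥) (hp : p.Prime) (p2 : p ≠ 2)
    (hc : ∀ x y : G, orderOf x = 2 → orderOf y = 2 → ∃ g, g * x * g⁻¹ = y) {j : ℕ}
    (hj : {x : G | x ≠ 1 ∧ x * x = 1}.ncard = p ^ j) : p ^ j = 1 ∨ Group.IsSolvable G := by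
  have hO : pCore p G = ⊥ := by
    have := Fact.mk hp
    obtain ⟨n, hn⟩ := IsPGroup.iff_card.1 (L.isPGroup_pCore (G := G) p)
    exact eq_bot_iff.2 (h0 ▸ L.le_pPrimeCore inferInstance
      (hn ▸ ((Nat.coprime_primes hp Nat.prime_two).2 p2).pow_left n))
  have f := fun x x1 xx => H6.mem_fitting_inf_centralizer_of_index_centralizer hp
    ((index_cent (t := x) x1 xx hc).trans hj) hO
  let A : Subgroup G :=
    { carrier := {x | x * x = 1}
      one_mem' := mul_one 1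
      inv_mem' := fun {x} e => by rw [Set.mem_setOf_eq, ← mul_inv_rev, e, inv_one]
      mul_mem' := fun {x y} ex ey => by
        by_cases x1 : x = 1
        · simpa [x1] using ey
        by_cases y1 : y = 1
        · simpa [y1] using ex
        rw [Set.mem_setOf_eq, mul_mul_mul_comm' ((f y y1 ey).2 x (f x x1 ex).1), ex, ey, mul_one] }
  have cA : 𝐨(A) = p ^ j + 1 := by
    rw [← hj, ← Set.ncard_insert_of_notMem (a := 1) (by simp)]
    exact congrArg Set.ncard (Set.ext fun x => by by_cases e : x = 1 <;> simp [e, A])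
  obtain ⟨n, hn⟩ := IsPGroup.iff_card.1 (show IsPGroup 2 A from fun a =>
    ⟨1, Subtype.ext (by simpa [sq] using show (a : G) * a = 1 from a.2)⟩)
  refine (arith (hp.odd_of_ne_two p2) (cA.symm.trans hn)).imp_right fun e => Py.solvable hM h0
    (A := A) ⟨hp, p2, fun _ => Iff.rfl, by rw [cA, e], fun a ha a1 b hb b1 =>
      hc a b (orderOf_two_iff.2 ⟨a1, ha⟩) (orderOf_two_iff.2 ⟨b1, hb⟩)⟩

theorem solvable (hM : Mers) (hp : p.Prime) (p2 : p ≠ 2) {k : ℕ}
    (hk : Nat.card {x : G // orderOf x = 2} = p ^ k)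
    (hc : ∀ x y : G, orderOf x = 2 → orderOf y = 2 → ∃ g, g * x * g⁻¹ = y)
    (h : Odd k ∨ p ^ k = 9) : Group.IsSolvable G := by
  simp only [orderOf_two_iff] at hk
  obtain ⟨⟨t, t1, tt⟩⟩ := (Nat.card_pos_iff.1 (hk ▸ pow_pos hp.pos k)).1
  have ho : Odd 𝐨(pPrimeCore 2 G) := Nat.coprime_two_right.1 (L.coprime_card_pPrimeCore 2)
  have inv : ∀ x : G, x ≠ 1 → x * x = 1 → (x : G ⧸ pPrimeCore 2 G) ≠ 1 ∧
      (x : G ⧸ pPrimeCore 2 G) * x = 1 := fun x x1 xx =>
    ⟨fun e => x1 (P5.eq_one_of_odd ho ((QuotientGroup.eq_one_iff x).1 e) xx), by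
      rw [← QuotientGroup.mk_mul, xx]; rfl⟩
  have hc' : ∀ x y : G ⧸ pPrimeCore 2 G, orderOf x = 2 → orderOf y = 2 → ∃ g, g * x * g⁻¹ = y :=
    fun x y hx hy => by
    obtain ⟨x, rfl, ex⟩ := H5.exists_lift_orderOf_eq _ x (by rw [hx]; exact Nat.coprime_two_left.2 ho)
    obtain ⟨y, rfl, ey⟩ := H5.exists_lift_orderOf_eq _ y (by rw [hy]; exact Nat.coprime_two_left.2 ho)
    obtain ⟨g, rfl⟩ := hc x y (ex.trans hx) (ey.trans hy)
    exact ⟨g, rfl⟩
  have i1 := (index_cent t1 tt hc).trans hk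
  obtain ⟨j, -, hj⟩ := (Nat.dvd_prime_pow hp).1 (i1 ▸ H9.index_centralizer_mk_dvd (pPrimeCore 2 G) t)
  rw [index_cent (inv t t1 tt).1 (inv t t1 tt).2 hc'] at hj
  rcases core_free hM (L.pPrimeCore_quotient_pPrimeCore Nat.prime_two) hp p2 hc' hj with e | e
  swap
  · exact solv_ext (P5.Mx.isSolvable_of_odd ho) e
  obtain ⟨z, hz⟩ := Set.ncard_eq_one.1 (hj.trans e)
  have hu : ∀ t : G, t ≠ 1 → t * t = 1 → ∀ a ∈ 𝐂[t], a * a = 1 → a = 1 ∨ a = t :=
    fun t t1 tt a ha aa => or_iff_not_imp_left.2 fun a1 => inv_mul_eq_one.1 (P5.eq_one_of_odd ho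
      (QuotientGroup.eq.1 ((hz.le (inv a a1 aa)).trans (hz.le (inv t t1 tt)).symm)) (by
      rw [P5.inv_eq_of_sq aa, mul_mul_mul_comm' (mem_cent1.1 ha).symm, aa, tt, mul_one]))
  rcases h with h | h
  · exact of_not_not fun ns => Nat.not_even_iff_odd.2 h (even_case hp p2 tt (fun a a1 aa =>
      hc a t (orderOf_two_iff.2 ⟨a1, aa⟩) (orderOf_two_iff.2 ⟨t1, tt⟩)) (hu t t1 tt) i1 ns)
  · exact nine (hk.trans h) hu

theorem main (hM : Mers) (p k : ℕ) (hp : p.Prime) (hp2 : p ≠ 2) (hk : 1 ≤ k) :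
    (∀ (G : Type) [Group G] [Finite G], Nat.card {x : G // orderOf x = 2} = p ^ k →
      (∀ x y : G, orderOf x = 2 → orderOf y = 2 → ∃ g : G, g * x * g⁻¹ = y) →
        Group.IsSolvable G) ↔ (Odd k ∨ p ^ k = 9) := by
  refine ⟨fun h => (Nat.even_or_odd k).symm.imp_right fun ⟨m, e⟩ => of_not_not fun n9 => ?_,
    fun h G _ _ h1 h2 => solvable hM hp hp2 h1 h2 h⟩
  subst e
  obtain ⟨G, _, _, h1, h2, h3⟩ := exists_counter hp hp2 (m := m) (by omega) fun e =>
    n9 (by rw [pow_add, e]; rfl)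
  exact h3 (h G h1 h2)

end Cfsg.Agent.P10.Q
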